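import Cfsg.Agent.Lib.CoreKilling.Basic
import Cfsg.Agent.Lib.Signalizer.SSFT.Main

/-!
# The core-killing setting from a normal elementary abelian subgroup of rank three

* `card_sq_le` : an involution fixes at least a square root of an elementary abelian 2-group
* `exists_setting` : if the cores form a solvable signalizer functor on every elementary abelian
  subgroup of order at least 8, `S` has a normal such `B`, then `⟨O(C(b)) : b ∈ B#⟩` gives a
  `Setting`
* `exists_rank_three` : every involution of `S` lies in an elementary abelian subgroup of order 8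
-/

set_option autoImplicit false

namespace Cfsg.Agent.CoreKilling

open Subgroup
open scoped Pointwise

variable {G : Type*} [Group G] [Finite G]

theorem card_le_sq {B : Subgroup G} (hB : Cfsg.IsElementaryAbelian 2 B) {x : G}
    (hx : x * x = 1) (hxB : ∀ b ∈ B, x * b * x⁻¹ ∈ B) :
    Nat.card B ≤ Nat.card ↥(B ⊓ centralizer ({x} : Set G)) ^ 2 := by
  have hcomm : ∀ {a b : G}, a ∈ B → b ∈ B → Commute a b := fun ha hb =>
    Signalizer.commute_of_isMulCommutative hB.1 ha hb
  let ψ : B →* B :=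
    { toFun := fun b => ⟨(b : G) * (x * b * x⁻¹), B.mul_mem b.2 (hxB b b.2)⟩
      map_one' := Subtype.ext (by simp)
      map_mul' := fun a b => Subtype.ext (by
        show (a : G) * b * (x * (a * b) * x⁻¹) = a * (x * a * x⁻¹) * (b * (x * b * x⁻¹))
        rw [show x * ((a : G) * b) * x⁻¹ = (x * a * x⁻¹) * (x * b * x⁻¹) by group,
          mul_assoc (a : G) b, ← mul_assoc (b : G), (hcomm b.2 (hxB a a.2)).eq]
        group) }
  have hxi : x⁻¹ = x := inv_eq_of_mul_eq_one_right hx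
  have hrange : ∀ b : B, ((ψ b : B) : G) ∈ B ⊓ centralizer ({x} : Set G) := fun b => by
    refine ⟨(ψ b).2, mem_centralizer_singleton_iff.2 ?_⟩
    show (b : G) * (x * b * x⁻¹) * x = x * ((b : G) * (x * b * x⁻¹))
    rw [(hcomm b.2 (hxB b b.2)).eq, hxi]
    calc x * (b : G) * x * b * x = x * b * x * b * x := rfl
      _ = x * (b * (x * b * x)) := by group
      _ = x * ((x * b * x) * b) := by
          have := (hcomm b.2 (hxB b b.2)).eq
          rw [hxi] at this
          rw [this]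
  have hker : ∀ b : ψ.ker, ((b : B) : G) ∈ B ⊓ centralizer ({x} : Set G) := fun b => by
    refine ⟨b.1.2, mem_centralizer_singleton_iff.2 ?_⟩
    have h1 : (b.1 : G) * (x * b.1 * x⁻¹) = 1 := congrArg Subtype.val b.2
    have h2 : (b.1 : G) * b.1 = 1 := by rw [← pow_two]; exact hB.2 _ b.1.2
    have h3 : x * (b.1 : G) * x⁻¹ = b.1 := mul_left_cancel (h1.trans h2.symm)
    exact (mul_inv_eq_iff_eq_mul.1 h3).symm
  rw [← ψ.ker.card_mul_index, index_ker, pow_two]
  refine Nat.mul_le_mul ?_ ?_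
  · exact Nat.card_le_card_of_injective (fun b => ⟨_, hker b⟩) fun a b h =>
      Subtype.ext (Subtype.ext (congrArg (fun u : ↥(B ⊓ centralizer ({x} : Set G)) => (u : G)) h))
  · exact Nat.card_le_card_of_injective (fun b => ⟨((b : B) : G), by
      obtain ⟨a, ha⟩ := b.2
      rw [← ha]; exact hrange a⟩) fun a b h =>
      Subtype.ext (Subtype.ext (congrArg (fun u : ↥(B ⊓ centralizer ({x} : Set G)) => (u : G)) h))

theorem isElementaryAbelian_zpowers {x : G} (hx : x ^ 2 = 1) :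
    Cfsg.IsElementaryAbelian 2 (zpowers x) :=
  ⟨inferInstance, fun a ha => by
    obtain ⟨i, rfl⟩ := ha
    rw [← zpow_natCast, ← zpow_mul, mul_comm, zpow_mul, zpow_natCast, hx, one_zpow]⟩

/-- The elementary abelian group `⟨x⟩ C_B(x)`. -/
theorem exists_rank_three {B : Subgroup G} (hB : Cfsg.IsElementaryAbelian 2 B)
    (hB3 : 2 ^ 3 ≤ Nat.card B) {x : G} (hx : orderOf x = 2) (hxB : ∀ b ∈ B, x * b * x⁻¹ ∈ B) :
    ∃ F : Subgroup G, Cfsg.IsElementaryAbelian 2 F ∧ 2 ^ 3 ≤ Nat.card F ∧ x ∈ F ∧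
      F ≤ B ⊔ zpowers x ∧ ∃ E ≤ F, IsFour E ∧ E ≤ B := by
  haveI : Fact (Nat.Prime 2) := ⟨Nat.prime_two⟩
  have hx2 : x ^ 2 = 1 := hx ▸ pow_orderOf_eq_one x
  set D := B ⊓ centralizer ({x} : Set G) with hD
  have hDe : Cfsg.IsElementaryAbelian 2 D := Signalizer.elemAb_of_le hB inf_le_left
  have hDsq := card_le_sq hB (by rw [← pow_two]; exact hx2) hxB
  obtain ⟨k, hk⟩ := IsPGroup.iff_card.1 (Signalizer.isPGroup_of_elemAb hDe)
  have hk2 : 2 ≤ k := by
    by_contra hlt
    have : Nat.card D ≤ 2 := by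
      rw [hk]
      calc 2 ^ k ≤ 2 ^ 1 := Nat.pow_le_pow_right two_pos (by omega)
        _ = 2 := by norm_num
    nlinarith
  have hD4 : 2 ^ 2 ≤ Nat.card D := hk ▸ Nat.pow_le_pow_right two_pos hk2
  have hFe : Cfsg.IsElementaryAbelian 2 (D ⊔ zpowers x) := by
    refine Signalizer.elemAb_sup hDe (isElementaryAbelian_zpowers hx2) fun a ha b hb => ?_
    obtain ⟨i, rfl⟩ := mem_zpowers_iff.1 hb
    exact ((show Commute a x from mem_centralizer_singleton_iff.1 ha.2).zpow_right i).eq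
  refine ⟨D ⊔ zpowers x, hFe, ?_, le_sup_right (a := D) (mem_zpowers x),
    sup_le_sup_right inf_le_left _, D, le_sup_left, ⟨hDe, hD4⟩, inf_le_left⟩
  by_cases hxD : x ∈ D
  · refine hB3.trans ((card_le_of_le ?_).trans (card_le_of_le le_sup_left))
    exact fun b hb => ⟨hb, mem_centralizer_singleton_iff.2
      (Signalizer.commute_of_isMulCommutative hB.1 hb hxD.1)⟩
  · rw [Signalizer.card_sup_zpowers hFe le_sup_left (le_sup_right (a := D) (mem_zpowers x)) hxD]
    omega

variable {S : Sylow 2 G}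

theorem exists_setting
    (hθ : ∀ F : Subgroup G, Cfsg.IsElementaryAbelian 2 F → 2 ^ 3 ≤ Nat.card F →
      Cfsg.IsSolvableSignalizerFunctor 2 F (fun a => Cfsg.centralizerPPrimeCore 2 a))
    {B : Subgroup G} (hB : Cfsg.IsElementaryAbelian 2 B) (hB3 : 2 ^ 3 ≤ Nat.card B)
    (hBn : ∀ s ∈ S, ∀ b ∈ B, s * b * s⁻¹ ∈ B) : ∃ W : Subgroup G, Setting S W := by
  haveI : Fact (Nat.Prime 2) := ⟨Nat.prime_two⟩
  obtain ⟨-, hodd, hfix⟩ := Signalizer.solvable_signalizer_functor hB hB3 (hθ B hB hB3)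
  refine ⟨⨆ a : {a : G // a ∈ B ∧ a ≠ 1}, Cfsg.centralizerPPrimeCore 2 (a : G), hodd,
    fun x hxS hx => ?_, ?_⟩
  · set W := ⨆ a : {a : G // a ∈ B ∧ a ≠ 1}, Cfsg.centralizerPPrimeCore 2 (a : G) with hW
    obtain ⟨F, hF, hF3, hxF, hFB, E, hEF, hE, hEB⟩ := exists_rank_three hB hB3 hx (hBn x hxS)
    obtain ⟨-, hodd', hfix'⟩ := Signalizer.solvable_signalizer_functor hF hF3 (hθ F hF hF3)
    set W' := ⨆ a : {a : G // a ∈ F ∧ a ≠ 1}, Cfsg.centralizerPPrimeCore 2 (a : G) with hW'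
    have hBW : B ≤ normalizer (W : Set G) :=
      Signalizer.le_normalizer_iSup fun a => Signalizer.invariant_core hB.1 a.2.1
    have hFW : F ≤ normalizer (W' : Set G) :=
      Signalizer.le_normalizer_iSup fun a => Signalizer.invariant_core hF.1 a.2.1
    have h1 : W ≤ W' := Signalizer.le_of_elements hE.1 hE.2 _ _ hodd (hEB.trans hBW)
      fun e he he1 => (hfix e (hEB he) he1).le.trans
        (le_iSup_of_le ⟨e, hEF he, he1⟩ le_rfl)
    have h2 : W' ≤ W := Signalizer.le_of_elements hE.1 hE.2 _ _ hodd' (hEF.trans hFW)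
      fun e he he1 => (hfix' e (hEF he) he1).le.trans
        (le_iSup_of_le ⟨e, hEB he, he1⟩ le_rfl)
    rw [le_antisymm h1 h2]
    exact hfix' x hxF fun e => by rw [e, orderOf_one] at hx; omega
  · refine Signalizer.le_normalizer_of_conj_mem fun s hs w hw => ?_
    have hle : (⨆ a : {a : G // a ∈ B ∧ a ≠ 1}, Cfsg.centralizerPPrimeCore 2 (a : G)) ≤
        (⨆ a : {a : G // a ∈ B ∧ a ≠ 1}, Cfsg.centralizerPPrimeCore 2 (a : G)).comap
          (MulAut.conj s).toMonoidHom := by
      refine iSup_le fun a => ?_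
      rw [← map_le_iff_le_comap, Signalizer.map_conj_centralizerPPrimeCore]
      exact le_iSup_of_le ⟨s * a * s⁻¹, hBn s hs a a.2.1,
        fun e => a.2.2 (conj_eq_one_iff.1 e)⟩ le_rfl
    exact hle hw

end Cfsg.Agent.CoreKilling
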