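import Cfsg.Agent.Lib.CoreKilling.SolvableCentralizer
import Cfsg.Agent.Lib.CoreKilling.FromNormalRankThree

/-!
# Core killing for solvable involution centralisers

`core_eq_bot_of_solvable` : a Sylow 2-subgroup with a normal abelian subgroup of rank at least three
and solvable involution centralisers, `O(G) = 1`, and `O(H) ≤ O(G)` for strongly embedded `H`
imply that all the cores are trivial.
-/

set_option autoImplicit false

namespace Cfsg.Agent.CoreKilling

open Subgroup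
open scoped Pointwise

variable {G : Type*} [Group G] [Finite G]

theorem core_eq_bot_of_solvable
    (hSE : ∀ H : Subgroup G, Cfsg.IsStronglyEmbedded H →
      (Cfsg.oddCore ↥H).map H.subtype ≤ Cfsg.oddCore G)
    (hO : Cfsg.oddCore G = ⊥) (S : Sylow 2 G) (A : Subgroup G) (hAS : A ≤ S)
    (hAn : (A.subgroupOf S).Normal) (hAc : IsMulCommutative A) (hA3 : ¬ Cfsg.PRankLE 2 2 A)
    (hsol : ∀ t : G, orderOf t = 2 → Group.IsSolvable (Subgroup.centralizer ({t} : Set G)))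
    (t : G) (ht : orderOf t = 2) : Cfsg.centralizerPPrimeCore 2 t = ⊥ := by
  haveI : Fact (Nat.Prime 2) := ⟨Nat.prime_two⟩
  obtain ⟨F, hFA, hF, hF3⟩ := Signalizer.exists_rank_three_le hA3
  have hcomm : ∀ {a b : G}, a ∈ A → b ∈ A → Commute a b := fun ha hb =>
    Signalizer.commute_of_isMulCommutative hAc ha hb
  let B : Subgroup G :=
    { carrier := {a | a ∈ A ∧ a ^ 2 = 1}
      one_mem' := ⟨one_mem A, one_pow 2⟩
      mul_mem' := fun {a b} ha hb =>
        ⟨A.mul_mem ha.1 hb.1, by rw [(hcomm ha.1 hb.1).mul_pow, ha.2, hb.2, one_mul]⟩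
      inv_mem' := fun {a} ha => ⟨A.inv_mem ha.1, by rw [inv_pow, ha.2, inv_one]⟩ }
  have hB : Cfsg.IsElementaryAbelian 2 B :=
    ⟨⟨⟨fun a b => Subtype.ext (hcomm a.2.1 b.2.1)⟩⟩, fun a ha => ha.2⟩
  have hB3 : 2 ^ 3 ≤ Nat.card B :=
    hF3.trans (card_le_of_le (fun f hf => ⟨hFA hf, hF.2 f hf⟩))
  have hBn : ∀ s ∈ S, ∀ b ∈ B, s * b * s⁻¹ ∈ B := fun s hs b hb => by
    refine ⟨?_, by rw [conj_pow, hb.2, mul_one, mul_inv_cancel]⟩
    exact hAn.conj_mem (⟨b, hAS hb.1⟩ : (S : Subgroup G)) hb.1 (⟨s, hs⟩ : (S : Subgroup G))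
  have hθ : ∀ F : Subgroup G, Cfsg.IsElementaryAbelian 2 F → 2 ^ 3 ≤ Nat.card F →
      Cfsg.IsSolvableSignalizerFunctor 2 F (fun a => Cfsg.centralizerPPrimeCore 2 a) :=
    fun F hF _ => Signalizer.isSolvableSignalizerFunctor_core hF fun a ha ha1 =>
      hsol a (orderOf_of_mem hF ha ha1)
  obtain ⟨W, hW⟩ := exists_setting hθ hB hB3 hBn
  refine hW.core_eq_bot hSE hO (fun x hxS hx => ?_) t ht
  obtain ⟨E, hE, hE3, hxE, hEB, -⟩ := exists_rank_three hB hB3 hx (hBn x hxS)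
  exact hW.centralizer_le hxS hx (haveI := hsol x hx; HallHigman.isPConstrained_of_isSolvable) hE hE3 hxE
    (hEB.trans (sup_le (fun b hb => hAS hb.1) (zpowers_le.2 hxS)))

end Cfsg.Agent.CoreKilling
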