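import Cfsg.Agent.Lib.CoreKilling.FromNormalRankThree

/-!
# The core-killing setting from a connected Sylow 2-subgroup

* `iSup_core_eq` : the completions on two elementary abelian groups of order at least 8 sharing a
  four-subgroup agree
* `exists_setting_of_connected` : a Sylow 2-subgroup with connected graph of four-subgroups,
  2-rank at least 3 and the cores a solvable signalizer functor give a `Setting`, every involution
  of `S` lying in an elementary abelian subgroup of `S` of order 8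
-/

set_option autoImplicit false

namespace Cfsg.Agent.CoreKilling

open Subgroup
open scoped Pointwise

variable {G : Type*} [Group G] [Finite G]

/-- `⟨O(C(a)) : a ∈ F#⟩`. -/
def coreGen (F : Subgroup G) : Subgroup G :=
  ⨆ a : {a : G // a ∈ F ∧ a ≠ 1}, Cfsg.centralizerPPrimeCore 2 (a : G)

omit [Finite G] in
theorem le_coreGen {F : Subgroup G} {a : G} (ha : a ∈ F) (ha1 : a ≠ 1) :
    Cfsg.centralizerPPrimeCore 2 a ≤ coreGen F :=
  le_iSup_of_le ⟨a, ha, ha1⟩ le_rfl

variable (hθ : ∀ F : Subgroup G, Cfsg.IsElementaryAbelian 2 F → 2 ^ 3 ≤ Nat.card F →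
      Cfsg.IsSolvableSignalizerFunctor 2 F (fun a => Cfsg.centralizerPPrimeCore 2 a))
include hθ

theorem iSup_core_le {F F' E : Subgroup G} (hF : Cfsg.IsElementaryAbelian 2 F)
    (hF3 : 2 ^ 3 ≤ Nat.card F) (hE : IsFour E) (hEF : E ≤ F) (hEF' : E ≤ F') :
    coreGen F ≤ coreGen F' := by
  haveI : Fact (Nat.Prime 2) := ⟨Nat.prime_two⟩
  obtain ⟨-, hodd, hfix⟩ := Signalizer.solvable_signalizer_functor hF hF3 (hθ F hF hF3)
  refine Signalizer.le_of_elements hE.1 hE.2 (coreGen F') _ hodd
    (hEF.trans (Signalizer.le_normalizer_iSup fun a => Signalizer.invariant_core hF.1 a.2.1))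
    fun e he he1 => ?_
  exact (hfix e (hEF he) he1).le.trans (le_coreGen (hEF' he) he1)

theorem iSup_core_eq {F F' E : Subgroup G} (hF : Cfsg.IsElementaryAbelian 2 F)
    (hF3 : 2 ^ 3 ≤ Nat.card F) (hF' : Cfsg.IsElementaryAbelian 2 F')
    (hF'3 : 2 ^ 3 ≤ Nat.card F') (hE : IsFour E) (hEF : E ≤ F) (hEF' : E ≤ F') :
    coreGen F = coreGen F' :=
  le_antisymm (iSup_core_le hθ hF hF3 hE hEF hEF') (iSup_core_le hθ hF' hF'3 hE hEF' hEF)

omit hθ in
theorem isFour_of_klein {E : Subgroup G} (h : IsKleinFour E) : IsFour E := by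
  refine ⟨⟨⟨⟨fun a b => mul_comm_of_exponent_two h.exponent_two a b⟩⟩, fun a ha => ?_⟩, ?_⟩
  · have h1 := Monoid.pow_exponent_eq_one (⟨a, ha⟩ : E)
    rw [h.exponent_two] at h1
    exact congrArg Subtype.val h1
  · rw [h.card_four]; norm_num

omit hθ in
theorem exists_klein_le {F : Subgroup G} (hF : Cfsg.IsElementaryAbelian 2 F)
    (hF2 : 2 ^ 2 ≤ Nat.card F) {x : G} (hx : x ∈ F) :
    ∃ E ≤ F, IsKleinFour E ∧ x ∈ E := by
  haveI : Fact (Nat.Prime 2) := ⟨Nat.prime_two⟩
  have h2 : Nat.card (zpowers x) ≤ 2 ^ 2 := by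
    rw [Nat.card_zpowers]
    exact (orderOf_le_of_pow_eq_one two_pos (hF.2 x hx)).trans (by norm_num)
  obtain ⟨E, hxE, hEF, hE⟩ := Signalizer.exists_between hF (zpowers_le.2 hx) le_rfl h2 hF2
  refine ⟨E, hEF, ⟨by rw [hE]; norm_num, ?_⟩, hxE (mem_zpowers x)⟩
  refine ((Nat.dvd_prime Nat.prime_two).1 (Monoid.exponent_dvd_of_forall_pow_eq_one
    (fun a : E => (Subtype.ext (hF.2 a (hEF a.2)) : a ^ 2 = 1)))).resolve_left fun e => ?_
  haveI := Monoid.exp_eq_one_iff.1 e
  rw [Nat.card_unique] at hE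
  norm_num at hE

theorem exists_setting_of_connected (S : Sylow 2 G)
    (hconn : Cfsg.IsFourConnected (S : Subgroup G)) (h3 : ¬ Cfsg.PRankLE 2 2 G) :
    ∃ W : Subgroup G, Setting S W ∧ ∀ x ∈ S, orderOf x = 2 →
      ∃ F : Subgroup G, Cfsg.IsElementaryAbelian 2 F ∧ 2 ^ 3 ≤ Nat.card F ∧ x ∈ F ∧
        F ≤ (S : Subgroup G) := by
  haveI : Fact (Nat.Prime 2) := ⟨Nat.prime_two⟩
  -- an elementary abelian subgroup of order 8 in `S`
  obtain ⟨F0, hF0, hF03, hF0S⟩ : ∃ F : Subgroup G, Cfsg.IsElementaryAbelian 2 F ∧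
      2 ^ 3 ≤ Nat.card F ∧ F ≤ (S : Subgroup G) := by
    have h3' : ¬ Cfsg.PRankLE 2 2 ↥(⊤ : Subgroup G) := fun h => h3 fun A hA hA2 => by
      have := h (A.subgroupOf ⊤) ⟨⟨fun a b => Subtype.ext (Subtype.ext
        (Signalizer.commute_of_isMulCommutative hA a.2 b.2))⟩⟩
        (fun a ha => Subtype.ext (hA2 a ha))
      rwa [Cores.card_subgroupOf le_top] at this
    obtain ⟨F, -, hF, hF3⟩ := Signalizer.exists_rank_three_le h3'
    obtain ⟨P, hP⟩ := (Signalizer.isPGroup_of_elemAb hF).exists_le_sylow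
    obtain ⟨g, hg⟩ := MulAction.exists_smul_eq G P S
    refine ⟨MulAut.conj g • F, ?_, by rwa [Solvable.card_conj],
      (Solvable.conj_mono g hP).trans (le_of_eq (congrArg Sylow.toSubgroup hg))⟩
    exact (IsFour.conj ⟨hF, le_trans (Nat.pow_le_pow_right two_pos (by omega)) hF3⟩ g).1
  obtain ⟨E0, hE0F, hE0, -⟩ := exists_klein_le hF0
    (le_trans (Nat.pow_le_pow_right two_pos (by omega)) hF03) (one_mem F0)
  -- propagation along the graph
  have key : ∀ E : Subgroup G, IsKleinFour E → E ≤ (S : Subgroup G) →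
      ∃ F : Subgroup G, Cfsg.IsElementaryAbelian 2 F ∧ 2 ^ 3 ≤ Nat.card F ∧ E ≤ F ∧
        F ≤ (S : Subgroup G) ∧ coreGen F = coreGen F0 := by
    intro E hE hES
    have kf : ∀ {A B : Type _} [Group A] [Group B], (A ≃* B) → IsKleinFour A → IsKleinFour B :=
      fun {A B} _ _ e h => ⟨by rw [← Nat.card_congr e.toEquiv]; exact h.card_four,
        by rw [← Monoid.exponent_eq_of_mulEquiv e]; exact h.exponent_two⟩
    have hchain := hconn (E0.subgroupOf S) (E.subgroupOf S)
      (kf (subgroupOfEquivOfLe (hE0F.trans hF0S)).symm hE0)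
      (kf (subgroupOfEquivOfLe hES).symm hE)
    have main : ∀ D : Subgroup (S : Subgroup G), Relation.ReflTransGen
        (fun A B : Subgroup (S : Subgroup G) =>
          IsKleinFour A ∧ IsKleinFour B ∧ ∀ a ∈ A, ∀ b ∈ B, a * b = b * a) (E0.subgroupOf S) D →
        ∃ F : Subgroup G, Cfsg.IsElementaryAbelian 2 F ∧ 2 ^ 3 ≤ Nat.card F ∧
          D.map (S : Subgroup G).subtype ≤ F ∧ F ≤ (S : Subgroup G) ∧
          coreGen F = coreGen F0 := by
      intro D hD
      induction hD with
      | refl => exact ⟨F0, hF0, hF03, by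
          rw [map_subgroupOf_eq_of_le (hE0F.trans hF0S)]; exact hE0F, hF0S, rfl⟩
      | @tail A B _ hAB ih =>
        obtain ⟨F, hF, hF3, hAF, hFS, hcore⟩ := ih
        obtain ⟨hA, hB, hc⟩ := hAB
        set A' := A.map (S : Subgroup G).subtype with hA'
        set B' := B.map (S : Subgroup G).subtype with hB'
        have hA4 := isFour_of_klein (kf (A.equivMapOfInjective _ (S : Subgroup G).subtype_injective) hA)
        have hB4 := isFour_of_klein (kf (B.equivMapOfInjective _ (S : Subgroup G).subtype_injective) hB)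
        by_cases hBA : B' ≤ A'
        · exact ⟨F, hF, hF3, hBA.trans hAF, hFS, hcore⟩
        obtain ⟨b, hb, hbA⟩ := SetLike.not_le_iff_exists.1 hBA
        have hU : Cfsg.IsElementaryAbelian 2 (A' ⊔ B') := by
          refine Signalizer.elemAb_sup hA4.1 hB4.1 ?_
          rintro _ ⟨a, ha, rfl⟩ _ ⟨c, hc', rfl⟩
          exact congrArg Subtype.val (hc a ha c hc')
        have hU3 : 2 ^ 3 ≤ Nat.card ↥(A' ⊔ B') := by
          refine le_trans ?_ (card_le_of_le (sup_le_sup_left (zpowers_le.2 hb) A'))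
          rw [Signalizer.card_sup_zpowers hU le_sup_left (le_sup_right (a := A') hb) hbA]
          have : (2 : ℕ) ^ 2 ≤ Nat.card A' := hA4.2
          omega
        exact ⟨A' ⊔ B', hU, hU3, le_sup_right,
          sup_le (map_subtype_le A) (map_subtype_le B),
          (iSup_core_eq hθ hU hU3 hF hF3 hA4 le_sup_left hAF).trans hcore⟩
    obtain ⟨F, hF, hF3, hEF, hFS, hcore⟩ := main _ hchain
    rw [map_subgroupOf_eq_of_le hES] at hEF
    exact ⟨F, hF, hF3, hEF, hFS, hcore⟩
  have hall : ∀ x ∈ S, orderOf x = 2 → ∃ F : Subgroup G, Cfsg.IsElementaryAbelian 2 F ∧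
      2 ^ 3 ≤ Nat.card F ∧ x ∈ F ∧ F ≤ (S : Subgroup G) ∧ coreGen F = coreGen F0 := by
    intro x hxS hx
    -- `x` lies in a four-subgroup of `S`
    obtain ⟨E, hE, hxE, hES⟩ : ∃ E : Subgroup G, IsKleinFour E ∧ x ∈ E ∧ E ≤ (S : Subgroup G) := by
      have hx2 : x ^ 2 = 1 := hx ▸ pow_orderOf_eq_one x
      suffices h : ∃ y ∈ S, orderOf y = 2 ∧ y ≠ x ∧ Commute x y by
        obtain ⟨y, hyS, hy, hyx, hxy⟩ := h
        have hV : Cfsg.IsElementaryAbelian 2 (zpowers x ⊔ zpowers y) := by
          refine Signalizer.elemAb_sup (isElementaryAbelian_zpowers hx2)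
            (isElementaryAbelian_zpowers (hy ▸ pow_orderOf_eq_one y)) fun a ha b hb => ?_
          obtain ⟨i, rfl⟩ := mem_zpowers_iff.1 ha
          obtain ⟨j, rfl⟩ := mem_zpowers_iff.1 hb
          exact (hxy.zpow_zpow i j).eq
        have hy' : y ∉ zpowers x := fun h => by
          obtain ⟨i, hi⟩ := mem_zpowers_iff.1 h
          rcases Int.emod_two_eq_zero_or_one i with hi2 | hi2 <;>
            rw [← zpow_mod_orderOf, hx, Nat.cast_ofNat, hi2] at hi
          · rw [← hi, zpow_zero, orderOf_one] at hy; omega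
          · exact hyx (by rw [← hi, zpow_one])
        have hcard := Signalizer.card_sup_zpowers hV le_sup_left
          (le_sup_right (a := zpowers x) (mem_zpowers y)) hy'
        rw [Nat.card_zpowers, hx] at hcard
        obtain ⟨E, hEV, hE, hxE⟩ := exists_klein_le hV (hcard ▸ le_rfl)
          (le_sup_left (b := zpowers y) (mem_zpowers x))
        exact ⟨E, hE, hxE, hEV.trans (sup_le (zpowers_le.2 hxS) (zpowers_le.2 hyS))⟩
      -- a central involution of `S`, or any other involution if `x` is the central one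
      have hSne : (S : Subgroup G) ≠ ⊥ := fun e => by
        have h1 : x = 1 := (mem_bot (G := G)).1 (e ▸ hxS)
        rw [h1, orderOf_one] at hx; omega
      haveI : Nontrivial (S : Subgroup G) := (Subgroup.nontrivial_iff_ne_bot _).2 hSne
      haveI := S.isPGroup'.center_nontrivial
      obtain ⟨k, hk⟩ := (S.isPGroup'.to_subgroup (center _)).exists_card_eq
      have h2 : 2 ∣ Nat.card (center (S : Subgroup G)) := by
        rcases k with _ | k
        · have := Finite.one_lt_card (α := center (S : Subgroup G))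
          rw [hk] at this; simp at this
        · exact ⟨2 ^ k, by rw [hk, pow_succ']⟩
      obtain ⟨⟨⟨z, hzS⟩, hzc⟩, hz⟩ := exists_prime_orderOf_dvd_card' 2 h2
      rw [Subgroup.orderOf_mk, Subgroup.orderOf_mk] at hz
      have hzc' : ∀ q ∈ S, q * z = z * q := fun q hq =>
        congrArg Subtype.val (mem_center_iff.1 hzc ⟨q, hq⟩)
      by_cases hzx : z = x
      · subst hzx
        by_contra hcon
        push Not at hcon
        have hsub : F0 ≤ zpowers z := fun a ha => by
          rcases eq_or_ne a 1 with rfl | ha1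
          · exact one_mem _
          by_contra hne
          exact hcon a (hF0S ha) (orderOf_of_mem hF0 ha ha1)
            (fun e => hne (e ▸ mem_zpowers z)) ((hzc' a (hF0S ha)).symm :)
        have := card_le_of_le hsub
        rw [Nat.card_zpowers, hz] at this
        omega
      · exact ⟨z, hzS, hz, hzx, (hzc' x hxS :)⟩
    obtain ⟨F, hF, hF3, hEF, hFS, hcore⟩ := key E hE hES
    exact ⟨F, hF, hF3, hEF hxE, hFS, hcore⟩
  refine ⟨coreGen F0, ⟨?_, fun x hxS hx => ?_, ?_⟩, fun x hxS hx => ?_⟩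
  · exact (Signalizer.solvable_signalizer_functor hF0 hF03 (hθ F0 hF0 hF03)).2.1
  · obtain ⟨F, hF, hF3, hxF, -, hcore⟩ := hall x hxS hx
    rw [← hcore]
    exact (Signalizer.solvable_signalizer_functor hF hF3 (hθ F hF hF3)).2.2 x hxF
      fun e => by rw [e, orderOf_one] at hx; omega
  · refine Signalizer.le_normalizer_of_conj_mem fun s hs w hw => ?_
    have hle : coreGen F0 ≤ (coreGen F0).comap (MulAut.conj s).toMonoidHom := by
      refine iSup_le fun a => ?_
      rw [← map_le_iff_le_comap, Signalizer.map_conj_centralizerPPrimeCore]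
      have haS : (a : G) ∈ S := hF0S a.2.1
      have ha' : s * (a : G) * s⁻¹ ∈ S := mul_mem (mul_mem hs haS) (inv_mem hs)
      obtain ⟨F, -, -, haF, -, hcore⟩ := hall _ ha'
        (by rw [Involution.orderOf_conj]; exact orderOf_of_mem hF0 a.2.1 a.2.2)
      rw [← hcore]
      exact le_coreGen haF fun e => a.2.2 (conj_eq_one_iff.1 e)
    exact hle hw
  · obtain ⟨F, hF, hF3, hxF, hFS, -⟩ := hall x hxS hx
    exact ⟨F, hF, hF3, hxF, hFS⟩

end Cfsg.Agent.CoreKilling
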