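import Cfsg.Agent.Lib.CoreKilling.GenFinal
import Cfsg.Agent.Lib.CoreKilling.FromConnected
import Cfsg.Agent.Lib.OddOrderTheorem.Basic

/-!
# Core killing for the cores of a balanced group (owner: helper82)

* `core_bot_of_setting` : a `Setting` with elementary `E_8`s gives trivial cores
* `core_bot_of_four_connected` : balanced, `O(G) = 1`, connected graph of four-subgroups
-/

set_option autoImplicit false
set_option linter.style.haveILetI false

namespace Cfsg.Agent.CoreKilling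

open Subgroup
open scoped Pointwise

universe u

variable {G : Type u} [Group G] [Finite G]

theorem core_functor_of_balanced (hbal : Cfsg.IsBalanced G) {F : Subgroup G}
    (hF : Cfsg.IsElementaryAbelian 2 F) :
    Cfsg.IsSolvableSignalizerFunctor 2 F (fun a => Cfsg.centralizerPPrimeCore 2 a) := by
  haveI : Fact (Nat.Prime 2) := ⟨Nat.prime_two⟩
  refine ⟨⟨fun a _ _ => Signalizer.core_le_centralizer a,
    fun a _ _ => Signalizer.not_dvd_card_core a,
    fun a ha _ b hb _ hx => Signalizer.conj_mem (Signalizer.invariant_core hF.1 ha) hb hx,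
    fun a ha ha1 b hb hb1 => ?_⟩, fun a _ _ => ?_⟩
  · exact (hbal a b (orderOf_of_mem hF ha ha1) (orderOf_of_mem hF hb hb1)
      (Signalizer.commute_of_isMulCommutative hF.1 ha hb)).le.trans inf_le_left
  · exact OddOrderTheorem.solvable
      (Nat.odd_iff.2 (Nat.two_dvd_ne_zero.1 (Signalizer.not_dvd_card_core a)))

theorem Setting.gen {S : Sylow 2 G} {W : Subgroup G} (h : Setting S W)
    (he8 : ∀ x ∈ S, orderOf x = 2 → ∃ F : Subgroup G,
      F ≤ (S : Subgroup G) ∧ Cfsg.IsElementaryAbelian 2 F ∧ 2 ^ 3 ≤ Nat.card F ∧ x ∈ F) :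
    Gen (fun a => Cfsg.centralizerPPrimeCore 2 a) S W := by
  haveI : Fact (Nat.Prime 2) := ⟨Nat.prime_two⟩
  exact Gen.of ⟨fun g a => (Signalizer.map_conj_centralizerPPrimeCore a g).symm,
    fun a _ => Signalizer.core_le_centralizer a, fun a _ => Signalizer.not_dvd_card_core a,
    h.odd, h.norm, h.fix⟩ he8

theorem core_bot_of_setting {S : Sylow 2 G} {W : Subgroup G} (h : Setting S W)
    (he8 : ∀ x ∈ S, orderOf x = 2 → ∃ F : Subgroup G,
      F ≤ (S : Subgroup G) ∧ Cfsg.IsElementaryAbelian 2 F ∧ 2 ^ 3 ≤ Nat.card F ∧ x ∈ F)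
    (hO : Cfsg.oddCore G = ⊥) {t : G} (ht : orderOf t = 2) :
    Cfsg.centralizerPPrimeCore 2 t = ⊥ :=
  (h.gen he8).theta_bot hO ht

/-- An involution commutes with another one, in the presence of an `E_8`. -/
theorem exists_commute_involution (h3 : ¬ Cfsg.PRankLE 2 2 G) {t : G} (ht : orderOf t = 2) :
    ∃ y : G, orderOf y = 2 ∧ y ≠ t ∧ Commute t y := by
  haveI : Fact (Nat.Prime 2) := ⟨Nat.prime_two⟩
  obtain ⟨P, hP⟩ := (IsPGroup.of_card (G := zpowers t) (p := 2) (n := 1)
    (by rw [Nat.card_zpowers, ht, pow_one])).exists_le_sylow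
  have htP : t ∈ P := hP (mem_zpowers t)
  obtain ⟨F, hF, hF3⟩ : ∃ F : Subgroup G, Cfsg.IsElementaryAbelian 2 F ∧ 2 ^ 3 ≤ Nat.card F := by
    have h3' : ¬ Cfsg.PRankLE 2 2 ↥(⊤ : Subgroup G) := fun h => h3 fun A hA hA2 => by
      have := h (A.subgroupOf ⊤) ⟨⟨fun a b => Subtype.ext (Subtype.ext
        (Signalizer.commute_of_isMulCommutative hA a.2 b.2))⟩⟩
        (fun a ha => Subtype.ext (hA2 a ha))
      rwa [Cores.card_subgroupOf le_top] at this
    obtain ⟨F, -, hF, hF3⟩ := Signalizer.exists_rank_three_le h3'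
    exact ⟨F, hF, hF3⟩
  obtain ⟨Q, hQ⟩ := (Signalizer.isPGroup_of_elemAb hF).exists_le_sylow
  obtain ⟨g, hg⟩ := MulAction.exists_smul_eq G Q P
  have hFP : MulAut.conj g • F ≤ (P : Subgroup G) :=
    (Solvable.conj_mono g hQ).trans (le_of_eq (congrArg Sylow.toSubgroup hg))
  obtain ⟨z, hzP, hz, hzc⟩ : ∃ z ∈ P, orderOf z = 2 ∧ ∀ s ∈ P, Commute s z := by
    haveI : Nontrivial (P : Subgroup G) := (Subgroup.nontrivial_iff_ne_bot _).2 fun e => by
      have h1 : t = 1 := (mem_bot (G := G)).1 (e ▸ htP)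
      rw [h1, orderOf_one] at ht; omega
    haveI := P.isPGroup'.center_nontrivial
    obtain ⟨k, hk⟩ := (P.isPGroup'.to_subgroup (center _)).exists_card_eq
    have h2 : 2 ∣ Nat.card (center (P : Subgroup G)) := by
      rcases k with _ | k
      · have := Finite.one_lt_card (α := center (P : Subgroup G))
        rw [hk] at this; simp at this
      · exact ⟨2 ^ k, by rw [hk, pow_succ']⟩
    obtain ⟨⟨⟨z, hzS⟩, hzc⟩, hz⟩ := exists_prime_orderOf_dvd_card' 2 h2
    rw [Subgroup.orderOf_mk, Subgroup.orderOf_mk] at hz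
    exact ⟨z, hzS, hz, fun q hq => congrArg Subtype.val (mem_center_iff.1 hzc ⟨q, hq⟩)⟩
  by_cases hzt : z = t
  · subst hzt
    by_contra hcon
    push Not at hcon
    have hFe : IsFour (MulAut.conj g • F) :=
      IsFour.conj ⟨hF, le_trans (Nat.pow_le_pow_right two_pos (by omega)) hF3⟩ g
    have hsub : MulAut.conj g • F ≤ zpowers z := fun a ha => by
      rcases eq_or_ne a 1 with rfl | ha1
      · exact one_mem _
      by_contra hne
      exact hcon a (orderOf_of_mem hFe.1 ha ha1) (fun e => hne (e ▸ mem_zpowers z))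
        (hzc a (hFP ha)).symm
    have := hFe.2.trans (card_le_of_le hsub)
    rw [Nat.card_zpowers, hz] at this
    omega
  · exact ⟨z, hz, hzt, hzc t htP⟩

theorem core_bot_of_four_connected (hbal : Cfsg.IsBalanced G) (hO : Cfsg.oddCore G = ⊥)
    (h3 : ¬ Cfsg.PRankLE 2 2 G) (hconn : Cfsg.IsFourConnected G) {t : G} (ht : orderOf t = 2) :
    Cfsg.centralizerPPrimeCore 2 t = ⊥ := by
  haveI : Fact (Nat.Prime 2) := ⟨Nat.prime_two⟩
  have hθ : ∀ F : Subgroup G, Cfsg.IsElementaryAbelian 2 F → 2 ^ 3 ≤ Nat.card F →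
      Cfsg.IsSolvableSignalizerFunctor 2 F (fun a => Cfsg.centralizerPPrimeCore 2 a) :=
    fun F hF _ => core_functor_of_balanced hbal hF
  obtain ⟨F0, hF0, hF03⟩ : ∃ F : Subgroup G, Cfsg.IsElementaryAbelian 2 F ∧ 2 ^ 3 ≤ Nat.card F := by
    have h3' : ¬ Cfsg.PRankLE 2 2 ↥(⊤ : Subgroup G) := fun h => h3 fun A hA hA2 => by
      have := h (A.subgroupOf ⊤) ⟨⟨fun a b => Subtype.ext (Subtype.ext
        (Signalizer.commute_of_isMulCommutative hA a.2 b.2))⟩⟩
        (fun a ha => Subtype.ext (hA2 a ha))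
      rwa [Cores.card_subgroupOf le_top] at this
    obtain ⟨F, -, hF, hF3⟩ := Signalizer.exists_rank_three_le h3'
    exact ⟨F, hF, hF3⟩
  obtain ⟨E0, hE0F, hE0, -⟩ := exists_klein_le hF0
    (le_trans (Nat.pow_le_pow_right two_pos (by omega)) hF03) (one_mem F0)
  have key : ∀ E : Subgroup G, IsKleinFour E → ∃ F : Subgroup G, Cfsg.IsElementaryAbelian 2 F ∧
      2 ^ 3 ≤ Nat.card F ∧ E ≤ F ∧ coreGen F = coreGen F0 := by
    intro E hE
    have hchain := hconn E0 E hE0 hE
    clear hE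
    induction hchain with
    | refl => exact ⟨F0, hF0, hF03, hE0F, rfl⟩
    | @tail A B _ hAB ih =>
      obtain ⟨F, hF, hF3, hAF, hcore⟩ := ih
      obtain ⟨hA, hB, hc⟩ := hAB
      have hA4 := isFour_of_klein hA
      have hB4 := isFour_of_klein hB
      by_cases hBA : B ≤ A
      · exact ⟨F, hF, hF3, hBA.trans hAF, hcore⟩
      obtain ⟨b, hb, hbA⟩ := SetLike.not_le_iff_exists.1 hBA
      have hU : Cfsg.IsElementaryAbelian 2 (A ⊔ B) := Signalizer.elemAb_sup hA4.1 hB4.1 hc
      have hU3 : 2 ^ 3 ≤ Nat.card ↥(A ⊔ B) := by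
        refine le_trans ?_ (card_le_of_le (sup_le_sup_left (zpowers_le.2 hb) A))
        rw [Signalizer.card_sup_zpowers hU le_sup_left (le_sup_right (a := A) hb) hbA]
        have : (2 : ℕ) ^ 2 ≤ Nat.card A := hA4.2
        omega
      exact ⟨A ⊔ B, hU, hU3, le_sup_right,
        (iSup_core_eq hθ hU hU3 hF hF3 hA4 le_sup_left hAF).trans hcore⟩
  -- the common trace is normal
  have hWn : (coreGen F0).Normal := ⟨fun w hw g => by
    have hle : coreGen F0 ≤ (coreGen F0).comap (MulAut.conj g).toMonoidHom := iSup_le fun a => by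
      rw [← map_le_iff_le_comap, Signalizer.map_conj_centralizerPPrimeCore]
      obtain ⟨E, hEF, hE, haE⟩ := exists_klein_le hF0
        (le_trans (Nat.pow_le_pow_right two_pos (by omega)) hF03) a.2.1
      have hE' : IsKleinFour (E.map (MulAut.conj g).toMonoidHom : Subgroup G) := by
        refine ⟨?_, ?_⟩
        · rw [card_map_of_injective (MulAut.conj g).injective]; exact hE.card_four
        · rw [← Monoid.exponent_eq_of_mulEquiv
            (E.equivMapOfInjective _ (MulAut.conj g).injective)]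
          exact hE.exponent_two
      obtain ⟨F, -, -, hEF', hcore⟩ := key _ hE'
      rw [← hcore]
      exact le_coreGen (hEF' ⟨a, haE, rfl⟩) fun e => a.2.2 (conj_eq_one_iff.1 e)
    exact hle hw⟩
  have hW : coreGen F0 = ⊥ := eq_bot_iff.2 (hO ▸ Cores.le_pPrimeCore hWn
    ((Nat.prime_two.coprime_iff_not_dvd).2
      (Signalizer.solvable_signalizer_functor hF0 hF03 (hθ F0 hF0 hF03)).2.1).symm)
  obtain ⟨y, hy, hyt, hty⟩ := exists_commute_involution h3 ht
  have hV := TwoCore.isFour_pair ht hy hyt hty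
  obtain ⟨E, hEV, hE, htE⟩ := exists_klein_le hV.1 hV.2 (le_sup_left (b := zpowers y) (mem_zpowers t))
  obtain ⟨F, -, -, hEF, hcore⟩ := key E hE
  refine eq_bot_iff.2 (le_trans (le_coreGen (hEF htE) fun e => ?_) (hcore.trans hW).le)
  rw [e, orderOf_one] at ht; omega

end Cfsg.Agent.CoreKilling
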