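import Cfsg.Agent.Lib.Signalizer.Core
import Cfsg.Agent.Lib.Signalizer.ElemAb
import Cfsg.Agent.Lib.Signalizer.GraphTrivial
import Cfsg.Agent.Lib.Involution.StronglyEmbedded
import Cfsg.Agent.Lib.Solvable.Basic

/-!
# Core killing

`S` a Sylow 2-subgroup of `G`, `W` a subgroup of odd order normalised by `S` with
`W ⊓ C(x) = O(C(x))` for the involutions `x` of `S` (`Setting`).

* `Setting.mem_normalizer` : `N(W)` contains every `g` moving some four-subgroup of `S` into `S`
* `Setting.sylow_le` : a 2-group through a four-subgroup of `S` lies in `N(W)`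
* `Setting.isStronglyEmbedded` : if moreover it contains the centralisers of the involutions of
  `S`, then `N(W)` is all of `G` or strongly embedded
* `Setting.core_eq_bot` : with `O(H) ≤ O(G)` for strongly embedded `H`, all the cores vanish
-/

set_option autoImplicit false

namespace Cfsg.Agent.CoreKilling

open Subgroup
open scoped Pointwise

variable {G : Type*} [Group G] [Finite G]

/-- An elementary abelian subgroup of order at least four. -/
def IsFour (E : Subgroup G) : Prop :=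
  Cfsg.IsElementaryAbelian 2 E ∧ 2 ^ 2 ≤ Nat.card E

omit [Finite G] in
theorem IsFour.isPGroup {E : Subgroup G} (hE : IsFour E) : IsPGroup 2 E :=
  Signalizer.isPGroup_of_elemAb hE.1

omit [Finite G] in
theorem IsFour.conj {E : Subgroup G} (hE : IsFour E) (g : G) : IsFour (MulAut.conj g • E) := by
  refine ⟨⟨⟨⟨fun a b => Subtype.ext ?_⟩⟩, fun a ha => ?_⟩, ?_⟩
  · obtain ⟨a, x, hx, rfl⟩ := a
    obtain ⟨b, y, hy, rfl⟩ := b
    exact Eq.trans (map_mul _ x y).symm
      ((congrArg _ (Signalizer.commute_of_isMulCommutative hE.1.1 hx hy)).trans (map_mul _ y x))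
  · obtain ⟨x, hx, rfl⟩ := ha
    exact (map_pow _ x 2).symm.trans ((congrArg _ (hE.1.2 x hx)).trans (map_one _))
  · rw [Solvable.card_conj]; exact hE.2

omit [Finite G] in
theorem orderOf_of_mem {E : Subgroup G} (hE : Cfsg.IsElementaryAbelian 2 E) {a : G} (ha : a ∈ E)
    (ha1 : a ≠ 1) : orderOf a = 2 :=
  haveI : Fact (Nat.Prime 2) := ⟨Nat.prime_two⟩
  orderOf_eq_prime (hE.2 a ha) ha1

structure Setting (S : Sylow 2 G) (W : Subgroup G) : Prop where
  odd : ¬ 2 ∣ Nat.card W
  fix : ∀ x ∈ S, orderOf x = 2 →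
    W ⊓ centralizer ({x} : Set G) = Cfsg.centralizerPPrimeCore 2 x
  norm : (S : Subgroup G) ≤ normalizer (W : Set G)

variable {S : Sylow 2 G} {W : Subgroup G}

theorem Setting.core_le (h : Setting S W) {x : G} (hx : x ∈ S) (hx2 : orderOf x = 2) :
    Cfsg.centralizerPPrimeCore 2 x ≤ W :=
  (h.fix x hx hx2).ge.trans inf_le_left

/-- `W` is the unique such subgroup seen from any four-subgroup of `S`. -/
theorem Setting.le_of_cores (h : Setting S W) {E : Subgroup G} (hE : IsFour E)
    (hES : E ≤ (S : Subgroup G)) {K : Subgroup G}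
    (hK : ∀ e ∈ E, e ≠ 1 → Cfsg.centralizerPPrimeCore 2 e ≤ K) : W ≤ K :=
  haveI : Fact (Nat.Prime 2) := ⟨Nat.prime_two⟩
  Signalizer.le_of_elements hE.1 hE.2 K W h.odd (hES.trans h.norm) fun e he he1 =>
    (h.fix e (hES he) (orderOf_of_mem hE.1 he he1)).le.trans (hK e he he1)

theorem Setting.mem_normalizer (h : Setting S W) {E : Subgroup G} (hE : IsFour E)
    (hES : E ≤ (S : Subgroup G)) {g : G} (hg : MulAut.conj g • E ≤ (S : Subgroup G)) :
    g ∈ normalizer (W : Set G) := by
  have h1 : MulAut.conj g • W ≤ W := by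
    intro y hy
    obtain ⟨w, hw, rfl⟩ := hy
    have hle : W ≤ W.comap (MulAut.conj g).toMonoidHom := h.le_of_cores hE hES fun e he he1 => by
      rw [← map_le_iff_le_comap, Signalizer.map_conj_centralizerPPrimeCore]
      have he' : g * e * g⁻¹ ∈ S := hg ⟨e, he, rfl⟩
      exact h.core_le he' (by rw [Involution.orderOf_conj]; exact orderOf_of_mem hE.1 he he1)
    exact hle hw
  exact Solvable.mem_normalizer_iff_conj.2
    (eq_of_le_of_card_ge h1 (Solvable.card_conj g W).ge)

/-- A 2-group through a four-subgroup of `S` is conjugate into `S` inside `N(W)`. -/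
theorem Setting.exists_conj_le (h : Setting S W) {E : Subgroup G} (hE : IsFour E)
    (hES : E ≤ (S : Subgroup G)) {T : Subgroup G} (hT : IsPGroup 2 T) (hET : E ≤ T) :
    ∃ g ∈ normalizer (W : Set G), T ≤ MulAut.conj g • (S : Subgroup G) := by
  obtain ⟨P, hP⟩ := hT.exists_le_sylow
  obtain ⟨g, hg⟩ := MulAction.exists_smul_eq G S P
  have hTg : T ≤ MulAut.conj g • (S : Subgroup G) :=
    hP.trans (le_of_eq (congrArg Sylow.toSubgroup hg).symm)
  refine ⟨g, ?_, hTg⟩
  have h1 : MulAut.conj g⁻¹ • E ≤ (S : Subgroup G) := by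
    have := Solvable.conj_mono g⁻¹ (hET.trans hTg)
    rwa [Solvable.conj_inv_smul] at this
  simpa using inv_mem (h.mem_normalizer hE hES h1)

theorem Setting.conj_sylow_le (h : Setting S W) {g : G} (hg : g ∈ normalizer (W : Set G)) :
    MulAut.conj g • (S : Subgroup G) ≤ normalizer (W : Set G) :=
  (Solvable.conj_mono g h.norm).trans (Solvable.conj_eq_self hg).le

theorem Setting.sylow_le (h : Setting S W) {E : Subgroup G} (hE : IsFour E)
    (hES : E ≤ (S : Subgroup G)) {T : Subgroup G} (hT : IsPGroup 2 T) (hET : E ≤ T) :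
    T ≤ normalizer (W : Set G) := by
  obtain ⟨g, hg, hTg⟩ := h.exists_conj_le hE hES hT hET
  exact hTg.trans (h.conj_sylow_le hg)

/-- The normaliser of a subgroup of `S^g`, `g ∈ N(W)`, containing a four-group lies in `N(W)`. -/
theorem Setting.normalizer_le (h : Setting S W) {g : G} (hg : g ∈ normalizer (W : Set G))
    {E Q : Subgroup G} (hE : IsFour E) (hEQ : E ≤ Q)
    (hQ : Q ≤ MulAut.conj g • (S : Subgroup G)) :
    normalizer (Q : Set G) ≤ normalizer (W : Set G) := by
  intro y hy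
  have hQ' : MulAut.conj g⁻¹ • Q ≤ (S : Subgroup G) := by
    have := Solvable.conj_mono g⁻¹ hQ
    rwa [Solvable.conj_inv_smul] at this
  have h2 : g⁻¹ * y * g ∈ normalizer (W : Set G) := by
    refine h.mem_normalizer (hE.conj g⁻¹) ((Solvable.conj_mono _ hEQ).trans hQ') ?_
    rw [Solvable.conj_conj, mul_assoc, mul_inv_cancel, mul_one, ← Solvable.conj_conj]
    refine (Solvable.conj_mono _ ((Solvable.conj_mono y hEQ).trans ?_)).trans hQ'
    exact (Solvable.mem_normalizer_iff_conj.1 hy).le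
  have := mul_mem (mul_mem hg h2) (inv_mem hg)
  simpa [mul_assoc] using this

/-- A 2-subgroup without a four-subgroup has at most one involution in common with its centre. -/
theorem normalizer_le_centralizer_of_no_four {Q : Subgroup G} (hQ : IsPGroup 2 Q) (hQ1 : Q ≠ ⊥)
    (hno : ∀ E : Subgroup G, IsFour E → ¬ E ≤ Q) :
    ∃ x ∈ Q, orderOf x = 2 ∧ normalizer (Q : Set G) ≤ centralizer ({x} : Set G) := by
  haveI : Fact (Nat.Prime 2) := ⟨Nat.prime_two⟩
  haveI : Nontrivial Q := (Subgroup.nontrivial_iff_ne_bot Q).2 hQ1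
  haveI := hQ.center_nontrivial
  obtain ⟨k, hk⟩ := (hQ.to_subgroup (center Q)).exists_card_eq
  have h2 : 2 ∣ Nat.card (center Q) := by
    rcases k with _ | k
    · have := Finite.one_lt_card (α := center Q)
      rw [hk] at this; simp at this
    · exact ⟨2 ^ k, by rw [hk, pow_succ']⟩
  obtain ⟨⟨⟨x, hxQ⟩, hxc⟩, hx⟩ := exists_prime_orderOf_dvd_card' 2 h2
  rw [Subgroup.orderOf_mk, Subgroup.orderOf_mk] at hx
  have hxc' : ∀ q ∈ Q, q * x = x * q := fun q hq =>
    congrArg Subtype.val (mem_center_iff.1 hxc ⟨q, hq⟩)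
  have huniq : ∀ y ∈ Q, orderOf y = 2 → y = x := by
    intro y hy hy2
    by_contra hne
    have hZ : ∀ {z : G}, orderOf z = 2 → Cfsg.IsElementaryAbelian 2 (zpowers z) := fun {z} hz =>
      ⟨inferInstance, fun a ha => by
        obtain ⟨i, rfl⟩ := ha
        rw [← zpow_natCast, ← zpow_mul, mul_comm, zpow_mul, zpow_natCast,
          show z ^ 2 = 1 from hz ▸ pow_orderOf_eq_one z, one_zpow]⟩
    have hEe : Cfsg.IsElementaryAbelian 2 (zpowers x ⊔ zpowers y) := by
      refine Signalizer.elemAb_sup (hZ hx) (hZ hy2) ?_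
      intro a ha b hb
      obtain ⟨i, rfl⟩ := mem_zpowers_iff.1 ha
      obtain ⟨j, rfl⟩ := mem_zpowers_iff.1 hb
      exact ((Commute.symm (hxc' y hy)).zpow_zpow i j).eq
    refine hno _ ⟨hEe, ?_⟩ (sup_le (zpowers_le.2 hxQ) (zpowers_le.2 hy))
    rw [Signalizer.card_sup_zpowers hEe le_sup_left
      ((le_sup_right : zpowers y ≤ zpowers x ⊔ zpowers y) (mem_zpowers y)) ?_,
      Nat.card_zpowers, hx]
    · norm_num
    · intro hyx
      obtain ⟨i, hi⟩ := mem_zpowers_iff.1 hyx
      rcases Int.emod_two_eq_zero_or_one i with hi2 | hi2 <;>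
        rw [← zpow_mod_orderOf, hx, Nat.cast_ofNat, hi2] at hi
      · rw [← hi, zpow_zero, orderOf_one] at hy2; omega
      · exact hne (by rw [← hi, zpow_one])
  refine ⟨x, hxQ, hx, fun g hg => ?_⟩
  have h1 := huniq _ ((mem_normalizer_iff.1 hg x).1 hxQ) (by rw [Involution.orderOf_conj]; exact hx)
  exact mem_centralizer_singleton_iff.2 (mul_inv_eq_iff_eq_mul.1 h1)

theorem Setting.isStronglyEmbedded (h : Setting S W) (hS : (S : Subgroup G) ≠ ⊥)
    (hne : normalizer (W : Set G) ≠ ⊤)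
    (hC : ∀ x ∈ S, orderOf x = 2 →
      centralizer ({x} : Set G) ≤ normalizer (W : Set G)) :
    Cfsg.IsStronglyEmbedded (normalizer (W : Set G)) := by
  haveI : Fact (Nat.Prime 2) := ⟨Nat.prime_two⟩
  set M := normalizer (W : Set G) with hM
  obtain ⟨k, hk⟩ := IsPGroup.iff_card.1 S.isPGroup'
  have heven : Even (Nat.card M) := by
    refine even_iff_two_dvd.2 (dvd_trans ?_ (card_dvd_of_le h.norm))
    rw [hk]
    refine dvd_pow_self 2 ?_
    rintro rfl
    exact hS (card_eq_one.1 (by simpa using hk))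
  refine Involution.isStronglyEmbedded_of_normalizers hne heven fun X hXM hX hX1 => ?_
  -- conjugate `X` into `S` inside `M`
  obtain ⟨P, hP⟩ := (hX.comap_of_injective M.subtype M.subtype_injective).exists_le_sylow
  let S' : Sylow 2 M := S.subtype h.norm
  obtain ⟨g, hg⟩ := MulAction.exists_smul_eq M S' P
  have hXg : X ≤ MulAut.conj (g : G) • (S : Subgroup G) := fun x hx => by
    have h1 : (⟨x, hXM hx⟩ : M) ∈ P := hP (show (⟨x, hXM hx⟩ : M) ∈ X.comap M.subtype from hx)
    rw [← hg] at h1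
    obtain ⟨s, hs, hsx⟩ := h1
    exact ⟨s, hs, congrArg Subtype.val hsx⟩
  by_cases hfour : ∃ E : Subgroup G, IsFour E ∧ E ≤ X
  · obtain ⟨E, hE, hEX⟩ := hfour
    exact h.normalizer_le g.2 hE hEX hXg
  push Not at hfour
  obtain ⟨x, hxX, hx, hle⟩ := normalizer_le_centralizer_of_no_four hX hX1 hfour
  refine hle.trans fun c hc => ?_
  have hxS : (g : G)⁻¹ * x * g ∈ S := (Solvable.mem_conj_iff _ _ _).1 (hXg hxX)
  have hord : orderOf ((g : G)⁻¹ * x * g) = 2 := by
    have := Involution.orderOf_conj (g : G)⁻¹ x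
    rw [inv_inv] at this
    rw [this, hx]
  have h2 : (g : G)⁻¹ * c * g ∈ M := hC _ hxS hord (mem_centralizer_singleton_iff.2 (by
    have := mem_centralizer_singleton_iff.1 hc
    calc (g : G)⁻¹ * c * g * ((g : G)⁻¹ * x * g) = (g : G)⁻¹ * (c * x) * g := by group
      _ = (g : G)⁻¹ * (x * c) * g := by rw [this]
      _ = (g : G)⁻¹ * x * g * ((g : G)⁻¹ * c * g) := by group))
  simpa [mul_assoc] using mul_mem (mul_mem g.2 h2) (inv_mem g.2)

/-- Core killing, given that strongly embedded subgroups have their odd core in that of `G`. -/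
theorem Setting.core_eq_bot (h : Setting S W)
    (hSE : ∀ H : Subgroup G, Cfsg.IsStronglyEmbedded H →
      (Cfsg.oddCore ↥H).map H.subtype ≤ Cfsg.oddCore G)
    (hO : Cfsg.oddCore G = ⊥)
    (hC : ∀ x ∈ S, orderOf x = 2 → centralizer ({x} : Set G) ≤ normalizer (W : Set G))
    (t : G) (ht : orderOf t = 2) : Cfsg.centralizerPPrimeCore 2 t = ⊥ := by
  haveI : Fact (Nat.Prime 2) := ⟨Nat.prime_two⟩
  obtain ⟨P, hP⟩ := (IsPGroup.of_card (G := zpowers t) (p := 2) (n := 1)
    (by rw [Nat.card_zpowers, ht, pow_one])).exists_le_sylow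
  obtain ⟨g, hg⟩ := MulAction.exists_smul_eq G P S
  have htS : g * t * g⁻¹ ∈ S := hg ▸ ⟨t, hP (mem_zpowers t), rfl⟩
  have hW : W = ⊥ := by
    have hcop : (Nat.card W).Coprime 2 := ((Nat.prime_two.coprime_iff_not_dvd).2 h.odd).symm
    rw [eq_bot_iff, ← hO]
    by_cases hne : normalizer (W : Set G) = ⊤
    · exact Cores.le_pPrimeCore (normalizer_eq_top_iff.1 hne) hcop
    have hS : (S : Subgroup G) ≠ ⊥ := fun e => by
      have h1 : g * t * g⁻¹ = 1 := (mem_bot (G := G)).1 (e ▸ htS)
      rw [conj_eq_one_iff] at h1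
      rw [h1, orderOf_one] at ht; omega
    refine le_trans (fun w hw => ?_) (hSE _ (h.isStronglyEmbedded hS hne hC))
    refine ⟨⟨w, le_normalizer hw⟩, ?_, rfl⟩
    refine Cores.le_pPrimeCore (N := W.subgroupOf (normalizer (W : Set G))) normal_in_normalizer
      ?_ (show (⟨w, le_normalizer hw⟩ : normalizer (W : Set G)) ∈ W.subgroupOf _ from hw)
    rw [Cores.card_subgroupOf le_normalizer]; exact hcop
  have h1 : Cfsg.centralizerPPrimeCore 2 (g * t * g⁻¹) = ⊥ := by
    rw [eq_bot_iff, ← hW]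
    exact h.core_le htS (by rw [Involution.orderOf_conj, ht])
  rw [← Signalizer.map_conj_centralizerPPrimeCore] at h1
  exact (map_eq_bot_iff_of_injective _ (MulAut.conj g).injective).1 h1

end Cfsg.Agent.CoreKilling
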