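import Cfsg.Agent.Lib.TwoCore.Flat

/-!
# The local configuration with a second central involution (core killing, part I, L1)

`K` has no odd core, `z` is a central involution, the other involutions of `H` control their
fusion, and `v ≠ z` is an involution central in the Sylow subgroup `T ≤ H`.

* `CentLoc.exists_conj` : every good involution of `T` is a conjugate of `v` times `1` or `z`
* `CentLoc.toLoc` : it is a local configuration in the sense of part II
* `CentLoc.flat` : and a flat one, so `CentLoc.commute` : the involutions of `T` commute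
-/

set_option autoImplicit false
set_option linter.unusedSectionVars false
set_option linter.style.haveILetI false

namespace Cfsg.Agent.CoreKilling

open Subgroup Involution TwoCore
open scoped Pointwise

universe u

variable {K : Type u} [Group K]

/-- A local configuration with `v` central in `T`. -/
structure CentLoc (T : Sylow 2 K) (H : Subgroup K) (z v : K) : Prop where
  core : Cfsg.pPrimeCore 2 K = ⊥
  z2 : orderOf z = 2
  zc : z ∈ center K
  le : (T : Subgroup K) ≤ H
  ne_top : H ≠ ⊤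
  ctl : ∀ d : K, orderOf d = 2 → d ≠ z → d ∈ H → ∀ g : K, g * d * g⁻¹ ∈ H → g ∈ H
  v2 : orderOf v = 2
  vz : v ≠ z
  vT : v ∈ T
  cent : ∀ s ∈ T, Commute s v
  e8 : ∀ e ∈ T, orderOf e = 2 →
    ∃ F : Subgroup K, F ≤ (T : Subgroup K) ∧ Cfsg.IsElementaryAbelian 2 F ∧ 2 ^ 3 ≤ Nat.card F ∧ e ∈ F

variable [Finite K] {T : Sylow 2 K} {H : Subgroup K} {z v : K}

namespace CentLoc

variable (L : CentLoc T H z v)
include L

theorem z_comm (x : K) : Commute z x := (mem_center_iff.1 L.zc x).symm

theorem v_mem_H : v ∈ H := L.le L.vT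

theorem eq_z_of_mem_core {d : K} (hd : orderOf d = 2) (hdN : d ∈ H.normalCore) : d = z := by
  by_contra hne
  refine L.ne_top (eq_top_iff.2 fun g _ => L.ctl d hd hne (H.normalCore_le hdN) g ?_)
  exact H.normalCore_le (H.normalCore_normal.conj_mem d hdN g)

theorem z_mem_H : z ∈ H := by
  haveI : Fact (Nat.Prime 2) := ⟨Nat.prime_two⟩
  obtain ⟨g, -, hg⟩ := TwoCore.exists_conj_sylow_mem T (Γ := ⊤) le_top (P := zpowers z)
    (IsPGroup.of_card (n := 1) (by rw [Nat.card_zpowers, L.z2, pow_one])) le_top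
  have h := hg z (mem_zpowers z)
  rw [← (L.z_comm g).eq, mul_inv_cancel_right] at h
  exact L.le h

theorem pPrimeCore_core : Cfsg.pPrimeCore 2 H.normalCore = ⊥ := by
  haveI := H.normalCore_normal
  have h := Cores.pPrimeCore_map_subtype (p := 2) H.normalCore
  rw [L.core, bot_inf_eq, Subgroup.map_eq_bot_iff, Subgroup.ker_subtype] at h
  exact le_bot_iff.1 h

/-- An involution of a coset of the core of `H` centralised by it differs by `1` or `z`. -/
theorem sq_cases {w d : K} (hw : orderOf w = 2) (hd : orderOf d = 2)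
    (hcent : ∀ n ∈ H.normalCore, Commute w n) (hdw : w * d ∈ H.normalCore) :
    d = w ∨ d = w * z := by
  have hn := hcent _ hdw
  have h2 : w * d * (w * d) = 1 := by
    have h1 : w * (w * d) = d := by rw [← mul_assoc, mul_self hw, one_mul]
    have h3 : (w * d) * w = d := by rw [← hn.eq, h1]
    calc w * d * (w * d) = (w * d * w) * d := by group
      _ = 1 := by rw [h3, mul_self hd]
  rcases eq_or_ne (w * d) 1 with h | h
  · left
    rw [mul_eq_one_iff_eq_inv'] at h
    rw [h, inv_eq hw]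
  · right
    rw [← L.eq_z_of_mem_core (orderOf_of_sq h2 h) hdw, ← mul_assoc, mul_self hw, one_mul]

theorem v_cent : ∀ n ∈ H.normalCore, Commute v n :=
  haveI := H.normalCore_normal
  TwoCore.centralizes_of_sylow T L.pPrimeCore_core L.zc (mul_self L.z2)
    (fun x hx h2 => L.eq_z_of_mem_core h2 hx) L.v2 L.vT
    (fun h => L.vz (L.eq_z_of_mem_core L.v2 h)) fun q hq _ => (L.cent q hq).symm

local notation "π" => QuotientGroup.mk' (Subgroup.normalCore H)

theorem map_mem_iff {g : K} : π g ∈ H.map π ↔ g ∈ H := by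
  refine ⟨?_, mem_map_of_mem _⟩
  rintro ⟨x, hx, hxg⟩
  have := H.mul_mem hx (H.normalCore_le (QuotientGroup.eq.1 hxg))
  rwa [mul_inv_cancel_left] at this

theorem map_good {d : K} (hd : Good H z d) : orderOf (π d) = 2 :=
  orderOf_of_sq (by rw [← map_mul, mul_self hd.1, map_one])
    (fun e => hd.2.1 (L.eq_z_of_mem_core hd.1 ((QuotientGroup.eq_one_iff d).1 e)))

theorem conj_map_mem {d : K} (hd : Good H z d) (x : K ⧸ H.normalCore) :
    x * π d * x⁻¹ ∈ H.map π ↔ x ∈ H.map π := by
  obtain ⟨g, rfl⟩ := QuotientGroup.mk'_surjective _ x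
  rw [← map_inv, ← map_mul, ← map_mul, L.map_mem_iff, L.map_mem_iff]
  exact ⟨L.ctl d hd.1 hd.2.1 hd.2.2 g, fun hg => H.mul_mem (H.mul_mem hg hd.2.2) (H.inv_mem hg)⟩

theorem map_ne_top : H.map π ≠ ⊤ := fun h =>
  L.ne_top (eq_top_iff.2 fun g _ => L.map_mem_iff.1 (h ▸ mem_top _))

theorem normalCore_map : (H.map π).normalCore = ⊥ := by
  refine (eq_bot_iff_forall _).2 fun x hx => ?_
  obtain ⟨g, rfl⟩ := QuotientGroup.mk'_surjective _ x
  refine (QuotientGroup.eq_one_iff g).2 ?_
  have : (H.map π).normalCore.comap π ≤ H.normalCore :=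
    normal_le_normalCore.2 fun a ha => L.map_mem_iff.1 (normalCore_le _ ha)
  exact this hx

/-- A conjugate of `v` commuting with it modulo the core is conjugate into `T` by an element of
`H` fixing `v` modulo the core. -/
theorem exists_conj_commute {w : K} (hw : w ∈ H) (hw2 : orderOf w = 2)
    (hc : v * w * v⁻¹ * w⁻¹ ∈ H.normalCore) :
    ∃ γ ∈ H, γ * w * γ⁻¹ ∈ T ∧ γ * v * γ⁻¹ * v⁻¹ ∈ H.normalCore := by
  haveI : Fact (Nat.Prime 2) := ⟨Nat.prime_two⟩
  haveI := H.normalCore_normal
  set Γ : Subgroup K := H ⊓ (centralizer ({π v} : Set (K ⧸ H.normalCore))).comap π with hΓ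
  have hmem : ∀ {x : K}, x ∈ Γ ↔ x ∈ H ∧ π x * π v = π v * π x := fun {x} => by
    rw [hΓ, mem_inf, mem_comap, mem_centralizer_singleton_iff]
  have hwΓ : w ∈ Γ := by
    refine hmem.2 ⟨hw, ?_⟩
    have h1 : π (v * w * v⁻¹ * w⁻¹) = 1 := (QuotientGroup.eq_one_iff _).2 hc
    rw [map_mul, map_mul, map_mul, map_inv, map_inv, mul_inv_eq_one, mul_inv_eq_iff_eq_mul] at h1
    exact h1.symm
  have hTΓ : (T : Subgroup K) ≤ Γ := fun t ht => hmem.2 ⟨L.le ht, by
    rw [← map_mul, ← map_mul, (L.cent t ht).eq]⟩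
  obtain ⟨γ, hγ, hγT⟩ := TwoCore.exists_conj_sylow_mem T hTΓ (P := zpowers w)
    (IsPGroup.of_card (n := 1) (by rw [Nat.card_zpowers, hw2, pow_one])) (zpowers_le.2 hwΓ)
  refine ⟨γ, (hmem.1 hγ).1, hγT w (mem_zpowers w), (QuotientGroup.eq_one_iff _).1 ?_⟩
  show π (γ * v * γ⁻¹ * v⁻¹) = 1
  rw [map_mul, map_mul, map_mul, map_inv, map_inv, (hmem.1 hγ).2]
  group

theorem flat : Flat H v := by
  intro k hwH hne hcomm c hc
  haveI := H.normalCore_normal
  obtain ⟨γ, hγ, hwT, hγv⟩ := L.exists_conj_commute hwH (by rw [orderOf_conj]; exact L.v2) hcomm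
  set w := k * v * k⁻¹ with hw
  have hw2 : orderOf w = 2 := by rw [hw, orderOf_conj]; exact L.v2
  set w' := γ * w * γ⁻¹ with hw'
  have hcm : Commute v w' := (L.cent w' hwT).symm
  have hw'2 : orderOf w' = 2 := by rw [hw', orderOf_conj]; exact hw2
  have h1v : π (γ * v * γ⁻¹ * v⁻¹) = 1 := (QuotientGroup.eq_one_iff _).2 hγv
  rw [map_mul, map_mul, map_mul, map_inv, map_inv, mul_inv_eq_one] at h1v
  have hu : π (v * w') = π γ * (π v * π w) * (π γ)⁻¹ := by
    rw [map_mul, hw', map_mul, map_mul, map_inv]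
    calc π v * (π γ * π w * (π γ)⁻¹) = π γ * π v * (π γ)⁻¹ * (π γ * π w * (π γ)⁻¹) := by rw [h1v]
      _ = _ := by group
  have huN : v * w' ∉ H.normalCore := fun h => by
    have h1 : π (v * w') = 1 := (QuotientGroup.eq_one_iff _).2 h
    rw [hu, conj_eq_one_iff, mul_eq_one_iff_eq_inv] at h1
    refine hne ((QuotientGroup.eq_one_iff _).1 (show π (w * v⁻¹) = 1 from ?_))
    rw [map_mul, map_inv, h1, inv_inv, ← map_mul, mul_self hw2, map_one]
  have hgood : Good H z (v * w') := by
    refine ⟨orderOf_of_sq ?_ fun h => huN (h ▸ one_mem _), fun h => huN ?_,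
      H.mul_mem L.v_mem_H (L.le hwT)⟩
    · rw [mul_assoc, ← mul_assoc w', ← hcm.eq, mul_assoc v w' w', mul_self hw'2, mul_one,
        mul_self L.v2]
    · rw [h]
      intro g
      rw [← (L.z_comm g).eq, mul_inv_cancel_right]
      exact L.z_mem_H
  have h1 : π (γ * c * γ⁻¹) * π (v * w') * (π (γ * c * γ⁻¹))⁻¹ = π (v * w') := by
    have h2 : π (c * (v * w) * c⁻¹ * (v * w)⁻¹) = 1 := (QuotientGroup.eq_one_iff _).2 hc
    rw [map_mul, map_mul _ _ c⁻¹, map_mul _ c, map_inv, map_inv, map_mul _ v, mul_inv_eq_one] at h2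
    rw [hu, map_mul, map_mul, map_inv]
    calc _ = π γ * (π c * (π v * π w) * (π c)⁻¹) * (π γ)⁻¹ := by group
      _ = _ := by rw [h2]
  have h3 : π (γ * c * γ⁻¹) ∈ H.map π := (L.conj_map_mem hgood _).1 (by
    rw [h1]; exact mem_map_of_mem _ hgood.2.2)
  have h4 := H.mul_mem (H.mul_mem (H.inv_mem hγ) (L.map_mem_iff.1 h3)) hγ
  rwa [show γ⁻¹ * (γ * c * γ⁻¹) * γ = c by group] at h4

theorem pointClassV :
    Aschbacher.PointClass (K ⧸ H.normalCore) ((K ⧸ H.normalCore) ⧸ H.map π) (conjugatesOf (π v))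
      (Aschbacher.pointOf (H.map π) (π v)) := by
  haveI : Fact (Nat.Prime 2) := ⟨Nat.prime_two⟩
  have hv : Good H z v := ⟨L.v2, L.vz, L.v_mem_H⟩
  refine Aschbacher.pointClass (T.mapSurjective (QuotientGroup.mk'_surjective _)) (L.map_good hv)
    ?_ (L.conj_map_mem hv) ?_
  · rintro _ ⟨s, hs, rfl⟩
    exact (L.cent s hs).map π
  · intro x hc hne
    obtain ⟨g, rfl⟩ := QuotientGroup.mk'_surjective _ x
    have hw : π g * π v * (π g)⁻¹ = π (g * v * g⁻¹) := by rw [map_mul, map_mul, map_inv]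
    rw [hw] at hc hne ⊢
    have hwH : g * v * g⁻¹ ∈ H := L.map_mem_iff.1 ((L.conj_map_mem hv _).1 (by
      rw [← hc.eq, mul_inv_cancel_right]; exact mem_map_of_mem _ hv.2.2))
    intro y hy
    obtain ⟨c, rfl⟩ := QuotientGroup.mk'_surjective _ y
    refine mem_map_of_mem _ (L.flat g hwH (fun h => hne ?_) ?_ c ?_)
    · have h1 : π (g * v * g⁻¹ * v⁻¹) = 1 := (QuotientGroup.eq_one_iff _).2 h
      rwa [map_mul, map_inv, mul_inv_eq_one] at h1
    · refine (QuotientGroup.eq_one_iff _).1 (show π _ = 1 from ?_)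
      rw [map_mul, map_mul _ _ v⁻¹, map_mul, map_inv, map_inv, hc.eq, mul_inv_cancel_right,
        mul_inv_cancel]
    · refine (QuotientGroup.eq_one_iff _).1 (show π _ = 1 from ?_)
      rw [map_mul, map_mul _ _ c⁻¹, map_mul _ c, map_inv, map_inv, map_mul _ v,
        (mem_centralizer_iff_commute.1 hy).eq, mul_inv_cancel_right, mul_inv_cancel]

/-- A good involution is a conjugate of `v` times `1` or `z`. -/
theorem exists_conj {d : K} (hd : Good H z d) :
    ∃ k ∈ H, d = k * v * k⁻¹ ∨ d = k * v * k⁻¹ * z := by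
  haveI := H.normalCore_normal
  haveI := Bender.faithful_of_normalCore L.normalCore_map
  obtain ⟨g₀, -, hg₀⟩ := SetLike.exists_of_lt (lt_top_iff_ne_top.2 L.map_ne_top)
  have hmem : π d ∈ conjugatesOf (π v) := by
    refine L.pointClassV.mem_of_unique_fixed (L.map_good hd)
      (x := ((1 : K ⧸ H.normalCore) : (K ⧸ H.normalCore) ⧸ H.map π))
      (y := (g₀ : (K ⧸ H.normalCore) ⧸ H.map π)) ?_ ?_ fun p hp => ?_
    · rw [Ne, QuotientGroup.eq, inv_one, one_mul]
      exact hg₀
    · rw [smul_mk_eq_iff, inv_one, one_mul, mul_one]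
      exact mem_map_of_mem _ hd.2.2
    · induction p using QuotientGroup.induction_on with | _ a =>
      rw [smul_mk_eq_iff] at hp
      have ha : a⁻¹ ∈ H.map π := (L.conj_map_mem hd a⁻¹).1 (by rwa [inv_inv])
      rw [QuotientGroup.eq, mul_one]
      exact ha
  obtain ⟨x, hx⟩ := isConj_iff.1 hmem
  obtain ⟨k, rfl⟩ := QuotientGroup.mk'_surjective _ x
  set w := k * v * k⁻¹ with hw
  have hπw : π w = π d := by rw [hw, map_mul, map_mul, map_inv, hx]
  have hw2 : orderOf w = 2 := by rw [hw, orderOf_conj]; exact L.v2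
  have hwH : w ∈ H := L.map_mem_iff.1 (hπw ▸ mem_map_of_mem π hd.2.2)
  refine ⟨k, L.ctl v L.v2 L.vz L.v_mem_H k hwH, L.sq_cases hw2 hd.1 (fun n hn => ?_) ?_⟩
  · have h1 := (L.v_cent (k⁻¹ * n * k) (by
      have := H.normalCore_normal.conj_mem n hn k⁻¹
      rwa [inv_inv] at this)).map (MulAut.conj k).toMonoidHom
    simpa [hw, mul_assoc] using h1
  · refine (QuotientGroup.eq_one_iff _).1 (show π (w * d) = 1 from ?_)
    rw [map_mul, hπw, ← map_mul, mul_self hd.1, map_one]

/-- It is a local configuration of part II. -/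
theorem toLocBase : LocBase T H z v where
  core := L.core
  z2 := L.z2
  zc := L.zc
  le := L.le
  ne_top := L.ne_top
  ctl := L.ctl
  v2 := L.v2
  vz := L.vz
  vT := L.vT
  mark := fun s hs => Or.inl (by rw [(L.cent s hs).eq, mul_inv_cancel_right, mul_inv_cancel])

/-- It is a local configuration of part II. -/
theorem toLoc : Loc T H z v :=
  L.toLocBase.toLoc_of L.e8 (by
    intro hker a _ e he f hf _ he2 hf2 _ _ _
    haveI := H.normalCore_normal
    rcases eq_or_ne e z with rfl | hez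
    · exact L.z_comm f
    rcases eq_or_ne f z with rfl | hfz
    · exact (L.z_comm e).symm
    obtain ⟨k, hk, hke⟩ := L.exists_conj ⟨he2, hez, L.le he⟩
    suffices h : Commute (k * v * k⁻¹) f by
      rcases hke with h' | h' <;> rw [h']
      · exact h
      · exact h.mul_left (L.z_comm f)
    set f' := k⁻¹ * f * k with hf'
    suffices h : Commute v f' by
      have := h.map (MulAut.conj k).toMonoidHom
      simpa [hf', mul_assoc] using this
    have hf'H : f' ∈ H := H.mul_mem (H.mul_mem (H.inv_mem hk) (L.le hf)) hk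
    have hf'2 : orderOf f' = 2 := by
      have := orderOf_conj k⁻¹ f
      rw [inv_inv] at this
      rw [hf', this, hf2]
    have hcomm : v * f' * v⁻¹ * f'⁻¹ ∈ H.normalCore := by
      have hef : e * f * e⁻¹ * f⁻¹ ∈ H.normalCore := hker T L.le e he f hf he2 hf2
      have h1 : k * v * k⁻¹ * f * (k * v * k⁻¹)⁻¹ * f⁻¹ ∈ H.normalCore := by
        rcases hke with h' | h'
        · rwa [← h']
        · have hzz : k * v * k⁻¹ = e * z := by rw [h', mul_assoc (k * v * k⁻¹), mul_self L.z2, mul_one]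
          rw [hzz, mul_inv_rev, show e * z * f * (z⁻¹ * e⁻¹) = e * (z * f * z⁻¹) * e⁻¹ by group,
            (L.z_comm f).eq, mul_inv_cancel_right]
          exact hef
      have := H.normalCore_normal.conj_mem _ h1 k⁻¹
      convert this using 1
      rw [hf']; group
    obtain ⟨γ, hγ, hT, hγv⟩ := L.exists_conj_commute hf'H hf'2 hcomm
    set v' := γ * v * γ⁻¹ with hv'
    have hvv : v' = v ∨ v' = v * z := by
      refine L.sq_cases L.v2 (by rw [hv', orderOf_conj]; exact L.v2) L.v_cent ?_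
      have := H.normalCore_normal.conj_mem _ hγv v
      rw [inv_eq L.v2, show v * (v' * v) * v = v * v' * (v * v) by group, mul_self L.v2,
        mul_one] at this
      exact this
    have hvc : Commute v' (γ * f' * γ⁻¹) := by
      rcases hvv with h' | h' <;> rw [h']
      · exact (L.cent _ hT).symm
      · exact (L.cent _ hT).symm.mul_left (L.z_comm _)
    have h2 := hvc.map (MulAut.conj γ⁻¹).toMonoidHom
    simpa [hv', mul_assoc] using h2)

/-- The involutions of `T` commute. -/
theorem commute {e f : K} (he : e ∈ T) (hf : f ∈ T) (he2 : orderOf e = 2) (hf2 : orderOf f = 2) :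
    Commute e f :=
  L.toLoc.commute_T L.flat he hf he2 hf2

end CentLoc

end Cfsg.Agent.CoreKilling
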