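import Cfsg.Agent.Lib.CoreKilling.Basic
import Cfsg.Agent.Lib.Constrained.Basic
import Cfsg.Agent.Lib.PGroup.UniqueOrderP
import Cfsg.Agent.Lib.Transfer.QuaternionFusion
import Cfsg.Agent.Lib.TwoClassChar.LinearAction
import Cfsg.Agent.Lib.FusionMetaTwo.Radical
import Cfsg.Agent.Lib.Signalizer.SSFT.Main
import Cfsg.Agent.Lib.StrongEmb.Basic

/-!
# Core killing for 2-constrained centralisers

* `exists_involution_pCore` : in a group of characteristic 2 and a central involution
  `x` lying in an elementary abelian group of order 8, `O_2` has an involution other than `x`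
* `Setting.centralizer_le` : `C(x) ≤ N(W)` when `C(x)` is 2-constrained and of 2-rank at least 3 at `x`
-/

set_option autoImplicit false

namespace Cfsg.Agent.CoreKilling

open Subgroup
open scoped Pointwise

universe u

theorem mulAut_cases {Q : Type*} [Group Q] [Finite Q] (hQ : IsPGroup 2 Q) {x : Q}
    (huniq : ∀ y : Q, orderOf y = 2 → y = x) :
    IsPGroup 2 (MulAut Q) ∨ Nonempty (Q ≃* QuaternionGroup 2) := by
  haveI : Fact (Nat.Prime 2) := ⟨Nat.prime_two⟩
  rcases PGroup.unique_order_p_cases hQ (fun a b ha hb => by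
      rcases eq_or_ne b 1 with rfl | hb1
      · exact one_mem _
      · rw [huniq a ha, ← huniq b (orderOf_eq_prime hb hb1)]
        exact mem_zpowers b) with h | ⟨-, n, ⟨e⟩⟩
  · haveI := h
    exact Or.inl (Transfer.isPGroup_mulAut_of_isCyclic hQ)
  rcases Transfer.quaternion_subgroup_cases rfl (⊤ : Subgroup (QuaternionGroup (2 ^ n))) with h | ⟨⟨f⟩⟩
  · exact Or.inl (Transfer.isPGroup_mulAut_of_equiv (e.trans Subgroup.topEquiv.symm) h)
  · exact Or.inr ⟨(e.trans Subgroup.topEquiv.symm).trans f⟩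

theorem exists_involution_pCore {C : Type*} [Group C] [Finite C]
    (hC : Constrained.IsCharP 2 C) {x : C} (hx : orderOf x = 2) (hxc : x ∈ center C)
    {F : Subgroup C} (hF : Cfsg.IsElementaryAbelian 2 F) (hF3 : 2 ^ 3 ≤ Nat.card F) :
    ∃ u ∈ Cfsg.pCore 2 C, orderOf u = 2 ∧ u ≠ x := by
  haveI : Fact (Nat.Prime 2) := ⟨Nat.prime_two⟩
  by_contra hcon
  push Not at hcon
  set Q := Cfsg.pCore 2 C with hQdef
  haveI hQn : Q.Normal := Cores.pCore_normal 2 C
  have hQ : IsPGroup 2 Q := Cores.isPGroup_pCore 2 C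
  have hxQ : x ∈ Q := by
    refine Cores.le_pCore (N := zpowers x) ?_ (IsPGroup.of_card (n := 1)
      (by rw [Nat.card_zpowers, hx, pow_one])) (mem_zpowers x)
    exact ⟨fun a ha g => by
      have : a ∈ center C := zpowers_le.2 hxc ha
      rw [mem_center_iff.1 this g, mul_inv_cancel_right]; exact ha⟩
  have huniq : ∀ y ∈ Q, orderOf y = 2 → y = x := hcon
  have hker : ((MulAut.conjNormal : C →* MulAut Q)).ker ≤ Q := by
    refine le_trans ?_ hC
    intro g hg
    rw [MonoidHom.mem_ker] at hg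
    refine mem_centralizer_iff.2 fun q hq => ?_
    have h1 := congrArg (fun f => ((f ⟨q, hq⟩ : Q) : C)) hg
    simp only [MulAut.conjNormal_apply, MulAut.one_apply] at h1
    exact (mul_inv_eq_iff_eq_mul.1 h1).symm
  set φ := (MulAut.conjNormal : C →* MulAut Q)
  -- `F` meets `Q` in at most two elements
  have hFQ : Nat.card ↥(F ⊓ Q) ≤ 2 := by
    have : ∀ y ∈ F ⊓ Q, y = 1 ∨ y = x := fun y hy => by
      rcases eq_or_ne y 1 with h | h
      · exact Or.inl h
      · exact Or.inr (huniq y hy.2 (orderOf_of_mem hF hy.1 h))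
    calc Nat.card ↥(F ⊓ Q) ≤ Nat.card ({1, x} : Set C) :=
          Nat.card_le_card_of_injective
            (fun y => ⟨y.1, by rcases this y.1 y.2 with h | h <;> simp [h]⟩)
            fun a b hab => Subtype.ext (congrArg Subtype.val hab :)
      _ ≤ 2 := by
          rw [Nat.card_coe_set_eq]
          exact (Set.ncard_insert_le _ _).trans (by rw [Set.ncard_singleton])
  rcases mulAut_cases hQ (x := ⟨x, hxQ⟩) (fun y hy => Subtype.ext
      (huniq y y.2 (by rw [orderOf_coe]; exact hy))) with h | ⟨⟨e⟩⟩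
  · -- then `C` is a 2-group
    have hC : IsPGroup 2 (⊤ : Subgroup C) := by
      intro g
      obtain ⟨k, hk⟩ := h (φ g)
      rw [← map_pow] at hk
      obtain ⟨m, hm⟩ := hQ ⟨(g : C) ^ 2 ^ k, hker hk⟩
      exact ⟨k + m, Subtype.ext (by
        rw [Subgroup.coe_pow, Subgroup.coe_one, pow_add, pow_mul]
        exact congrArg Subtype.val hm)⟩
    have htop : Q = ⊤ := eq_top_iff.2 (Cores.le_pCore inferInstance hC)
    rw [htop, inf_top_eq] at hFQ
    omega
  · have hQ8 : Nat.card Q = 8 := by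
      rw [Nat.card_congr e.toEquiv, Nat.card_eq_fintype_card, QuaternionGroup.card]
    have hkerle : Nat.card φ.ker ∣ 2 := by
      have hle : φ.ker ≤ zpowers x := fun g hg => by
        rcases eq_or_ne g 1 with rfl | hg1
        · exact one_mem _
        have hgQ := hker hg
        have hcomm : ∀ q : Q, q * ⟨g, hgQ⟩ = ⟨g, hgQ⟩ * q := fun q => Subtype.ext (by
          rw [MonoidHom.mem_ker] at hg
          have h1 := congrArg (fun f => ((f q : Q) : C)) hg
          simp only [φ, MulAut.conjNormal_apply, MulAut.one_apply] at h1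
          exact (mul_inv_eq_iff_eq_mul.1 h1).symm)
        have h2 := FusionMetaTwo.quaternion_central (e ⟨g, hgQ⟩) fun y => by
          obtain ⟨q, rfl⟩ := e.surjective y
          rw [← map_mul, ← map_mul, hcomm]
        rw [← map_pow, map_eq_one_iff e e.injective] at h2
        rw [huniq g hgQ (orderOf_eq_prime (congrArg Subtype.val h2) hg1)]
        exact mem_zpowers x
      refine (card_dvd_of_le hle).trans ?_
      rw [Nat.card_zpowers, hx]
    have hcard : Nat.card C ∣ 2 * 24 := by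
      rw [← φ.ker.card_mul_index, Subgroup.index_ker]
      exact mul_dvd_mul hkerle
        ((TwoClassChar.card_mulAut_quaternion e) ▸ card_subgroup_dvd_card φ.range)
    have hFp : IsPGroup 2 F := Signalizer.isPGroup_of_elemAb hF
    obtain ⟨k, hk⟩ := IsPGroup.iff_card.1
      (hFp.to_sup_of_normal_right' hQ (le_normalizer_of_normal (H := Q) (K := F)))
    have hprod : Nat.card ↥(F ⊔ Q) * Nat.card ↥(F ⊓ Q) = Nat.card F * Nat.card Q := by
      have key : ∀ {H K : Subgroup C}, H ≤ K → Nat.card H * H.relIndex K = Nat.card K :=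
        fun {H K} hle => by
          have := relIndex_mul_relIndex (⊥ : Subgroup C) H K bot_le hle
          rwa [relIndex_bot_left, relIndex_bot_left] at this
      have h2 : Q.relIndex F = Q.relIndex (F ⊔ Q) := (relIndex_sup_right F Q).symm
      have h3 : Nat.card ↥(F ⊔ Q) = Nat.card Q * Q.relIndex (F ⊔ Q) :=
        (key (le_sup_right : Q ≤ F ⊔ Q)).symm
      have h4 : Nat.card F = Nat.card ↥(F ⊓ Q) * Q.relIndex F := by
        rw [← inf_relIndex_left F Q]
        exact (key (inf_le_left : F ⊓ Q ≤ F)).symm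
      rw [h3, h4, ← h2]; ring
    have h32 : 2 ^ 5 ∣ Nat.card ↥(F ⊔ Q) := by
      rw [hk]
      refine pow_dvd_pow 2 ?_
      by_contra hlt
      have hle : 2 ^ k ≤ 2 ^ 4 := Nat.pow_le_pow_right two_pos (by omega)
      rw [hk, hQ8] at hprod
      nlinarith
    have h48 := h32.trans ((card_subgroup_dvd_card (F ⊔ Q)).trans hcard)
    norm_num at h48

variable {G : Type*} [Group G] [Finite G] {S : Sylow 2 G} {W : Subgroup G}

theorem Setting.centralizer_le (h : Setting S W) {x : G} (hxS : x ∈ S) (hx : orderOf x = 2)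
    (hcons : Cfsg.IsPConstrained 2 ↥(centralizer ({x} : Set G)))
    {F : Subgroup G} (hF : Cfsg.IsElementaryAbelian 2 F) (hF3 : 2 ^ 3 ≤ Nat.card F) (hxF : x ∈ F)
    (hFS : F ≤ (S : Subgroup G)) :
    centralizer ({x} : Set G) ≤ normalizer (W : Set G) := by
  haveI : Fact (Nat.Prime 2) := ⟨Nat.prime_two⟩
  set M := normalizer (W : Set G)
  set C := centralizer ({x} : Set G) with hCdef
  have hFC : F ≤ C := fun f hf =>
    mem_centralizer_singleton_iff.2 (Signalizer.commute_of_isMulCommutative hF.1 hf hxF)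
  set O := Cfsg.oddCore ↥C with hOdef
  haveI hOn : O.Normal := Cores.pPrimeCore_normal 2 ↥C
  set π := QuotientGroup.mk' O with hπ
  -- the image of `F`
  set F₀ := F.subgroupOf C with hF₀
  have hinj : ∀ a ∈ F₀, π a = 1 → a = 1 := fun a ha h1 => by
    have h2 : a ∈ O := (QuotientGroup.eq_one_iff a).1 h1
    by_contra hne
    have ho : orderOf a = 2 := orderOf_eq_prime (Subtype.ext (hF.2 _ (mem_subgroupOf.1 ha))) hne
    exact Cores.not_dvd_card_pPrimeCore (ho ▸ orderOf_dvd_natCard O h2)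
  have hF₁ : Cfsg.IsElementaryAbelian 2 (F₀.map π) := by
    refine ⟨⟨⟨?_⟩⟩, ?_⟩
    · rintro ⟨_, a, ha, rfl⟩ ⟨_, b, hb, rfl⟩
      refine Subtype.ext ?_
      show π a * π b = π b * π a
      rw [← map_mul, ← map_mul, show a * b = b * a from
        Subtype.ext (Signalizer.commute_of_isMulCommutative hF.1 ha hb)]
    · rintro _ ⟨a, ha, rfl⟩
      rw [← map_pow, show a ^ 2 = 1 from Subtype.ext (hF.2 _ (mem_subgroupOf.1 ha)), map_one]
  have hF₁3 : 2 ^ 3 ≤ Nat.card (F₀.map π) := by
    refine hF3.trans ?_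
    rw [← Cores.card_subgroupOf hFC]
    refine Nat.card_le_card_of_injective (fun a => ⟨π a.1, a.1, a.2, rfl⟩) fun a b hab => ?_
    have h1 : π (a.1 * b.1⁻¹) = 1 := by
      have hab' : π a.1 = π b.1 := congrArg Subtype.val hab
      rw [map_mul, map_inv, hab', mul_inv_cancel]
    exact Subtype.ext (mul_inv_eq_one.1 (hinj _ (mul_mem a.2 (inv_mem b.2)) h1))
  have hxC : x ∈ C := hFC hxF
  set xb := π ⟨x, hxC⟩ with hxb
  have hxb2 : orderOf xb = 2 := by
    refine orderOf_eq_prime (by rw [hxb, ← map_pow, show (⟨x, hxC⟩ : C) ^ 2 = 1 from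
      Subtype.ext (hx ▸ pow_orderOf_eq_one x), map_one]) fun h1 => ?_
    have := congrArg Subtype.val (hinj ⟨x, hxC⟩ hxF h1)
    rw [show x = 1 from this, orderOf_one] at hx
    omega
  have hxbc : xb ∈ center (↥C ⧸ O) := mem_center_iff.2 fun a => by
    obtain ⟨b, rfl⟩ := QuotientGroup.mk'_surjective O a
    rw [hxb, ← map_mul, ← map_mul]
    exact congrArg π (Subtype.ext (mem_centralizer_singleton_iff.1 b.2))
  obtain ⟨u, huQ, hu, hux⟩ := exists_involution_pCore (Constrained.isPConstrained_iff.1 hcons)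
    hxb2 hxbc hF₁ hF₁3
  -- a Sylow 2-subgroup of `C` above `F`
  obtain ⟨T, hT⟩ := ((Signalizer.isPGroup_of_elemAb hF).comap_of_injective C.subtype
    C.subtype_injective).exists_le_sylow
  have hTG : IsPGroup 2 ((T : Subgroup C).map C.subtype) := T.isPGroup'.map _
  have hFT : F ≤ (T : Subgroup C).map C.subtype := fun f hf =>
    ⟨⟨f, hFC hf⟩, hT (show (⟨f, hFC hf⟩ : C) ∈ F.comap C.subtype from hf), rfl⟩
  have hE0 : IsFour F := ⟨hF, le_trans (Nat.pow_le_pow_right two_pos (by omega)) hF3⟩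
  obtain ⟨g, hg, hTg⟩ := h.exists_conj_le hE0 hFS hTG hFT
  set L := (Cfsg.pCore 2 (↥C ⧸ O)).comap π with hL
  haveI : L.Normal := (Cores.pCore_normal 2 _).comap π
  set TL := (T : Subgroup C) ⊓ L with hTL
  -- `L = O · (T ∩ L)`
  have hLle : L ≤ O ⊔ TL := by
    have hQp : IsPGroup 2 (TL.map π) := (T.isPGroup'.to_le inf_le_left).map π
    have hidx := StrongEmb.not_dvd_relIndex_inf T L
    have hle : O ⊔ TL ≤ L := sup_le (fun o ho => by
      rw [hL, mem_comap, show π o = 1 from (QuotientGroup.eq_one_iff o).2 ho]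
      exact one_mem _) inf_le_right
    obtain ⟨m, hm⟩ := IsPGroup.iff_card.1 (Cores.isPGroup_pCore 2 (↥C ⧸ O))
    have hd1 : (O ⊔ TL).relIndex L ∣ 2 ^ m := by
      refine (relIndex_dvd_of_le_left L (le_sup_left : O ≤ O ⊔ TL)).trans ?_
      rw [← hm]
      have h5 := relIndex_comap (⊥ : Subgroup (↥C ⧸ O)) π L
      rw [MonoidHom.comap_bot, hπ, QuotientGroup.ker_mk', ← hπ] at h5
      rw [h5, hL, map_comap_eq_self_of_surjective (QuotientGroup.mk'_surjective O),
        relIndex_bot_left]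
    have hd2 : (O ⊔ TL).relIndex L ∣ (T : Subgroup C).relIndex L := by
      rw [← inf_relIndex_right (T : Subgroup C) L]
      exact relIndex_dvd_of_le_left L le_sup_right
    have h1 : (O ⊔ TL).relIndex L = 1 := by
      obtain ⟨i, -, hi⟩ := (Nat.dvd_prime_pow Nat.prime_two).1 hd1
      rcases i with _ | i
      · simpa using hi
      · exfalso
        refine hidx (dvd_trans ?_ hd2)
        rw [hi]; exact dvd_pow_self 2 (Nat.succ_ne_zero i)
    exact relIndex_eq_one.1 h1
  have hfr : normalizer (TL : Set C) ⊔ L = ⊤ := StrongEmb.normalizer_inf_sup_eq_top T L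
  -- a four-group in `T ∩ L`
  obtain ⟨u₀, hu₀L⟩ := QuotientGroup.mk'_surjective O u
  have hu₀ : u₀ ∈ O ⊔ TL := hLle (by rw [hL, mem_comap, hu₀L]; exact huQ)
  obtain ⟨o, ho, v, hv, hov⟩ := mem_sup_of_normal_left.1 hu₀
  have hvu : π v = u := by
    rw [← hu₀L, ← hov, map_mul, show π o = 1 from (QuotientGroup.eq_one_iff o).2 ho, one_mul]
  have hTO : ∀ a ∈ (T : Subgroup C), π a = 1 → a = 1 := fun a ha h1 => by
    obtain ⟨i, hi⟩ := IsPGroup.iff_orderOf.1 T.isPGroup' ⟨a, ha⟩
    rw [Subgroup.orderOf_mk] at hi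
    rcases i with _ | i
    · exact orderOf_eq_one_iff.1 (by rw [hi, pow_zero])
    · exfalso
      refine Cores.not_dvd_card_pPrimeCore (G := ↥C) (p := 2) (dvd_trans ?_
        (orderOf_dvd_natCard O ((QuotientGroup.eq_one_iff a).1 h1)))
      rw [hi]; exact dvd_pow_self 2 (Nat.succ_ne_zero i)
  have hv2 : (v : G) ^ 2 = 1 := congrArg Subtype.val (hTO (v ^ 2) (pow_mem hv.1 2)
    (by rw [map_pow, hvu]; exact hu ▸ pow_orderOf_eq_one u))
  have hv1 : (v : G) ≠ 1 := fun h1 => by
    have : u = 1 := by rw [← hvu, show v = 1 from Subtype.ext h1, map_one]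
    rw [this, orderOf_one] at hu; omega
  have hxv : (v : G) ≠ x := fun h1 => hux (by rw [hxb, ← hvu]; exact congrArg π (Subtype.ext h1))
  have hxTL : (⟨x, hxC⟩ : C) ∈ TL := by
    refine ⟨hT hxF, ?_⟩
    refine mem_comap.2 ?_
    refine Cores.le_pCore (N := zpowers xb) ?_ (IsPGroup.of_card (n := 1)
      (by rw [Nat.card_zpowers, hxb2, pow_one])) (mem_zpowers xb)
    exact ⟨fun a ha b => by
      rw [mem_center_iff.1 (zpowers_le.2 hxbc ha) b, mul_inv_cancel_right]; exact ha⟩
  have hfour : IsFour (zpowers x ⊔ zpowers (v : G)) := by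
    have hZ : ∀ {z : G}, z ^ 2 = 1 → Cfsg.IsElementaryAbelian 2 (zpowers z) := fun {z} hz =>
      ⟨inferInstance, fun a ha => by
        obtain ⟨i, rfl⟩ := ha
        rw [← zpow_natCast, ← zpow_mul, mul_comm, zpow_mul, zpow_natCast, hz, one_zpow]⟩
    have hEe : Cfsg.IsElementaryAbelian 2 (zpowers x ⊔ zpowers (v : G)) := by
      refine Signalizer.elemAb_sup (hZ (hx ▸ pow_orderOf_eq_one x)) (hZ hv2) ?_
      intro a ha b hb
      obtain ⟨i, rfl⟩ := mem_zpowers_iff.1 ha
      obtain ⟨j, rfl⟩ := mem_zpowers_iff.1 hb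
      exact ((show Commute x (v : G) from
        (mem_centralizer_singleton_iff.1 v.2).symm).zpow_zpow i j).eq
    refine ⟨hEe, ?_⟩
    rw [Signalizer.card_sup_zpowers hEe le_sup_left
      ((le_sup_right : zpowers (v : G) ≤ _) (mem_zpowers _)) ?_, Nat.card_zpowers, hx]
    · norm_num
    · intro hmem
      obtain ⟨i, hi⟩ := mem_zpowers_iff.1 hmem
      rcases Int.emod_two_eq_zero_or_one i with hi2 | hi2 <;>
        rw [← zpow_mod_orderOf, hx, Nat.cast_ofNat, hi2] at hi
      · exact hv1 (by rw [← hi, zpow_zero])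
      · exact hxv (by rw [← hi, zpow_one])
  have hN : normalizer ((TL.map C.subtype : Subgroup G) : Set G) ≤ M := by
    refine h.normalizer_le hg hfour (sup_le (zpowers_le.2 ⟨_, hxTL, rfl⟩)
      (zpowers_le.2 ⟨v, hv, rfl⟩)) ?_
    exact (Subgroup.map_mono inf_le_left).trans hTg
  -- assemble
  have hOM : O ≤ M.comap C.subtype := fun o ho => by
    show (o : G) ∈ M
    exact le_normalizer (h.core_le hxS hx ⟨o, ho, rfl⟩)
  have hTM : TL ≤ M.comap C.subtype := fun a ha =>
    h.conj_sylow_le hg (hTg ⟨a, ha.1, rfl⟩)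
  have hNM : normalizer (TL : Set C) ≤ M.comap C.subtype := fun a ha =>
    hN (le_normalizer_map C.subtype ⟨a, ha, rfl⟩)
  have htop : (⊤ : Subgroup C) ≤ M.comap C.subtype := by
    rw [← hfr]
    exact sup_le hNM (hLle.trans (sup_le hOM hTM))
  exact fun c hc => htop (mem_top (⟨c, hc⟩ : C))

end Cfsg.Agent.CoreKilling
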