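import Cfsg.Agent.Lib.CoreKilling.FromConnected
import Cfsg.Agent.Lib.CoreKilling.SolvableCentralizer
import Cfsg.Agent.Lib.OddOrderTheorem.Basic

/-!
# Core killing for 2-constrained involution centralisers

`core_eq_bot_of_constrained` : a Sylow 2-subgroup with connected graph of four-subgroups, 2-rank
at least 3, 2-constrained involution centralisers, `O(G) = 1` and `O(H) ≤ O(G)` for strongly
embedded `H` imply that all the cores are trivial.
-/

set_option autoImplicit false

namespace Cfsg.Agent.CoreKilling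

open Subgroup

variable {G : Type*} [Group G] [Finite G]

theorem isSolvableSignalizerFunctor_core_of_constrained {A : Subgroup G}
    (hA : Cfsg.IsElementaryAbelian 2 A)
    (hcons : ∀ a ∈ A, a ≠ 1 → Cfsg.IsPConstrained 2 ↥(centralizer ({a} : Set G))) :
    Cfsg.IsSolvableSignalizerFunctor 2 A (fun a => Cfsg.centralizerPPrimeCore 2 a) :=
  haveI : Fact (Nat.Prime 2) := ⟨Nat.prime_two⟩
  ⟨⟨fun a _ _ => Signalizer.core_le_centralizer a, fun a _ _ => Signalizer.not_dvd_card_core a,
    fun _ ha _ _ hb _ hx => Signalizer.conj_mem (Signalizer.invariant_core hA.1 ha) hb hx,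
    fun a ha _ b hb hb1 => Signalizer.core_inf_centralizer_le_core (hA.2 a ha)
      (Signalizer.commute_of_isMulCommutative hA.1 ha hb) (hcons b hb hb1)⟩,
    fun a _ _ => OddOrderTheorem.solvable (Nat.odd_iff.2
      (Nat.two_dvd_ne_zero.1 (Signalizer.not_dvd_card_core (p := 2) a)))⟩

theorem core_eq_bot_of_constrained
    (hSE : ∀ H : Subgroup G, Cfsg.IsStronglyEmbedded H →
      (Cfsg.oddCore ↥H).map H.subtype ≤ Cfsg.oddCore G)
    (hO : Cfsg.oddCore G = ⊥) (h3 : ¬ Cfsg.PRankLE 2 2 G) (S : Sylow 2 G)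
    (hS : Cfsg.IsFourConnected (S : Subgroup G))
    (hcons : ∀ t : G, orderOf t = 2 → Cfsg.IsPConstrained 2 ↥(centralizer ({t} : Set G)))
    (t : G) (ht : orderOf t = 2) : Cfsg.centralizerPPrimeCore 2 t = ⊥ := by
  obtain ⟨W, hW, hF⟩ := exists_setting_of_connected (fun F hFe _ =>
    isSolvableSignalizerFunctor_core_of_constrained hFe fun a ha ha1 =>
      hcons a (orderOf_of_mem hFe ha ha1)) S hS h3
  refine hW.core_eq_bot hSE hO (fun x hxS hx => ?_) t ht
  obtain ⟨F, hFe, hF3, hxF, hFS⟩ := hF x hxS hx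
  exact hW.centralizer_le hxS hx (hcons x hx) hFe hF3 hxF hFS

end Cfsg.Agent.CoreKilling
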