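import Cfsg.Agent.Lib.CoreKilling.GenDefs
import Cfsg.Agent.Lib.CoreKilling.FromNormalRankThree
import Cfsg.Agent.Lib.TwoCore.Group

/-!
# A completion on `S` from a marked four-group (owner: helper82)

* `exists_gen_of_mark` : an equivariant functor which is a solvable signalizer functor on the
  elementary subgroups of order at least 8 of `S` has a completion normalised by `S`, when `S` has
  a central involution `z`, an involution `v` with `[S, v] ≤ ⟨z⟩`, and the property of part I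
-/

set_option autoImplicit false
set_option linter.unusedSectionVars false
set_option linter.style.haveILetI false

namespace Cfsg.Agent.CoreKilling

open Subgroup

universe u

variable {G : Type u} [Group G] [Finite G]

theorem exists_gen_of_mark {θ : G → Subgroup G} {S : Sylow 2 G}
    (heq : ∀ g a : G, θ (g * a * g⁻¹) = (θ a).map (MulAut.conj g).toMonoidHom)
    (hle : ∀ a : G, orderOf a = 2 → θ a ≤ centralizer ({a} : Set G))
    (hodd : ∀ a : G, orderOf a = 2 → ¬ 2 ∣ Nat.card (θ a))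
    (hθ : ∀ F : Subgroup G, F ≤ (S : Subgroup G) → Cfsg.IsElementaryAbelian 2 F →
      2 ^ 3 ≤ Nat.card F → Cfsg.IsSolvableSignalizerFunctor 2 F θ)
    (he8 : ∀ x ∈ S, orderOf x = 2 → ∃ F : Subgroup G,
      F ≤ (S : Subgroup G) ∧ Cfsg.IsElementaryAbelian 2 F ∧ 2 ^ 3 ≤ Nat.card F ∧ x ∈ F)
    {z v : G} (hzS : z ∈ S) (hz : orderOf z = 2) (hzc : ∀ s ∈ S, Commute s z)
    (hvS : v ∈ S) (hv : orderOf v = 2) (hvz : v ≠ z)
    (hmark : ∀ s ∈ S, s * v * s⁻¹ * v⁻¹ = 1 ∨ s * v * s⁻¹ * v⁻¹ = z) :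
    ∃ W : Subgroup G, Gen θ S W := by
  haveI : Fact (Nat.Prime 2) := ⟨Nat.prime_two⟩
  let w : Subgroup G → Subgroup G := fun F => Signalizer.wSub θ F
  have hfun : ∀ F : Subgroup G, F ≤ (S : Subgroup G) → Cfsg.IsElementaryAbelian 2 F →
      2 ^ 3 ≤ Nat.card F → ¬ 2 ∣ Nat.card (w F) ∧ (∀ a ∈ F, a ≠ 1 →
        w F ⊓ centralizer ({a} : Set G) = θ a) ∧ F ≤ normalizer (w F : Set G) := fun F hFS hF hF3 =>
    ⟨(Signalizer.solvable_signalizer_functor hF hF3 (hθ F hFS hF hF3)).2.1,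
      (Signalizer.solvable_signalizer_functor hF hF3 (hθ F hFS hF hF3)).2.2,
      Signalizer.le_normalizer_iSup fun c => Signalizer.le_normalizer_of_conj_mem fun b hb x hx => by
        rw [show (c : G) = b * c * b⁻¹ by
          rw [Signalizer.commute_of_isMulCommutative hF.1 hb c.2.1]; group, heq]
        exact ⟨x, hx, rfl⟩⟩
  have hshare : ∀ F F' E : Subgroup G, F ≤ (S : Subgroup G) → Cfsg.IsElementaryAbelian 2 F →
      2 ^ 3 ≤ Nat.card F → IsFour E → E ≤ F → E ≤ F' → w F ≤ w F' := by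
    intro F F' E hFS hF hF3 hE hEF hEF'
    obtain ⟨h1, h2, h3⟩ := hfun F hFS hF hF3
    exact Signalizer.le_of_elements hE.1 hE.2 (w F') _ h1 (hEF.trans h3) fun e he he1 =>
      (h2 e (hEF he) he1).le.trans (Signalizer.le_wSub (hEF' he) he1)
  have hZv : Commute z v := (hzc v hvS).symm
  set E0 : Subgroup G := zpowers z ⊔ zpowers v with hE0def
  have hE0 : IsFour E0 := TwoCore.isFour_pair hz hv hvz hZv
  -- every such group moves to one through `⟨z, v⟩`
  have hmove : ∀ F : Subgroup G, F ≤ (S : Subgroup G) → Cfsg.IsElementaryAbelian 2 F →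
      2 ^ 3 ≤ Nat.card F → ∃ F2 : Subgroup G, F2 ≤ (S : Subgroup G) ∧
        Cfsg.IsElementaryAbelian 2 F2 ∧ 2 ^ 3 ≤ Nat.card F2 ∧ E0 ≤ F2 ∧ w F = w F2 := by
    intro F hFS hF hF3
    set F1 := F ⊔ zpowers z with hF1def
    have hF1S : F1 ≤ (S : Subgroup G) := sup_le hFS (zpowers_le.2 hzS)
    have hF1 : Cfsg.IsElementaryAbelian 2 F1 := by
      refine Signalizer.elemAb_sup hF
        (isElementaryAbelian_zpowers (hz ▸ pow_orderOf_eq_one z)) fun a ha b hb => ?_
      obtain ⟨i, rfl⟩ := mem_zpowers_iff.1 hb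
      exact ((hzc a (hFS ha)).zpow_right i).eq
    have hF13 : 2 ^ 3 ≤ Nat.card F1 := hF3.trans (card_le_of_le le_sup_left)
    have hF4 : IsFour F := ⟨hF, (by norm_num : 2 ^ 2 ≤ 2 ^ 3).trans hF3⟩
    have h01 : w F = w F1 := le_antisymm (hshare F F1 F hFS hF hF3 hF4 le_rfl le_sup_left)
      (hshare F1 F F hF1S hF1 hF13 hF4 le_sup_left le_rfl)
    have hzF1 : z ∈ F1 := le_sup_right (a := F) (mem_zpowers z)
    by_cases hvF1 : v ∈ F1
    · exact ⟨F1, hF1S, hF1, hF13, sup_le (zpowers_le.2 hzF1) (zpowers_le.2 hvF1), h01⟩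
    set D := F1 ⊓ centralizer ({v} : Set G) with hD
    have hzD : z ∈ D := ⟨hzF1, mem_centralizer_singleton_iff.2 hZv⟩
    have hDe : Cfsg.IsElementaryAbelian 2 D := Signalizer.elemAb_of_le hF1 inf_le_left
    have hDS : D ≤ (S : Subgroup G) := inf_le_left.trans hF1S
    have hcard : Nat.card F1 ≤ 2 * Nat.card D := by
      by_cases hall : F1 ≤ D
      · exact le_trans (card_le_of_le hall) (Nat.le_mul_of_pos_left _ two_pos)
      obtain ⟨e, heF, heD⟩ := SetLike.not_le_iff_exists.1 hall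
      have hk : ∀ x ∈ F1, x ∉ D → x * v * x⁻¹ = z * v := fun x hx hxD => by
        refine mul_inv_eq_iff_eq_mul.1 ((hmark x (hF1S hx)).resolve_left fun h => hxD ⟨hx, ?_⟩)
        exact mem_centralizer_singleton_iff.2
          (mul_inv_eq_iff_eq_mul.1 (mul_inv_eq_one.1 h))
      have hle' : F1 ≤ D ⊔ zpowers e := by
        intro x hx
        by_cases hxD : x ∈ D
        · exact le_sup_left (b := zpowers e) hxD
        have he' := hk e heF heD
        have hx' := hk x hx hxD
        have hex : e * x ∈ D := by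
          refine ⟨F1.mul_mem heF hx, mem_centralizer_singleton_iff.2 ?_⟩
          have h1 : e * x * v * (e * x)⁻¹ = v := by
            rw [show e * x * v * (e * x)⁻¹ = e * (x * v * x⁻¹) * e⁻¹ by group, hx',
              show e * (z * v) * e⁻¹ = (e * z * e⁻¹) * (e * v * e⁻¹) by group, he',
              (hzc e (hF1S heF)).eq, mul_inv_cancel_right, ← mul_assoc, Involution.mul_self hz,
              one_mul]
          exact mul_inv_eq_iff_eq_mul.1 h1
        have := mul_mem_sup (inv_mem hex) (mem_zpowers e)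
        have hxinv : (e * x)⁻¹ * e = x⁻¹ := by group
        rw [hxinv] at this
        exact inv_mem_iff.1 this
      refine (card_le_of_le hle').trans (le_of_eq ?_)
      rw [Signalizer.card_sup_zpowers hF1 inf_le_left heF heD, mul_comm]
    have hD4 : IsFour D := ⟨hDe, by omega⟩
    set F2 := D ⊔ zpowers v with hF2def
    have hF2 : Cfsg.IsElementaryAbelian 2 F2 := by
      refine Signalizer.elemAb_sup hDe
        (isElementaryAbelian_zpowers (hv ▸ pow_orderOf_eq_one v)) fun a ha b hb => ?_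
      obtain ⟨i, rfl⟩ := mem_zpowers_iff.1 hb
      exact ((show Commute a v from mem_centralizer_singleton_iff.1 ha.2).zpow_right i).eq
    have hF23 : 2 ^ 3 ≤ Nat.card F2 := by
      rw [hF2def, Signalizer.card_sup_zpowers hF2 le_sup_left
        (le_sup_right (a := D) (mem_zpowers v)) fun h => hvF1 h.1]
      omega
    have hF2S : F2 ≤ (S : Subgroup G) := sup_le hDS (zpowers_le.2 hvS)
    refine ⟨F2, hF2S, hF2, hF23, sup_le (zpowers_le.2 (le_sup_left (b := zpowers v) hzD))
      le_sup_right, h01.trans (le_antisymm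
        (hshare F1 F2 D hF1S hF1 hF13 hD4 inf_le_left le_sup_left)
        (hshare F2 F1 D hF2S hF2 hF23 hD4 le_sup_left inf_le_left))⟩
  obtain ⟨F0, hF0S, hF0, hF03, -⟩ := he8 z hzS hz
  have hall : ∀ F : Subgroup G, F ≤ (S : Subgroup G) → Cfsg.IsElementaryAbelian 2 F →
      2 ^ 3 ≤ Nat.card F → w F = w F0 := by
    intro F hFS hF hF3
    obtain ⟨F2, h2S, h2, h23, hE2, e2⟩ := hmove F hFS hF hF3
    obtain ⟨F2', h2S', h2', h23', hE2', e2'⟩ := hmove F0 hF0S hF0 hF03
    rw [e2, e2']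
    exact le_antisymm (hshare F2 F2' E0 h2S h2 h23 hE0 hE2 hE2')
      (hshare F2' F2 E0 h2S' h2' h23' hE0 hE2' hE2)
  refine ⟨w F0, Gen.of ⟨heq, hle, hodd, (hfun F0 hF0S hF0 hF03).1,
    Signalizer.le_normalizer_of_conj_mem fun s hs x hx => ?_, fun x hxS hx => ?_⟩ he8⟩
  · set Fs := F0.map (MulAut.conj s).toMonoidHom with hFs
    have hFsS : Fs ≤ (S : Subgroup G) := by
      rintro _ ⟨y, hy, rfl⟩
      exact S.mul_mem (S.mul_mem hs (hF0S hy)) (S.inv_mem hs)
    have hFse : Cfsg.IsElementaryAbelian 2 Fs := by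
      refine ⟨⟨⟨?_⟩⟩, ?_⟩
      · rintro ⟨_, a, ha, rfl⟩ ⟨_, b, hb, rfl⟩
        refine Subtype.ext ?_
        show (MulAut.conj s).toMonoidHom a * (MulAut.conj s).toMonoidHom b =
          (MulAut.conj s).toMonoidHom b * (MulAut.conj s).toMonoidHom a
        rw [← map_mul, ← map_mul, Signalizer.commute_of_isMulCommutative hF0.1 ha hb]
      · rintro _ ⟨a, ha, rfl⟩
        rw [← map_pow, hF0.2 a ha, map_one]
    have hFs3 : 2 ^ 3 ≤ Nat.card Fs := by
      rwa [hFs, card_map_of_injective (MulAut.conj s).injective]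
    have hmap : (w F0).map (MulAut.conj s).toMonoidHom ≤ w Fs := by
      show (⨆ a : {a : G // a ∈ F0 ∧ a ≠ 1}, θ a).map (MulAut.conj s).toMonoidHom ≤ w Fs
      rw [Subgroup.map_iSup]
      refine iSup_le fun a => ?_
      rw [← heq]
      exact Signalizer.le_wSub (show s * (a : G) * s⁻¹ ∈ Fs from ⟨a, a.2.1, rfl⟩)
        fun e => a.2.2 (conj_eq_one_iff.1 e)
    exact (hmap.trans (hall Fs hFsS hFse hFs3).le) ⟨x, hx, rfl⟩
  · obtain ⟨F, hFS, hF, hF3, hxF⟩ := he8 x hxS hx
    rw [← hall F hFS hF hF3]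
    exact (hfun F hFS hF hF3).2.1 x hxF fun e => by rw [e, orderOf_one] at hx; omega

end Cfsg.Agent.CoreKilling
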