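import Cfsg.Agent.Lib.Involution.Basic
import Cfsg.Agent.Lib.PGroup.NormalAbelian
import Cfsg.Agent.Lib.PGroup.UniqueOrderP
import Cfsg.Agent.Lib.PGroup.Basic

/-!
# A normal four-group through a central involution

`exists_marked` : in a 2-group of rank at least three, for a central involution `c`, some involution
`b ≠ c` has all conjugates in `{b, b * c}`.
-/

set_option autoImplicit false
set_option linter.unusedSectionVars false
set_option linter.style.haveILetI false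

namespace Cfsg.Agent.CoreKilling

open Subgroup Involution

open scoped commutatorElement

universe u

variable {P : Type u} [Group P] [Finite P]

/-- The case of a cyclic self-centralising normal subgroup. -/
theorem exists_marked_cyclic (hP : IsPGroup 2 P) {c : P} (hc : orderOf c = 2) (hcZ : c ∈ center P)
    {F : Subgroup P} (hFc : ∀ a ∈ F, ∀ b ∈ F, a * b = b * a) (hF2 : ∀ a ∈ F, a * a = 1)
    (hF8 : 8 ≤ Nat.card F) {D : Subgroup P} (hDn : D.Normal) (hCD : centralizer (D : Set P) = D)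
    (hone : ∀ x ∈ D, x * x = 1 → x = 1 ∨ x = c) {δ : P} (hδ : zpowers δ = D) :
    ∃ b : P, orderOf b = 2 ∧ b ≠ c ∧ ∀ r : P, r * b * r⁻¹ = b ∨ r * b * r⁻¹ = b * c := by
  classical
  haveI : Fact (Nat.Prime 2) := ⟨Nat.prime_two⟩
  have hδD : δ ∈ D := hδ ▸ mem_zpowers δ
  have hDpow : ∀ d ∈ D, ∃ i : ℕ, δ ^ i = d := fun d hd =>
    (isOfFinOrder_of_finite δ).mem_powers_iff_mem_zpowers.mpr (hδ ▸ hd)
  have hccomm : ∀ y : P, Commute c y := fun y => (mem_center_iff.1 hcZ y).symm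
  have hcc : c * c = 1 := mul_self hc
  have hcD : c ∈ D := hCD ▸ mem_centralizer_iff.mpr fun d _ => mem_center_iff.mp hcZ d
  have hsmall : ∀ x ∈ F, x ∈ D → x = 1 ∨ x = c := fun x hx hxD => hone x hxD (hF2 x hx)
  have hcommD : ∀ x : P, Commute x δ → x ∈ D := fun x hx => hCD ▸ mem_centralizer_iff.mpr fun d hd => by
    obtain ⟨i, rfl⟩ := hDpow d hd
    exact ((hx.pow_right i).symm).eq
  have hpick : ∀ A : Finset P, A.card < 8 → ∃ x ∈ F, x ∉ A := by
    intro A hA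
    by_contra hcon
    push Not at hcon
    have hle : Nat.card F ≤ A.card := by
      rw [← Nat.card_eq_finsetCard A]
      exact Nat.card_le_card_of_injective (fun y : F => (⟨y, hcon y y.2⟩ : A))
        fun y y' e => Subtype.ext (congrArg (fun t : A => (t : P)) e)
    omega
  obtain ⟨n, hn⟩ := IsPGroup.iff_orderOf.1 hP δ
  obtain ⟨a, rfl⟩ : ∃ a, n = a + 2 := by
    rcases n with _ | _ | n
    · exfalso
      rw [pow_zero, orderOf_eq_one_iff] at hn
      obtain ⟨i, hi⟩ := hDpow c hcD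
      rw [hn, one_pow] at hi
      exact ne_one hc hi.symm
    · exfalso
      have hδZ : δ ∈ center P := by
        rcases hone δ hδD (mul_self (by simpa using hn)) with e | e <;> rw [e]
        exacts [one_mem _, hcZ]
      obtain ⟨x, hxF, hxA⟩ := hpick {1, c} ((Finset.card_le_two).trans_lt (by norm_num))
      rcases hsmall x hxF (hcommD x (mem_center_iff.1 hδZ x)) with e | e <;> simp [e] at hxA
    · exact ⟨n, rfl⟩
  have hconjpow : ∀ r : P, ∃ j : ℕ, r * δ * r⁻¹ = δ ^ j ∧ Odd j := by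
    intro r
    obtain ⟨j, hj⟩ := hDpow _ (hDn.conj_mem δ hδD r)
    refine ⟨j, hj.symm, ?_⟩
    by_contra hcon
    obtain ⟨k, rfl⟩ := Nat.not_odd_iff_even.1 hcon
    have h1 : (r * δ * r⁻¹) ^ 2 ^ (a + 1) = 1 := by
      rw [← hj, ← pow_mul, show (k + k) * 2 ^ (a + 1) = 2 ^ (a + 2) * k by ring, ← hn, pow_mul,
        pow_orderOf_eq_one, one_pow]
    rw [conj_pow, conj_eq_one_iff] at h1
    have h2 := Nat.le_of_dvd (pow_pos two_pos _) (hn ▸ orderOf_dvd_of_pow_eq_one h1)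
    rw [pow_succ] at h2
    have : 0 < 2 ^ (a + 1) := pow_pos two_pos _
    omega
  set δ₄ := δ ^ 2 ^ a with hδ₄
  have h44 : δ₄ ^ 4 = 1 := by
    rw [hδ₄, ← pow_mul, show 2 ^ a * 4 = 2 ^ (a + 2) by ring, ← hn, pow_orderOf_eq_one]
  have h4d : ∀ k : ℕ, δ₄ ^ k = 1 → 4 ∣ k := by
    intro k hk
    rw [hδ₄, ← pow_mul] at hk
    have h1 := orderOf_dvd_of_pow_eq_one hk
    rw [hn, show 2 ^ (a + 2) = 2 ^ a * 4 by ring] at h1
    exact Nat.dvd_of_mul_dvd_mul_left (pow_pos two_pos a) h1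
  have hact : ∀ r : P, r * δ₄ * r⁻¹ = δ₄ ∨ r * δ₄ * r⁻¹ = δ₄ ^ 3 := by
    intro r
    obtain ⟨j, hj, hjodd⟩ := hconjpow r
    have h1 : r * δ₄ * r⁻¹ = δ₄ ^ j := by
      rw [hδ₄, ← conj_pow, hj, ← pow_mul, ← pow_mul, mul_comm]
    obtain ⟨k, rfl⟩ := hjodd
    rw [h1]
    rcases Nat.even_or_odd k with ⟨l, rfl⟩ | ⟨l, rfl⟩
    · left
      rw [show 2 * (l + l) + 1 = 4 * l + 1 by ring, pow_succ, pow_mul, h44, one_pow, one_mul]
    · right
      rw [show 2 * (2 * l + 1) + 1 = 4 * l + 3 by ring, pow_add, pow_mul, h44, one_pow, one_mul]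
  obtain ⟨x, hxF, hx1, hxc, hx4⟩ : ∃ x ∈ F, x ≠ 1 ∧ x ≠ c ∧ x * δ₄ * x⁻¹ = δ₄ := by
    obtain ⟨f₁, hf₁, hf₁A⟩ := hpick {1, c} ((Finset.card_le_two).trans_lt (by norm_num))
    simp only [Finset.mem_insert, Finset.mem_singleton, not_or] at hf₁A
    rcases hact f₁ with h1 | h1
    · exact ⟨f₁, hf₁, hf₁A.1, hf₁A.2, h1⟩
    obtain ⟨f₂, hf₂, hf₂A⟩ := hpick {1, c, f₁, f₁ * c} ((Finset.card_le_four).trans_lt (by norm_num))
    simp only [Finset.mem_insert, Finset.mem_singleton, not_or] at hf₂A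
    obtain ⟨g1, g2, g3, g4⟩ := hf₂A
    rcases hact f₂ with h2 | h2
    · exact ⟨f₂, hf₂, g1, g2, h2⟩
    refine ⟨f₁ * f₂, F.mul_mem hf₁ hf₂, fun e => g3 ?_, fun e => g4 ?_, ?_⟩
    · calc f₂ = f₁ * (f₁ * f₂) := by rw [← mul_assoc, hF2 f₁ hf₁, one_mul]
        _ = f₁ := by rw [e, mul_one]
    · calc f₂ = f₁ * (f₁ * f₂) := by rw [← mul_assoc, hF2 f₁ hf₁, one_mul]
        _ = f₁ * c := by rw [e]
    · calc f₁ * f₂ * δ₄ * (f₁ * f₂)⁻¹ = f₁ * (f₂ * δ₄ * f₂⁻¹) * f₁⁻¹ := by group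
        _ = (f₁ * δ₄ * f₁⁻¹) ^ 3 := by rw [h2, conj_pow]
        _ = δ₄ := by
            rw [h1, ← pow_mul, show 3 * 3 = 4 * 2 + 1 by norm_num, pow_succ, pow_mul, h44, one_pow,
              one_mul]
  have hxx : x * x = 1 := hF2 x hxF
  have hxi : x⁻¹ = x := inv_eq_of_mul_eq_one_right hxx
  -- `x` acts as `δ ↦ δ * c`
  have hxδ : x * δ * x⁻¹ = δ * c := by
    obtain ⟨j, hj, hjodd⟩ := hconjpow x
    have h1 : δ₄ ^ j = δ₄ := by
      calc δ₄ ^ j = x * δ₄ * x⁻¹ := by rw [hδ₄, ← conj_pow, hj, ← pow_mul, ← pow_mul, mul_comm]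
        _ = δ₄ := hx4
    obtain ⟨l, rfl⟩ : ∃ l, j = 4 * l + 1 := by
      obtain ⟨k, rfl⟩ := hjodd
      rw [pow_succ, mul_eq_right] at h1
      obtain ⟨q, hq⟩ := h4d _ h1
      exact ⟨q, by omega⟩
    have h2 : δ ^ ((4 * l + 1) * (4 * l + 1)) = δ := by
      calc δ ^ ((4 * l + 1) * (4 * l + 1)) = (x * δ * x⁻¹) ^ (4 * l + 1) := by rw [hj, ← pow_mul]
        _ = x * δ ^ (4 * l + 1) * x⁻¹ := conj_pow
        _ = (x * x) * δ * (x * x)⁻¹ := by rw [← hj]; group
        _ = δ := by rw [hxx, one_mul, inv_one, mul_one]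
    have h3 : δ ^ (4 * l * 2 * (2 * l + 1)) = 1 := by
      have e : (4 * l + 1) * (4 * l + 1) = 4 * l * 2 * (2 * l + 1) + 1 := by ring
      rw [e, pow_succ, mul_eq_right] at h2
      exact h2
    have h4 : δ ^ (4 * l) * δ ^ (4 * l) = 1 := by
      rw [← pow_add, show 4 * l + 4 * l = 4 * l * 2 by ring]
      refine orderOf_dvd_iff_pow_eq_one.1 ?_
      have hcop : Nat.Coprime (orderOf δ) (2 * l + 1) := by
        rw [hn]
        exact (Nat.coprime_two_left.mpr ⟨l, by ring⟩).pow_left _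
      exact hcop.dvd_of_dvd_mul_right (orderOf_dvd_of_pow_eq_one h3)
    rcases hone _ (pow_mem hδD _) h4 with e | e
    · exfalso
      rw [pow_succ, e, one_mul, mul_inv_eq_iff_eq_mul] at hj
      rcases hsmall x hxF (hcommD x hj) with h' | h'
      · exact hx1 h'
      · exact hxc h'
    · rw [hj, pow_succ, e, (hccomm δ).eq]
  have hxpow : ∀ i : ℕ, x * δ ^ i * x⁻¹ = δ ^ i * c ^ i := fun i => by
    rw [← conj_pow, hxδ, (hccomm δ).symm.mul_pow]
  have ha : a ≠ 0 := by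
    rintro rfl
    rw [pow_zero, pow_one] at hδ₄
    rw [hδ₄, hxδ, mul_eq_left] at hx4
    exact ne_one hc hx4
  have hx2 : orderOf x = 2 := orderOf_of_sq hxx hx1
  refine ⟨x, hx2, hxc, fun r => ?_⟩
  obtain ⟨k, hk, hkodd⟩ := hconjpow r
  have hck : c ^ k = c := by
    obtain ⟨m, rfl⟩ := hkodd
    rw [pow_succ, pow_mul, sq, hcc, one_pow, one_mul]
  set y := r * x * r⁻¹ with hy
  have hyk : y * δ ^ k * y⁻¹ = δ ^ k * c := by
    calc y * δ ^ k * y⁻¹ = r * (x * δ * x⁻¹) * r⁻¹ := by rw [← hk, hy]; group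
      _ = r * δ * r⁻¹ * (r * c * r⁻¹) := by rw [hxδ]; group
      _ = δ ^ k * c := by rw [hk, ← (hccomm r).eq, mul_inv_cancel_right]
  have hcomm : Commute (x⁻¹ * y) δ := by
    have h1 : Commute (x⁻¹ * y) (δ ^ k) := by
      refine mul_inv_eq_iff_eq_mul.1 ?_
      calc x⁻¹ * y * δ ^ k * (x⁻¹ * y)⁻¹ = x⁻¹ * (y * δ ^ k * y⁻¹) * x := by group
        _ = x⁻¹ * (x * δ ^ k * x⁻¹) * x := by rw [hyk, hxpow, hck]
        _ = δ ^ k := by group
    obtain ⟨m, hm⟩ := exists_pow_eq_self_of_coprime (x := δ) (n := k)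
      (by rw [hn]; exact (Nat.coprime_two_right.mpr hkodd).pow_right _)
    have h2 := h1.pow_right m
    rwa [hm] at h2
  obtain ⟨i, hi⟩ := hDpow _ (hcommD _ hcomm)
  have hyx : y = x * δ ^ i := by rw [hi, mul_inv_cancel_left]
  have hyy : y * y = 1 := mul_self (by rw [hy, orderOf_conj]; exact hx2)
  have h5 : δ ^ i * c ^ i * δ ^ i = 1 := by
    rw [hyx] at hyy
    calc δ ^ i * c ^ i * δ ^ i = (x * δ ^ i * x⁻¹) * δ ^ i := by rw [hxpow]
      _ = x * δ ^ i * (x * δ ^ i) := by rw [hxi]; group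
      _ = 1 := hyy
  rcases Nat.even_or_odd i with ⟨m, rfl⟩ | ⟨m, rfl⟩
  · rw [pow_add c, ← (show Commute c c from Commute.refl c).mul_pow, hcc, one_pow, mul_one] at h5
    rcases hone _ (pow_mem hδD _) h5 with e | e
    · exact Or.inl (by rw [hyx, e, mul_one])
    · exact Or.inr (by rw [hyx, e])
  · exfalso
    rw [pow_succ c, pow_mul, sq, hcc, one_pow, one_mul, mul_assoc, (hccomm _).eq, ← mul_assoc,
      ← pow_add] at h5
    have h6 : δ ^ ((2 * m + 1 + (2 * m + 1)) * 2) = 1 := by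
      rw [pow_mul, sq]
      have e : δ ^ (2 * m + 1 + (2 * m + 1)) = c := by
        rw [mul_eq_one_iff_eq_inv, inv_eq hc] at h5
        exact h5
      rw [e, hcc]
    have h7 := orderOf_dvd_of_pow_eq_one h6
    rw [hn, show (2 * m + 1 + (2 * m + 1)) * 2 = 4 * (2 * m + 1) by ring,
      show 2 ^ (a + 2) = 4 * 2 ^ a by ring] at h7
    have h8 : 2 ∣ 2 * m + 1 :=
      (dvd_pow_self 2 ha).trans (Nat.dvd_of_mul_dvd_mul_left (by norm_num) h7)
    omega

/-- **A normal four-group** through a central involution of a 2-group of rank three. -/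
theorem exists_marked (hP : IsPGroup 2 P) {c : P} (hc : orderOf c = 2) (hcZ : c ∈ center P)
    {F : Subgroup P} (hFc : ∀ a ∈ F, ∀ b ∈ F, a * b = b * a) (hF2 : ∀ a ∈ F, a * a = 1)
    (hF8 : 8 ≤ Nat.card F) :
    ∃ b : P, orderOf b = 2 ∧ b ≠ c ∧ ∀ r : P, r * b * r⁻¹ = b ∨ r * b * r⁻¹ = b * c := by
  classical
  haveI : Fact (Nat.Prime 2) := ⟨Nat.prime_two⟩
  by_cases huniq : ∃ b ∈ center P, orderOf b = 2 ∧ b ≠ c
  · obtain ⟨b, hb, hb2, hbc⟩ := huniq
    exact ⟨b, hb2, hbc, fun r => Or.inl (by rw [mem_center_iff.1 hb r, mul_inv_cancel_right])⟩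
  push Not at huniq
  obtain ⟨D, -, hmax⟩ := Finite.exists_le_maximal (α := Subgroup P)
    (p := fun D => D.Normal ∧ ∀ x ∈ D, ∀ y ∈ D, x * y = y * x) (a := ⊥)
    ⟨inferInstance, fun x hx y hy => by rw [mem_bot.mp hx, mem_bot.mp hy]⟩
  have hDn := hmax.prop.1
  have hDab := hmax.prop.2
  have hCD : centralizer (D : Set P) = D :=
    PGroup.centralizer_eq_of_maximal_normal_abelian hP hDab
      fun B hB hBab hle => le_antisymm (hmax.le_of_ge ⟨hB, hBab⟩ hle) hle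
  have hcD : c ∈ D := hCD ▸ mem_centralizer_iff.mpr fun d _ => mem_center_iff.mp hcZ d
  have hcc : c * c = 1 := mul_self hc
  by_cases hex : ∃ w ∈ D, w * w = 1 ∧ w ≠ 1 ∧ w ≠ c
  · obtain ⟨w, hwD, hw2, hw1, hwc⟩ := hex
    let N : Subgroup P :=
      { carrier := {d | d ∈ D ∧ d * d = 1}
        one_mem' := ⟨one_mem _, one_mul _⟩
        mul_mem' := fun {a b} ha hb => ⟨mul_mem ha.1 hb.1, by
          rw [mul_assoc, ← mul_assoc b, ← hDab a ha.1 b hb.1, mul_assoc a b b, hb.2, mul_one, ha.2]⟩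
        inv_mem' := fun {a} ha => ⟨inv_mem ha.1, by rw [← mul_inv_rev, ha.2, inv_one]⟩ }
    haveI : N.Normal := ⟨fun d hd r => ⟨hDn.conj_mem d hd.1 r, by
      rw [show r * d * r⁻¹ * (r * d * r⁻¹) = r * (d * d) * r⁻¹ by group, hd.2]; group⟩⟩
    haveI : (zpowers c).Normal := PGroup.zpowers_normal_of_mem_center hcZ
    have hz : ∀ y ∈ zpowers c, y = 1 ∨ y = c := fun y hy => by
      obtain ⟨i, rfl⟩ := mem_zpowers_iff.mp hy
      rcases Int.emod_two_eq_zero_or_one i with e | e <;>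
        rw [← zpow_mod_orderOf, hc, Nat.cast_ofNat, e]
      · exact Or.inl (zpow_zero c)
      · exact Or.inr (zpow_one c)
    have hlt : zpowers c < N := by
      refine lt_of_le_of_ne (zpowers_le.mpr ⟨hcD, hcc⟩) fun h => ?_
      rcases hz w (h ▸ (show w ∈ N from ⟨hwD, hw2⟩)) with e | e
      · exact hw1 e
      · exact hwc e
    obtain ⟨K, -, hZK, hKN, hK, hKc⟩ := PGroup.exists_normal_between hP hlt
    have hlt' : zpowers c < K := lt_of_le_of_ne hZK fun h => by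
      rw [← h] at hK
      have : 0 < Nat.card (zpowers c) := Nat.card_pos
      omega
    obtain ⟨b, hbK, hbc⟩ := SetLike.exists_of_lt hlt'
    have hb1 : b ≠ 1 := fun e => hbc (e ▸ one_mem _)
    refine ⟨b, orderOf_of_sq (hKN hbK).2 hb1, fun e => hbc (e ▸ mem_zpowers c), fun r => ?_⟩
    rcases hz _ (hKc (commutator_mem_commutator hbK (mem_top r))) with h | h
    · exact Or.inl (by rw [(commutatorElement_eq_one_iff_commute.mp h).symm.eq, mul_inv_cancel_right])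
    · refine Or.inr ?_
      have h1 : r * b * r⁻¹ = ⁅b, r⁆⁻¹ * b := by rw [commutatorElement_def]; group
      rw [h1, h, inv_eq hc, mem_center_iff.mp hcZ b]
  push Not at hex
  have hone : ∀ x ∈ D, x * x = 1 → x = 1 ∨ x = c := fun x hx hx2 => by
    by_cases h1 : x = 1
    · exact Or.inl h1
    · exact Or.inr (hex x hx hx2 h1)
  obtain ⟨δ, -, hδ⟩ := PGroup.isCyclic_of_abelian_unique hP hDab fun x hx y hy hxo hy2' => by
    have hxc : x = c := hex x hx (mul_self hxo) (ne_one hxo)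
    rcases hone y hy (by rw [← sq]; exact hy2') with h | h <;> rw [h]
    exacts [one_mem _, hxc ▸ mem_zpowers x]
  exact exists_marked_cyclic hP hc hcZ hFc hF2 hF8 hDn hCD hone hδ

end Cfsg.Agent.CoreKilling
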