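import Cfsg.Agent.Lib.CoreKilling.GenFinal
import Cfsg.Agent.Lib.CoreKilling.GenComplete
import Cfsg.Agent.Lib.CoreKilling.FromNormalRankThree
import Cfsg.Agent.Lib.CoreKilling.NormalFour
import Cfsg.Agent.Lib.OddOrderTheorem.Basic

/-!
# Core killing for an equivariant functor, normal rank at least three (owner: helper82)
-/

set_option autoImplicit false
set_option linter.style.haveILetI false

namespace Cfsg.Agent.CoreKilling

open Subgroup
open scoped Pointwise

universe u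

variable {G : Type u} [Group G] [Finite G]

theorem theta_bot_of_normal_rank_three {θ : G → Subgroup G} {S : Sylow 2 G}
    (heq : ∀ g a : G, θ (g * a * g⁻¹) = (θ a).map (MulAut.conj g).toMonoidHom)
    (hθ : ∀ F : Subgroup G, Cfsg.IsElementaryAbelian 2 F → 2 ^ 3 ≤ Nat.card F →
      Cfsg.IsSignalizerFunctor 2 F θ)
    {B : Subgroup G} (hB : Cfsg.IsElementaryAbelian 2 B) (hB3 : 2 ^ 3 ≤ Nat.card B)
    (hBS : B ≤ (S : Subgroup G)) (hBn : ∀ s ∈ S, ∀ b ∈ B, s * b * s⁻¹ ∈ B)
    (hO : Cfsg.oddCore G = ⊥) {t : G} (ht : orderOf t = 2) : θ t = ⊥ := by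
  haveI : Fact (Nat.Prime 2) := ⟨Nat.prime_two⟩
  have he8 : ∀ x ∈ S, orderOf x = 2 → ∃ F : Subgroup G, F ≤ (S : Subgroup G) ∧
      Cfsg.IsElementaryAbelian 2 F ∧ 2 ^ 3 ≤ Nat.card F ∧ x ∈ F := fun x hxS hx => by
    obtain ⟨F, hF, hF3, hxF, hFB, -⟩ := exists_rank_three hB hB3 hx (hBn x hxS)
    exact ⟨F, hFB.trans (sup_le hBS (zpowers_le.2 hxS)), hF, hF3, hxF⟩
  have hall : ∀ a : G, orderOf a = 2 → ∃ F : Subgroup G,
      Cfsg.IsElementaryAbelian 2 F ∧ 2 ^ 3 ≤ Nat.card F ∧ a ∈ F := by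
    intro a ha
    obtain ⟨P, hP⟩ := (IsPGroup.of_card (G := zpowers a) (p := 2) (n := 1)
      (by rw [Nat.card_zpowers, ha, pow_one])).exists_le_sylow
    obtain ⟨g, hg⟩ := MulAction.exists_smul_eq G P S
    obtain ⟨F, -, hF, hF3, haF⟩ := he8 (g * a * g⁻¹) (hg ▸ ⟨a, hP (mem_zpowers a), rfl⟩)
      (by rw [Involution.orderOf_conj, ha])
    refine ⟨MulAut.conj g⁻¹ • F, (IsFour.conj ⟨hF, le_trans (by norm_num) hF3⟩ g⁻¹).1,
      by rwa [Solvable.card_conj], ⟨_, haF, ?_⟩⟩
    show g⁻¹ * (g * a * g⁻¹) * g⁻¹⁻¹ = a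
    group
  have hodd : ∀ a : G, orderOf a = 2 → ¬ 2 ∣ Nat.card (θ a) := fun a ha => by
    obtain ⟨F, hF, hF3, haF⟩ := hall a ha
    exact (hθ F hF hF3).2.1 a haF fun e => by rw [e, orderOf_one] at ha; omega
  have hle : ∀ a : G, orderOf a = 2 → θ a ≤ centralizer ({a} : Set G) := fun a ha => by
    obtain ⟨F, hF, hF3, haF⟩ := hall a ha
    exact (hθ F hF hF3).1 a haF fun e => by rw [e, orderOf_one] at ha; omega
  -- a marked pair
  haveI : Nontrivial (S : Subgroup G) := (Subgroup.nontrivial_iff_ne_bot _).2 fun e => by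
    have := hB3.trans (card_le_of_le hBS)
    rw [e, Subgroup.card_bot] at this; omega
  haveI := S.isPGroup'.center_nontrivial
  obtain ⟨k, hk⟩ := (S.isPGroup'.to_subgroup (center _)).exists_card_eq
  have h2 : 2 ∣ Nat.card (center (S : Subgroup G)) := by
    rcases k with _ | k
    · have := Finite.one_lt_card (α := center (S : Subgroup G))
      rw [hk] at this; simp at this
    · exact ⟨2 ^ k, by rw [hk, pow_succ']⟩
  obtain ⟨⟨z, hzc⟩, hz⟩ := exists_prime_orderOf_dvd_card' 2 h2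
  rw [Subgroup.orderOf_mk] at hz
  obtain ⟨v, hv, hvz, hvm⟩ := exists_marked (P := ↥(S : Subgroup G)) S.isPGroup'
    (c := z) hz hzc (F := B.subgroupOf (S : Subgroup G))
    (fun a ha c hc => Subtype.ext (Signalizer.commute_of_isMulCommutative hB.1
      (mem_subgroupOf.1 ha) (mem_subgroupOf.1 hc)))
    (fun a ha => Subtype.ext (by
      have := hB.2 _ (mem_subgroupOf.1 ha)
      rwa [sq] at this))
    (by rw [Cores.card_subgroupOf hBS]; exact hB3)
  have hzc' : ∀ s ∈ S, Commute s (z : G) := fun s hs =>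
    congrArg Subtype.val (mem_center_iff.1 hzc ⟨s, hs⟩)
  obtain ⟨W, hW⟩ := exists_gen_of_mark heq hle hodd (fun F hFS hF hF3 => ⟨hθ F hF hF3,
      fun a ha ha1 => OddOrderTheorem.solvable
        (Nat.odd_iff.2 (Nat.two_dvd_ne_zero.1 (hodd a (orderOf_of_mem hF ha ha1))))⟩)
    he8 z.2 (by rw [Subgroup.orderOf_coe]; exact hz) hzc' v.2
    (by rw [Subgroup.orderOf_coe]; exact hv) (fun e => hvz (Subtype.ext e)) (fun s hs => by
      rcases hvm ⟨s, hs⟩ with e | e
      · left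
        have := congrArg Subtype.val e
        simp only [Subgroup.coe_mul, Subgroup.coe_inv] at this
        rw [this, mul_inv_cancel]
      · right
        have := congrArg Subtype.val e
        simp only [Subgroup.coe_mul, Subgroup.coe_inv] at this
        rw [this, (hzc' _ v.2).eq, mul_inv_cancel_right])
  exact hW.theta_bot hO ht

end Cfsg.Agent.CoreKilling
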