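import Cfsg.Agent.Lib.Orders5.FpfDihedral
import Cfsg.Agent.Lib.PAutPrime.Basic

/-!
# Fixed-point-free dihedral actions on 2-groups (owner: helper90)

`φ` fixed-point-free of odd order on a 2-group `N`, `ψ` an involution inverting it
(`Orders5.FpfDihedral.Act`).

* `card_eq_sq`, `exists_decomp` : `|N| = |C(ψ)|²`, `N = C(ψ) φ(C(ψ))`
* `cube` : `φ³ = 1` when `φ⁵ ≠ 1` and `C(ψ)` is generated by two elements
* `commutator_mem_center` : class two when `φ³ = 1`
-/

set_option autoImplicit false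
set_option linter.style.haveILetI false

open Subgroup
open scoped commutatorElement
open Cfsg.Agent.Orders5 (FpfDihedral.Act)

namespace Cfsg.Agent.CoreKilling.FpfThree

open Orders5.FpfDihedral

universe u

variable {N : Type u} [Group N]

/-- The fixed points of an automorphism. -/
def fixed (ψ : N ≃* N) : Subgroup N :=
  MonoidHom.eqLocus ψ.toMonoidHom (MonoidHom.id N)

theorem mem_fixed {ψ : N ≃* N} {x : N} : x ∈ fixed ψ ↔ ψ x = x := Iff.rfl

variable {φ ψ : N ≃* N}

/-- The action on an invariant subgroup. -/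
def restrictEquiv (φ : N ≃* N) {K : Subgroup N} (hK : K.map φ.toMonoidHom = K) : K ≃* K :=
  (φ.subgroupMap K).trans (MulEquiv.subgroupCongr hK)

theorem restrictEquiv_apply (φ : N ≃* N) {K : Subgroup N} (hK : K.map φ.toMonoidHom = K) (x : K) :
    (restrictEquiv φ hK x : N) = φ x := rfl

theorem restrict (h : Act φ ψ) {K : Subgroup N} (hφ : K.map φ.toMonoidHom = K)
    (hψ : K.map ψ.toMonoidHom = K) : Act (restrictEquiv φ hφ) (restrictEquiv ψ hψ) where
  fpf x hx := Subtype.ext (h.fpf _ (congrArg Subtype.val hx))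
  odd := by
    obtain ⟨m, hm⟩ := h.odd
    refine ⟨m, fun x => Subtype.ext ?_⟩
    have : ∀ (k : ℕ) (x : K), (((restrictEquiv φ hφ)^[k] x : K) : N) = φ^[k] x := by
      intro k
      induction k with
      | zero => exact fun x => rfl
      | succ k ih => intro x; rw [Function.iterate_succ_apply, ih, Function.iterate_succ_apply]; rfl
    rw [this, hm]
  invol x := Subtype.ext (h.invol x)
  rel x := Subtype.ext (h.rel x)

theorem fixed_pair_injective (h : Act φ ψ) :
    Function.Injective (fun c : fixed ψ × fixed ψ => (c.1 : N) * φ c.2) := by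
  rintro ⟨⟨a, ha⟩, ⟨b, hb⟩⟩ ⟨⟨a', ha'⟩, ⟨b', hb'⟩⟩ e
  simp only at e
  have e1 : a'⁻¹ * a = φ (b' * b⁻¹) := by
    rw [map_mul, map_inv, eq_mul_inv_iff_mul_eq, mul_assoc, e, inv_mul_cancel_left]
  have h1 : b' * b⁻¹ = 1 := by
    refine h.eq_one_of_fixed ?_ ?_
    · exact (fixed ψ).mul_mem hb' ((fixed ψ).inv_mem hb)
    · rw [← e1]; exact (fixed ψ).mul_mem ((fixed ψ).inv_mem ha') ha
  obtain rfl : b' = b := mul_inv_eq_one.1 h1
  obtain rfl : a = a' := mul_right_cancel e
  rfl

theorem card_le_sq : ∀ (n : ℕ) (N : Type u) [Group N] [Finite N] (φ ψ : N ≃* N), Nat.card N = n →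
    IsPGroup 2 N → Act φ ψ → Nat.card N ≤ Nat.card (fixed ψ) ^ 2 := by
  intro n
  induction n using Nat.strong_induction_on with
  | _ n ih =>
  intro N _ _ φ ψ hn hp h
  rcases subsingleton_or_nontrivial N with hs | hs
  · rw [Nat.card_unique]
    exact Nat.one_le_pow _ _ Nat.card_pos
  haveI : Fact (Nat.Prime 2) := ⟨Nat.prime_two⟩
  -- the involutions of the centre
  let Z : Subgroup N :=
    { carrier := {x | x ∈ center N ∧ x * x = 1}
      one_mem' := ⟨one_mem _, one_mul 1⟩
      mul_mem' := fun {a b} ha hb => ⟨mul_mem ha.1 hb.1, by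
        rw [mul_assoc, ← mul_assoc b a b, mem_center_iff.1 ha.1 b, mul_assoc a b b, hb.2, mul_one,
          ha.2]⟩
      inv_mem' := fun {a} ha => ⟨inv_mem ha.1, by rw [← mul_inv_rev, ha.2, inv_one]⟩ }
  haveI : Z.Normal := ⟨fun x hx g => by rwa [mem_center_iff.1 hx.1 g, mul_inv_cancel_right]⟩
  have hmap : ∀ χ : N ≃* N, Z.map χ.toMonoidHom = Z := fun χ => by
    have hle : ∀ χ : N ≃* N, Z.map χ.toMonoidHom ≤ Z := by
      rintro χ _ ⟨x, hx, rfl⟩
      refine ⟨mem_center_iff.2 fun g => ?_, ?_⟩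
      · obtain ⟨g, rfl⟩ := χ.surjective g
        show χ g * χ x = χ x * χ g
        rw [← map_mul, ← map_mul, mem_center_iff.1 hx.1 g]
      · show χ x * χ x = 1
        rw [← map_mul, hx.2, map_one]
    refine le_antisymm (hle χ) fun x hx => ⟨χ.symm x, hle χ.symm ⟨x, hx, rfl⟩, by simp⟩
  have hφ := hmap φ
  have hψ := hmap ψ
  have hlt : Nat.card (N ⧸ Z) < n := by
    haveI := hp.center_nontrivial
    obtain ⟨k, hk⟩ := (hp.to_subgroup (center N)).exists_card_eq
    obtain ⟨c, hc⟩ := exists_prime_orderOf_dvd_card' (G := center N) 2 (by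
      rcases k with _ | k
      · have := Finite.one_lt_card (α := center N)
        rw [hk] at this; simp at this
      · exact ⟨2 ^ k, by rw [hk, pow_succ']⟩)
    haveI : Nontrivial Z := ⟨⟨⟨(c : N), c.2, by
      have := congrArg Subtype.val (pow_orderOf_eq_one c)
      rwa [hc, SubmonoidClass.coe_pow, pow_two] at this⟩, 1, fun e => by
        have h1 : (c : N) = 1 := congrArg Subtype.val e
        rw [show c = 1 from Subtype.ext h1, orderOf_one] at hc; omega⟩⟩
    rw [← hn, ← Subgroup.card_mul_index Z, ← Subgroup.index_eq_card]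
    exact lt_mul_of_one_lt_left (Nat.pos_of_ne_zero Subgroup.index_ne_zero_of_finite)
      Finite.one_lt_card
  have hZact := restrict h hφ hψ
  have hZsq : ∀ x : Z, x * x = 1 := fun x => Subtype.ext x.2.2
  have hQ := h.quotient hφ hψ
  have hIH := ih _ hlt (N ⧸ Z) _ _ rfl (hp.to_quotient Z) hQ
  -- fixed points lift
  set f := (QuotientGroup.mk' Z).comp (fixed ψ).subtype with hf
  have hsurj : fixed (QuotientGroup.congr Z Z ψ hψ) ≤ f.range := by
    intro q hq
    obtain ⟨a, rfl⟩ := QuotientGroup.mk_surjective q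
    have hz : a⁻¹ * ψ a ∈ Z := QuotientGroup.eq.1 (Eq.symm hq)
    set z := a⁻¹ * ψ a with hzdef
    have hψa : ψ a = a * z := by rw [hzdef, mul_inv_cancel_left]
    have hzfix : ψ z = z := by
      have e : ψ z * z = 1 := by
        have e1 : a = a * z * ψ z := by
          conv_lhs => rw [← h.invol a, hψa, map_mul, hψa]
        rw [mem_center_iff.1 hz.1 (ψ z)]
        exact mul_left_cancel (a := a) (by rw [← mul_assoc, ← e1, mul_one])
      rw [eq_inv_of_mul_eq_one_left e, inv_eq_of_mul_eq_one_right hz.2]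
    obtain ⟨e, he⟩ := exists_eq_mul_apply hZact hZsq (a := ⟨z, hz⟩) (Subtype.ext hzfix)
    have he' : z = (e : N) * ψ e := congrArg Subtype.val he
    refine ⟨⟨a * e, ?_⟩, ?_⟩
    · show ψ (a * e) = a * e
      rw [map_mul, hψa, he', mul_assoc a, mul_assoc (e : N),
        show ψ (e : N) * ψ e = 1 by rw [← map_mul, e.2.2, map_one], mul_one]
    · show ((a * e : N) : N ⧸ Z) = (a : N ⧸ Z)
      rw [QuotientGroup.mk_mul, (QuotientGroup.eq_one_iff (e : N)).2 e.2, mul_one]
  have h1 : Nat.card f.ker ≤ Nat.card (fixed ψ) := Nat.card_le_card_of_injective _ Subtype.val_injective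
  have hker : Nat.card (fixed (restrictEquiv ψ hψ)) ≤ Nat.card f.ker := by
    refine Nat.card_le_card_of_injective
      (fun x => ⟨⟨((x : Z) : N), congrArg Subtype.val x.2⟩, (QuotientGroup.eq_one_iff _).2 (x : Z).2⟩) ?_
    intro x y hxy
    exact Subtype.ext (Subtype.ext (congrArg (fun w : f.ker => ((w : fixed ψ) : N)) hxy))
  have hZ2 : Nat.card Z = Nat.card (fixed (restrictEquiv ψ hψ)) ^ 2 :=
    (Orders5.FpfDihedral.card_eq_sq hZact hZsq).trans rfl
  calc Nat.card N = Nat.card (N ⧸ Z) * Nat.card Z := card_eq_card_quotient_mul_card_subgroup Z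
    _ ≤ Nat.card f.range ^ 2 * Nat.card f.ker ^ 2 := by
        rw [hZ2]
        exact Nat.mul_le_mul (hIH.trans (Nat.pow_le_pow_left (card_le_of_le hsurj) 2))
          (Nat.pow_le_pow_left hker 2)
    _ = (Nat.card f.ker * f.ker.index) ^ 2 := by rw [index_ker, mul_pow, mul_comm]
    _ = Nat.card (fixed ψ) ^ 2 := by rw [Subgroup.card_mul_index]

variable [Finite N]

theorem card_eq_sq (h : Act φ ψ) (hp : IsPGroup 2 N) : Nat.card N = Nat.card (fixed ψ) ^ 2 := by
  refine le_antisymm (card_le_sq _ N φ ψ rfl hp h) ?_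
  rw [pow_two, ← Nat.card_prod]
  exact Nat.card_le_card_of_injective _ (fixed_pair_injective h)

theorem exists_decomp (h : Act φ ψ) (hp : IsPGroup 2 N) (x : N) :
    ∃ a b : N, ψ a = a ∧ ψ b = b ∧ x = a * φ b := by
  obtain ⟨⟨⟨a, ha⟩, ⟨b, hb⟩⟩, e⟩ :=
    ((Nat.bijective_iff_injective_and_card _).2 ⟨fixed_pair_injective h,
      by rw [Nat.card_prod, ← pow_two, card_eq_sq h hp]⟩).2 x
  exact ⟨a, b, ha, hb, e.symm⟩

/-- The fixed points of a quotient are the images of fixed points. -/
theorem exists_fixed_lift (h : Act φ ψ) (hp : IsPGroup 2 N) {Z : Subgroup N} [Z.Normal]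
    (hφ : Z.map φ.toMonoidHom = Z) (hψ : Z.map ψ.toMonoidHom = Z) {q : N ⧸ Z}
    (hq : QuotientGroup.congr Z Z ψ hψ q = q) : ∃ a : N, ψ a = a ∧ (a : N ⧸ Z) = q := by
  obtain ⟨x, rfl⟩ := QuotientGroup.mk_surjective q
  obtain ⟨a, b, ha, hb, rfl⟩ := exists_decomp h hp x
  have hQ := h.quotient hφ hψ
  have hψb : QuotientGroup.congr Z Z ψ hψ (b : N ⧸ Z) = (b : N ⧸ Z) :=
    congrArg QuotientGroup.mk hb
  have hψa : QuotientGroup.congr Z Z ψ hψ (a : N ⧸ Z) = (a : N ⧸ Z) :=
    congrArg QuotientGroup.mk ha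
  rw [QuotientGroup.mk_mul, map_mul, hψa, mul_right_inj] at hq
  have h1 : (b : N ⧸ Z) = 1 := hQ.eq_one_of_fixed hψb hq
  refine ⟨a, ha, ?_⟩
  have h2 : φ b ∈ Z := hφ.le ⟨b, (QuotientGroup.eq_one_iff b).1 h1, rfl⟩
  rw [QuotientGroup.mk_mul, (QuotientGroup.eq_one_iff (φ b)).2 h2, mul_one]

/-- An automorphism of odd order trivial on the Frattini quotient is trivial. -/
theorem eq_one_of_frattini_odd (hp : IsPGroup 2 N) (σ : MulAut N) {n : ℕ} (hn : Odd n)
    (hσ : σ ^ n = 1) (htriv : ∀ x : N, x⁻¹ * σ x ∈ frattini N) : σ = 1 := by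
  haveI : Fact (Nat.Prime 2) := ⟨Nat.prime_two⟩
  by_contra hne
  have hodd : Odd (orderOf σ) := hn.of_dvd_nat (orderOf_dvd_of_pow_eq_one hσ)
  have h1 : orderOf σ ≠ 1 := fun e => hne (orderOf_eq_one_iff.1 e)
  have hq := Nat.minFac_prime h1
  set q := (orderOf σ).minFac
  haveI : Fact q.Prime := ⟨hq⟩
  have hq2 : q ≠ 2 := fun e => by
    have := Nat.minFac_dvd (orderOf σ)
    rw [show (orderOf σ).minFac = 2 from e] at this
    exact Nat.not_even_iff_odd.2 hodd (even_iff_two_dvd.2 this)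
  obtain ⟨m, hm⟩ := Nat.minFac_dvd (orderOf σ)
  have hpow : ∀ (k : ℕ) (x : N), x⁻¹ * (σ ^ k) x ∈ frattini N := by
    intro k
    induction k with
    | zero => intro x; simp
    | succ k ih =>
      intro x
      rw [pow_succ, MulAut.mul_apply]
      have := (frattini N).mul_mem (htriv x) (ih (σ x))
      rwa [mul_assoc, mul_inv_cancel_left] at this
  have h2 : σ ^ m = 1 := PAutPrime.eq_one_of_frattini hq2 hp (σ ^ m)
    (by rw [← pow_mul, mul_comm, ← hm, pow_orderOf_eq_one]) (hpow m)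
  have hmpos : 0 < m := by
    rcases Nat.eq_zero_or_pos m with rfl | hpos
    · rw [mul_zero] at hm; exact absurd hm (orderOf_pos σ).ne'
    · exact hpos
  have h3 := Nat.le_of_dvd hmpos (orderOf_dvd_of_pow_eq_one h2)
  rw [hm] at h3
  have := hq.two_le
  nlinarith

/-- `φ³ = 1`. -/
theorem cube (h : Act φ ψ) (hp : IsPGroup 2 N) (hgen : ∃ g g' : N, fixed ψ ≤ closure {g, g'})
    (h5 : ∃ x : N, φ (φ (φ (φ (φ x)))) ≠ x) (x : N) : φ (φ (φ x)) = x := by
  classical
  haveI : Fact (Nat.Prime 2) := ⟨Nat.prime_two⟩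
  set F := frattini N with hF
  have hφ : F.map φ.toMonoidHom = F := characteristic_iff_map_eq.1 inferInstance φ
  have hψ : F.map ψ.toMonoidHom = F := characteristic_iff_map_eq.1 inferInstance ψ
  have hQ := h.quotient hφ hψ
  set φQ := QuotientGroup.congr F F φ hφ with hφQ
  set ψQ := QuotientGroup.congr F F ψ hψ with hψQ
  have hsq : ∀ v : N ⧸ F, v * v = 1 := fun v => by
    obtain ⟨a, rfl⟩ := QuotientGroup.mk_surjective v
    rw [← QuotientGroup.mk_mul, QuotientGroup.eq_one_iff, ← pow_two]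
    exact PGroup.pow_mem_frattini hp a
  have hinv : ∀ v : N ⧸ F, v⁻¹ = v := fun v => inv_eq_of_mul_eq_one_right (hsq v)
  have hcomm : ∀ v w : N ⧸ F, v * w = w * v := fun v w => by
    calc v * w = (v * w)⁻¹ := (hinv _).symm
      _ = w * v := by rw [mul_inv_rev, hinv, hinv]
  -- the fixed points have order at most four
  have h4 : Nat.card (fixed ψQ) ≤ 4 := by
    obtain ⟨g, g', hg⟩ := hgen
    refine le_trans (card_le_of_le (K := closure
      ((({(g : N ⧸ F), (g' : N ⧸ F)} : Finset (N ⧸ F))) : Set (N ⧸ F))) ?_) ?_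
    · intro q hq
      obtain ⟨a, ha, rfl⟩ := exists_fixed_lift h hp hφ hψ hq
      have h1 : (QuotientGroup.mk' F) a ∈ (closure {g, g'}).map (QuotientGroup.mk' F) :=
        mem_map_of_mem _ (hg ha)
      rw [MonoidHom.map_closure, Set.image_pair] at h1
      simpa using h1
    · refine (PAutPrime.card_closure_le_pow two_pos hcomm (fun a => by rw [pow_two, hsq]) _).trans ?_
      exact (Nat.pow_le_pow_right two_pos (Finset.card_le_two)).trans (by norm_num)
  -- fixed points spread
  have hall : ∀ k : ℕ, (∀ w : N ⧸ F, ψQ w = w → φQ^[k] w = w) → ∀ y : N, φ^[k] y = y := by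
    intro k hk
    have hV : ∀ v : N ⧸ F, φQ^[k] v = v := by
      intro v
      obtain ⟨a, b, ha, hb, rfl⟩ := exists_decomp hQ (hp.to_quotient F) v
      rw [iterate_map_mul, hk a ha, ← Function.iterate_succ_apply,
        Function.iterate_succ_apply' (⇑φQ), hk b hb]
    have hit : ∀ (j : ℕ) (y : N), φQ^[j] (y : N ⧸ F) = ((φ^[j] y : N) : N ⧸ F) := by
      intro j
      induction j with
      | zero => exact fun y => rfl
      | succ j ih =>
        intro y
        rw [Function.iterate_succ_apply, Function.iterate_succ_apply]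
        exact ih (φ y)
    have hpow : ∀ (j : ℕ) (y : N), ((φ : MulAut N) ^ j) y = φ^[j] y := by
      intro j
      induction j with
      | zero => exact fun y => rfl
      | succ j ih => intro y; rw [pow_succ, MulAut.mul_apply, ih, Function.iterate_succ_apply]
    obtain ⟨m, hm⟩ := h.odd
    have hσ : ((φ : MulAut N) ^ k) ^ (2 * m + 1) = 1 := by
      ext y
      rw [← pow_mul, mul_comm, pow_mul, MulAut.one_apply,
        show (φ : MulAut N) ^ (2 * m + 1) = 1 from MulEquiv.ext fun y => by rw [hpow, hm]; rfl,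
        one_pow, MulAut.one_apply]
    have := eq_one_of_frattini_odd hp _ ⟨m, rfl⟩ hσ fun y => by
      refine QuotientGroup.eq.1 ?_
      rw [hpow, ← hit, hV]
    intro y
    rw [← hpow, this, MulAut.one_apply]
  by_cases hT : ∀ w : N ⧸ F, ψQ w = w → φQ (φQ w) * φQ.symm (φQ.symm w) = w
  · refine hall 3 (fun w hw => ?_) x
    have e1 : φQ (φQ (φQ (φQ w))) * w = φQ (φQ w) := by
      have := congrArg (fun v => φQ (φQ v)) (hT w hw)
      simpa [map_mul] using this
    have e2 : φQ (φQ (φQ (φQ w))) = φQ (φQ w) * w := by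
      calc _ = φQ (φQ (φQ (φQ w))) * w * w := by rw [mul_assoc, hsq, mul_one]
        _ = _ := by rw [e1]
    have e3 : φQ^[6] w = w := by
      show φQ (φQ (φQ (φQ (φQ (φQ w))))) = w
      rw [e2, map_mul, map_mul, e2, hcomm (φQ (φQ w)) w, mul_assoc, hsq, mul_one]
    obtain ⟨m, hm⟩ := hQ.odd
    have h3 : Function.IsPeriodicPt φQ (Nat.gcd 6 (2 * m + 1)) w :=
      Function.IsPeriodicPt.gcd e3 (hm w)
    have hd : Nat.gcd 6 (2 * m + 1) ∣ 3 := by
      have h1 : Nat.gcd 6 (2 * m + 1) ∣ 2 * 3 := Nat.gcd_dvd_left _ _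
      refine (Nat.Coprime.dvd_mul_left ?_).1 h1
      exact Nat.Coprime.coprime_dvd_left (Nat.gcd_dvd_right _ _)
        (Nat.coprime_two_right.2 ⟨m, rfl⟩)
    exact h3.trans_dvd hd
  · exfalso
    push Not at hT
    obtain ⟨w, hw, hne⟩ := hT
    -- the three non-trivial fixed points
    have hTfix : ∀ v : N ⧸ F, ψQ v = v → ψQ (φQ v * φQ.symm v) = φQ v * φQ.symm v := fun v hv => by
      rw [map_mul, hQ.psi_phi, hQ.psi_symm, hv, hcomm]
    set w1 := φQ w * φQ.symm w with hw1
    set w2 := φQ (φQ w) * φQ.symm (φQ.symm w) with hw2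
    have hw1f : ψQ w1 = w1 := hTfix w hw
    have hw2eq : φQ w1 * φQ.symm w1 = w2 := by
      rw [hw1, hw2, map_mul, map_mul, φQ.apply_symm_apply, φQ.symm_apply_apply, mul_assoc,
        ← mul_assoc w w, hsq, one_mul]
    have hw2f : ψQ w2 = w2 := hw2eq ▸ hTfix w1 hw1f
    have hinjT : ∀ v : N ⧸ F, φQ v * φQ.symm v = 1 → v = 1 := fun v hv => by
      refine hQ.eq_one_of_sq ?_
      rw [mul_eq_one_iff_eq_inv, hinv] at hv
      rw [hv, φQ.apply_symm_apply]
    have hw0 : w ≠ 1 := fun e => hne (by rw [hw2, e]; simp)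
    have h12 : w1 ≠ w := fun e => hne (by rw [← hw2eq, e, ← hw1, e])
    have h10 : w1 ≠ 1 := fun e => hw0 (hinjT w e)
    have h20 : w2 ≠ 1 := fun e => h10 (hinjT w1 (hw2eq.trans e))
    have h21 : w2 ≠ w1 := fun e => h12 (by
      refine (mul_inv_eq_one.1 (hinjT (w1 * w⁻¹) ?_))
      rw [hinv w, map_mul φQ w1 w, map_mul φQ.symm w1 w,
        (show Commute (φQ w) (φQ.symm w1) from hcomm _ _).mul_mul_mul_comm, hw2eq, ← hw1, e, hsq])
    -- five elements cannot be fixed
    have hprod : w2 = w * w1 := by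
      by_contra hp2
      have h5' : ({1, w, w1, w2, w * w1} : Finset (N ⧸ F)).card = 5 := by
        have a1 : w * w1 ≠ 1 := fun e => h12 (by
          rw [mul_eq_one_iff_eq_inv, hinv] at e; exact e.symm)
        have a2 : w * w1 ≠ w := fun e => h10 (mul_eq_left.1 e)
        have a3 : w * w1 ≠ w1 := fun e => hw0 (mul_eq_right.1 e)
        rw [Finset.card_insert_of_notMem (by simp [Ne.symm hw0, Ne.symm h10, Ne.symm h20, Ne.symm a1]),
          Finset.card_insert_of_notMem (by simp [Ne.symm h12, Ne.symm hne, Ne.symm a2]),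
          Finset.card_insert_of_notMem (by simp [Ne.symm h21, Ne.symm a3]),
          Finset.card_insert_of_notMem (by simp [hp2]), Finset.card_singleton]
      haveI := Fintype.ofFinite (fixed ψQ)
      have hsub : ∀ v ∈ ({1, w, w1, w2, w * w1} : Finset (N ⧸ F)), v ∈ fixed ψQ := by
        intro v hv
        simp only [Finset.mem_insert, Finset.mem_singleton] at hv
        rcases hv with rfl | rfl | rfl | rfl | rfl
        · exact one_mem _
        · exact hw
        · exact hw1f
        · exact hw2f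
        · exact (fixed ψQ).mul_mem hw hw1f
      have hle : 5 ≤ Nat.card (fixed ψQ) := by
        rw [← h5', ← Nat.card_eq_finsetCard]
        exact Nat.card_le_card_of_injective (fun v => ⟨v.1, hsub _ v.2⟩) fun a b e =>
          Subtype.ext (congrArg (fun t : fixed ψQ => (t : N ⧸ F)) e)
      omega
    have hfive : φQ^[5] w = w := by
      have key : φQ (φQ (φQ (φQ w))) = φQ (φQ (φQ w)) * φQ (φQ w) * (φQ w * w) := by
        have := congrArg (fun v => φQ (φQ v)) hprod
        simp only [hw2, hw1, map_mul, φQ.apply_symm_apply] at this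
        calc φQ (φQ (φQ (φQ w))) = φQ (φQ (φQ (φQ w))) * w * w := by rw [mul_assoc, hsq, mul_one]
          _ = φQ (φQ w) * (φQ (φQ (φQ w)) * φQ w) * w := by rw [this]
          _ = _ := by rw [← mul_assoc (φQ (φQ w)), hcomm (φQ (φQ w)) (φQ (φQ (φQ w))), mul_assoc]
      show φQ (φQ (φQ (φQ (φQ w)))) = w
      calc φQ (φQ (φQ (φQ (φQ w))))
          = φQ (φQ (φQ (φQ w))) * φQ (φQ (φQ w)) * (φQ (φQ w) * φQ w) := by
            rw [key, map_mul, map_mul, map_mul, key]
        _ = w := by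
            rw [key]
            set p := φQ (φQ (φQ w))
            set q := φQ (φQ w)
            set r := φQ w
            rw [hcomm (p * q) (r * w), mul_assoc (r * w), hcomm p q, mul_assoc q, hsq, mul_one,
              mul_assoc (r * w), ← mul_assoc q q, hsq, one_mul, hcomm r w, mul_assoc, hsq, mul_one]
    have hgenw : fixed ψQ ≤ closure {w, w1} := by
      intro v hv
      by_contra hvc
      have hwc : w ∈ closure ({w, w1} : Set (N ⧸ F)) := subset_closure (by simp)
      have hw1c : w1 ∈ closure ({w, w1} : Set (N ⧸ F)) := subset_closure (by simp)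
      have h5' : ({1, w, w1, w * w1, v} : Finset (N ⧸ F)).card = 5 := by
        have a1 : w * w1 ≠ 1 := fun e => h12 (by
          rw [mul_eq_one_iff_eq_inv, hinv] at e; exact e.symm)
        have a2 : w * w1 ≠ w := fun e => h10 (mul_eq_left.1 e)
        have a3 : w * w1 ≠ w1 := fun e => hw0 (mul_eq_right.1 e)
        have b0 : v ≠ 1 := fun e => hvc (e ▸ one_mem _)
        have b1 : v ≠ w := fun e => hvc (e ▸ hwc)
        have b2 : v ≠ w1 := fun e => hvc (e ▸ hw1c)
        have b3 : v ≠ w * w1 := fun e => hvc (e ▸ mul_mem hwc hw1c)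
        rw [Finset.card_insert_of_notMem (by simp [Ne.symm hw0, Ne.symm h10, Ne.symm a1, Ne.symm b0]),
          Finset.card_insert_of_notMem (by simp [Ne.symm h12, Ne.symm a2, Ne.symm b1]),
          Finset.card_insert_of_notMem (by simp [Ne.symm a3, Ne.symm b2]),
          Finset.card_insert_of_notMem (by simp [Ne.symm b3]), Finset.card_singleton]
      have hsub : ∀ t ∈ ({1, w, w1, w * w1, v} : Finset (N ⧸ F)), t ∈ fixed ψQ := by
        intro t ht
        simp only [Finset.mem_insert, Finset.mem_singleton] at ht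
        rcases ht with rfl | rfl | rfl | rfl | rfl
        · exact one_mem _
        · exact hw
        · exact hw1f
        · exact (fixed ψQ).mul_mem hw hw1f
        · exact hv
      have hle : 5 ≤ Nat.card (fixed ψQ) := by
        rw [← h5', ← Nat.card_eq_finsetCard]
        exact Nat.card_le_card_of_injective (fun t => ⟨t.1, hsub _ t.2⟩) fun a b e =>
          Subtype.ext (congrArg (fun t : fixed ψQ => (t : N ⧸ F)) e)
      omega
    have hw15 : φQ^[5] w1 = w1 := by
      rw [hw1, iterate_map_mul]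
      congr 1
      · rw [← Function.iterate_succ_apply, Function.iterate_succ_apply' (⇑φQ), hfive]
      · apply φQ.injective
        rw [← Function.iterate_succ_apply' (⇑φQ), Function.iterate_succ_apply, φQ.apply_symm_apply,
          hfive]
    obtain ⟨y, hy⟩ := h5
    refine hy (hall 5 (fun v hv => ?_) y)
    refine closure_induction (p := fun t _ => φQ^[5] t = t) ?_ (iterate_map_one φQ 5)
      (fun a b _ _ ha hb => by rw [iterate_map_mul, ha, hb])
      (fun a _ ha => by rw [iterate_map_inv, ha]) (hgenw hv)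
    rintro t (rfl | rfl)
    · exact hfive
    · exact hw15

omit [Finite N] in
/-- A 2-group in which every element commutes with its conjugates has class two. -/
theorem commutator_mem_center_of_conj (hp : IsPGroup 2 N)
    (hE : ∀ x g : N, Commute x (g * x * g⁻¹)) (a b : N) : ⁅a, b⁆ ∈ center N := by
  have hN : ∀ (x : N), ∀ p ∈ normalClosure {x}, ∀ q ∈ normalClosure {x}, Commute p q := by
    intro x p hp' q hq
    have h1 : ∀ g : N, normalClosure {x} ≤ centralizer ({g * x * g⁻¹} : Set N) := fun g => by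
      refine (closure_le _).2 fun y hy => ?_
      obtain ⟨w, hw, hwy⟩ := Group.mem_conjugatesOfSet_iff.1 hy
      rw [Set.mem_singleton_iff.1 hw] at hwy
      obtain ⟨k, hk⟩ := isConj_iff.1 hwy
      refine mem_centralizer_singleton_iff.2 ?_
      have h := (hE x (k⁻¹ * g)).map (MulAut.conj k).toMonoidHom
      simp only [MulEquiv.coe_toMonoidHom, MulAut.conj_apply, hk] at h
      rw [show k * (k⁻¹ * g * x * (k⁻¹ * g)⁻¹) * k⁻¹ = g * x * g⁻¹ by group] at h
      exact h.eq
    have h2 : normalClosure {x} ≤ centralizer ({p} : Set N) := by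
      refine (closure_le _).2 fun y hy => ?_
      obtain ⟨w, hw, hwy⟩ := Group.mem_conjugatesOfSet_iff.1 hy
      rw [Set.mem_singleton_iff.1 hw] at hwy
      obtain ⟨k, rfl⟩ := isConj_iff.1 hwy
      exact mem_centralizer_singleton_iff.2 (mem_centralizer_singleton_iff.1 (h1 k hp')).symm
    exact (mem_centralizer_singleton_iff.1 (h2 hq)).symm
  have hmem1 : ∀ x y : N, ⁅x, y⁆ ∈ normalClosure {x} ∧ ⁅x, y⁆ ∈ normalClosure {y} := by
    intro x y
    have hx := subset_normalClosure (Set.mem_singleton x)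
    have hy := subset_normalClosure (Set.mem_singleton y)
    constructor
    · rw [commutatorElement_def, show x * y * x⁻¹ * y⁻¹ = x * (y * x⁻¹ * y⁻¹) by group]
      exact mul_mem hx ((normalClosure_normal (s := {x})).conj_mem _ (inv_mem hx) y)
    · rw [commutatorElement_def]
      exact mul_mem ((normalClosure_normal (s := {y})).conj_mem _ hy x) (inv_mem hy)
  have hcx : ∀ x y : N, Commute ⁅x, y⁆ x ∧ Commute ⁅x, y⁆ y := fun x y =>
    ⟨hN x _ (hmem1 x y).1 _ (subset_normalClosure (Set.mem_singleton x)),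
      hN y _ (hmem1 x y).2 _ (subset_normalClosure (Set.mem_singleton y))⟩
  -- inverses
  have hswap : ∀ x y : N, ⁅y, x⁆ = ⁅x, y⁆⁻¹ := fun x y => (commutatorElement_inv x y).symm
  have hleft : ∀ x y : N, ⁅x⁻¹, y⁆ = ⁅x, y⁆⁻¹ := fun x y => by
    rw [← hswap, show ⁅x⁻¹, y⁆ = x⁻¹ * ⁅y, x⁆ * x by simp only [commutatorElement_def]; group,
      (hcx y x).2.symm.inv_left.eq, inv_mul_cancel_right]
  have hright : ∀ x y : N, ⁅x, y⁻¹⁆ = ⁅x, y⁆⁻¹ := fun x y => by
    rw [hswap y⁻¹ x, hleft, hswap x y, inv_inv]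
  set T := fun x y d : N => ⁅⁅x, y⁆, d⁆ with hT
  have hTc : ∀ x y d : N, Commute (T x y d) x ∧ Commute (T x y d) y ∧ Commute (T x y d) d := by
    intro x y d
    have hu := hmem1 x y
    have hin : ∀ w : N, ⁅x, y⁆ ∈ normalClosure {w} → T x y d ∈ normalClosure {w} := fun w hw => by
      simp only [hT, commutatorElement_def] at hw ⊢
      rw [show x * y * x⁻¹ * y⁻¹ * d * (x * y * x⁻¹ * y⁻¹)⁻¹ * d⁻¹ =
        x * y * x⁻¹ * y⁻¹ * (d * (x * y * x⁻¹ * y⁻¹)⁻¹ * d⁻¹) by group]
      exact mul_mem hw ((normalClosure_normal (s := {w})).conj_mem _ (inv_mem hw) d)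
    exact ⟨hN x _ (hin x hu.1) _ (subset_normalClosure (Set.mem_singleton x)),
      hN y _ (hin y hu.2) _ (subset_normalClosure (Set.mem_singleton y)), (hcx _ d).2⟩
  have hflip : ∀ x y d : N, T y x d = (T x y d)⁻¹ := fun x y d => by
    simp only [hT]
    rw [hswap x y, hleft]
  have halt : ∀ x y d : N, T x d y = (T x y d)⁻¹ := by
    intro x y d
    set u := ⁅x, y⁆ with hu
    set w := ⁅x, d⁆ with hw
    set s := (T x y d)⁻¹ with hs
    set t := (T x d y)⁻¹ with ht
    have hdu : d * u * d⁻¹ = u * s := by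
      rw [hs, hT]
      show _ = u * (⁅⁅x, y⁆, d⁆)⁻¹
      rw [← hleft, ← hu, commutatorElement_def]; group
    have hyw : y * w * y⁻¹ = t * w := by
      rw [ht, hT]
      show _ = (⁅⁅x, d⁆, y⁆)⁻¹ * w
      rw [← hswap, ← hw, commutatorElement_def]; group
    have hexp : ⁅x, y * d⁆ = u * (t * w) := by
      rw [← hyw, hu, hw, commutatorElement_def, commutatorElement_def, commutatorElement_def]
      group
    have hc := (hcx x (y * d)).2
    rw [hexp] at hc
    have h1 : y * d * (u * (t * w)) * (y * d)⁻¹ = u * (t * w) := by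
      rw [hc.symm.eq, mul_inv_cancel_right]
    have hdt : d * t * d⁻¹ = t := by
      rw [ht, (hTc x d y).2.1.inv_left.symm.eq, mul_inv_cancel_right]
    have hdw : d * w * d⁻¹ = w := by rw [(hcx x d).2.symm.eq, mul_inv_cancel_right]
    have hyu : y * u * y⁻¹ = u := by rw [(hcx x y).2.symm.eq, mul_inv_cancel_right]
    have hys : y * s * y⁻¹ = s := by
      rw [hs, (hTc x y d).2.1.inv_left.symm.eq, mul_inv_cancel_right]
    have hyt : y * t * y⁻¹ = t := by
      rw [ht, (hTc x d y).2.2.inv_left.symm.eq, mul_inv_cancel_right]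
    rw [show y * d * (u * (t * w)) * (y * d)⁻¹ =
      y * ((d * u * d⁻¹) * ((d * t * d⁻¹) * (d * w * d⁻¹))) * y⁻¹ by group, hdu, hdt, hdw,
      show y * (u * s * (t * w)) * y⁻¹ =
        (y * u * y⁻¹) * (y * s * y⁻¹) * ((y * t * y⁻¹) * (y * w * y⁻¹)) by group,
      hyu, hys, hyt, hyw, mul_assoc, mul_right_inj] at h1
    have h2 : s * t = 1 := by
      have h3 : s * t * (t * w) = 1 * (t * w) := by rw [one_mul, mul_assoc]; exact h1
      exact mul_right_cancel h3
    rw [mul_eq_one_iff_eq_inv, ht, inv_inv] at h2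
    exact h2.symm.trans hs
  have hcyc : ∀ x y d : N, T y d x = T x y d := fun x y d => by
    rw [halt y x d, hflip x y d, inv_inv]
  refine mem_center_iff.2 fun d => ?_
  suffices h3 : T a b d = 1 by
    simp only [hT] at h3
    exact (commutatorElement_eq_one_iff_mul_comm.1 h3).symm
  -- Hall-Witt
  have e1 : T b a⁻¹ d⁻¹ = (T a b d)⁻¹ := by
    simp only [hT]
    rw [hright b a, hleft, hright, inv_inv, hswap a b, hleft]
  have e2 : T d b⁻¹ a⁻¹ = (T a b d)⁻¹ := by
    rw [show T d b⁻¹ a⁻¹ = T d b a by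
      simp only [hT]; rw [hright d b, hleft, hright, inv_inv],
      hflip b d a, hcyc a b d]
  have e3 : T a d⁻¹ b⁻¹ = (T a b d)⁻¹ := by
    rw [show T a d⁻¹ b⁻¹ = T a d b by
      simp only [hT]; rw [hright a d, hleft, hright, inv_inv], halt a b d]
  have hHW : (b⁻¹ * T b a⁻¹ d⁻¹ * b) * (d⁻¹ * T d b⁻¹ a⁻¹ * d) * (a⁻¹ * T a d⁻¹ b⁻¹ * a) = 1 := by
    simp only [hT, commutatorElement_def]; group
  rw [e1, e2, e3, (hTc a b d).2.1.inv_left.symm.inv_left.eq, inv_mul_cancel_right,
    (hTc a b d).2.2.inv_left.symm.inv_left.eq, inv_mul_cancel_right,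
    (hTc a b d).1.inv_left.symm.inv_left.eq, inv_mul_cancel_right] at hHW
  have h3 : T a b d ^ 3 = 1 := by
    rw [← inv_eq_one, ← inv_pow]
    simpa [pow_succ, mul_assoc] using hHW
  obtain ⟨k, hk⟩ := hp (T a b d)
  exact orderOf_eq_one_iff.1 (Nat.eq_one_of_dvd_coprimes
    (show Nat.Coprime (2 ^ k) 3 from Nat.Coprime.pow_left _ (by norm_num))
    (orderOf_dvd_of_pow_eq_one hk) (orderOf_dvd_of_pow_eq_one h3))

/-- A fixed-point-free automorphism of order three has `y φ(y) φ²(y) = 1`. -/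
theorem prod_eq_one (hfpf : ∀ x, φ x = x → x = 1) (h3 : ∀ x, φ (φ (φ x)) = x) (y : N) :
    y * φ y * φ (φ y) = 1 := by
  have hinj : Function.Injective fun h : N => h⁻¹ * φ h := by
    intro p q hpq
    have h1 : p⁻¹ * φ p = q⁻¹ * φ q := hpq
    refine (mul_inv_eq_one.1 (hfpf (q * p⁻¹) ?_)).symm
    rw [map_mul, map_inv, show φ q = q * (p⁻¹ * φ p) by rw [h1, mul_inv_cancel_left]]
    group
  obtain ⟨h, rfl⟩ := Finite.injective_iff_surjective.1 hinj y
  simp only [map_mul, map_inv, h3]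
  group

theorem commute_apply (hfpf : ∀ x, φ x = x → x = 1) (h3 : ∀ x, φ (φ (φ x)) = x) (y : N) :
    Commute y (φ y) := by
  have hrr : ∀ y : N, φ (φ y) = (φ y)⁻¹ * y⁻¹ := fun y => by
    rw [← mul_inv_rev]
    exact eq_inv_of_mul_eq_one_right (prod_eq_one hfpf h3 y)
  have h1 := hrr y⁻¹
  rw [map_inv, map_inv, inv_inv, inv_inv, hrr y, mul_inv_rev, inv_inv, inv_inv] at h1
  exact h1

/-- A fixed-point-free automorphism of order three forces class two. -/
theorem commutator_mem_center (hp : IsPGroup 2 N) (hfpf : ∀ x, φ x = x → x = 1)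
    (h3 : ∀ x, φ (φ (φ x)) = x) (a b : N) : ⁅a, b⁆ ∈ center N := by
  refine commutator_mem_center_of_conj hp (fun x g => ?_) a b
  have hsurj : ∀ g : N, ∃ h : N, g = h⁻¹ * φ h := by
    have hinj : Function.Injective fun h : N => h⁻¹ * φ h := by
      intro p q hpq
      have h1 : p⁻¹ * φ p = q⁻¹ * φ q := hpq
      refine (mul_inv_eq_one.1 (hfpf (q * p⁻¹) ?_)).symm
      rw [map_mul, map_inv, show φ q = q * (p⁻¹ * φ p) by rw [h1, mul_inv_cancel_left]]
      group
    intro g
    obtain ⟨h, hh⟩ := Finite.injective_iff_surjective.1 hinj g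
    exact ⟨h, hh.symm⟩
  have hprod := prod_eq_one hfpf h3
  have hcomm0 := commute_apply hfpf h3
  have hcomm : ∀ y g : N, Commute y (g * φ y * g⁻¹) := fun y g => by
    obtain ⟨h, rfl⟩ := hsurj g
    have h1 := (hcomm0 (h * y * h⁻¹)).map (MulAut.conj h⁻¹).toMonoidHom
    simpa [map_mul, map_inv, mul_assoc] using h1
  have h1 : Commute (g * x * g⁻¹) (φ x) := by
    have h2 := (hcomm x g⁻¹).map (MulAut.conj g).toMonoidHom
    simpa [mul_assoc] using h2
  have h2 : Commute (g * x * g⁻¹) (φ (φ x)) := by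
    have h4 := hcomm (φ (φ x)) g
    rw [h3] at h4
    exact h4.symm
  have h4 : x = (φ x * φ (φ x))⁻¹ := eq_inv_of_mul_eq_one_left (by rw [← mul_assoc, hprod])
  have h5 := (h1.mul_right h2).inv_right
  rw [← h4] at h5
  exact h5.symm

end Cfsg.Agent.CoreKilling.FpfThree
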