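import Cfsg.Agent.Lib.CoreKilling.GenGood

/-!
# Core killing, part I: every involution of `N(W)` is bad

Given, for a central involution `z` of `S`, an odd `C(z)`-invariant `Y ≤ N(W)` over `W`:
if some involution `d` had `C(d) ≤ N(W)`, the value of the functor at `z` would fix every coset of
`N(W)`, hence be trivial, so `z` and a commuting conjugate would both invert `W`.
-/

set_option autoImplicit false
set_option linter.unusedSectionVars false
set_option linter.style.haveILetI false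

namespace Cfsg.Agent.CoreKilling

open Subgroup Involution
open scoped Pointwise

universe u

variable {G : Type u} [Group G] [Finite G] {θ : G → Subgroup G} {S : Sylow 2 G} {W : Subgroup G}

local notation "M" => normalizer (W : Set G)

/-- An automorphism of order two without fixed points on an odd group inverts it. -/
theorem inverts_of_fixed_free {a : G} (ha : a * a = 1) (hnorm : ∀ w ∈ W, a * w * a⁻¹ ∈ W)
    (hfree : ∀ w ∈ W, a * w * a⁻¹ = w → w = 1) : ∀ w ∈ W, a * w * a⁻¹ = w⁻¹ := by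
  let f : W → W := fun w => ⟨(w : G)⁻¹ * (a * w * a⁻¹), W.mul_mem (W.inv_mem w.2) (hnorm w w.2)⟩
  have hinj : Function.Injective f := by
    intro b c hbc
    have h1 : (b : G)⁻¹ * (a * b * a⁻¹) = (c : G)⁻¹ * (a * c * a⁻¹) := congrArg Subtype.val hbc
    have h2 := hfree ((c : G) * (b : G)⁻¹) (W.mul_mem c.2 (W.inv_mem b.2)) (by
      calc a * ((c : G) * (b : G)⁻¹) * a⁻¹ = (c : G) * ((c : G)⁻¹ * (a * c * a⁻¹)) *
            ((b : G)⁻¹ * (a * b * a⁻¹))⁻¹ * (b : G)⁻¹ := by group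
        _ = (c : G) * (b : G)⁻¹ := by rw [h1]; group)
    exact Subtype.ext (mul_inv_eq_one.1 h2).symm
  intro w hw
  obtain ⟨b, hb⟩ := (Finite.injective_iff_surjective.1 hinj) ⟨w, hw⟩
  have h1 : (b : G)⁻¹ * (a * b * a⁻¹) = w := congrArg Subtype.val hb
  have hi : a⁻¹ = a := inv_eq_of_mul_eq_one_right ha
  rw [← h1, hi]
  calc a * ((b : G)⁻¹ * (a * b * a)) * a = a * (b : G)⁻¹ * a * b * (a * a) := by group
    _ = _ := by rw [ha, mul_inv_rev, mul_inv_rev, mul_inv_rev, inv_inv, hi]; group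

namespace GenW

variable (h : GenW θ S W)
include h

/-- The value at a central involution fixes every coset. -/
theorem theta_conj_mem (hO : Cfsg.oddCore G = ⊥) (hW : W ≠ ⊥) {z : G} (hz : orderOf z = 2)
    (hzS : z ∈ S) (hzc : ∀ s ∈ S, Commute s z) {Y : Subgroup G} (hYM : Y ≤ M)
    (hYC : centralizer ({z} : Set G) ≤ normalizer (Y : Set G)) (hWY : W ≤ Y) {d : G} (hdM : d ∈ M)
    (hd : orderOf d = 2) (hgood : centralizer ({d} : Set G) ≤ M) {x : G} (hx : x ∈ θ z) (g : G) :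
    g⁻¹ * x * g ∈ M := by
  haveI : Fact (Nat.Prime 2) := ⟨Nat.prime_two⟩
  have hzM : z ∈ M := h.norm hzS
  have hzbad := h.not_good_central hO hW hz hzS hzc
  have hθW : θ z ≤ W := h.theta_le hzS hz
  have hθn : ∀ {c y : G}, Commute c z → y ∈ θ z → c * y * c⁻¹ ∈ θ z := fun {c y} hc hy =>
    (mem_normalizer_iff.1 (h.centralizer_le_normalizer z (mem_cent_iff.2 hc)) y).1 hy
  by_cases hgz : g⁻¹ * z * g⁻¹⁻¹ ∈ M
  · obtain ⟨m, hm, hme⟩ := h.exists_conj_M hz hzM hgz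
    have hc : Commute (g * m)⁻¹ z := by
      refine (mul_inv_eq_iff_eq_mul.1 ?_)
      calc (g * m)⁻¹ * z * ((g * m)⁻¹)⁻¹ = m⁻¹ * (g⁻¹ * z * g⁻¹⁻¹) * m := by group
        _ = z := by rw [← hme]; group
    have := mul_mem (mul_mem hm (le_normalizer (hθW (hθn hc hx)))) (inv_mem hm)
    convert this using 1
    group
  set d₁ := g * d * g⁻¹ with hd₁
  have hd₁2 : orderOf d₁ = 2 := by rw [hd₁, orderOf_conj, hd]
  have heven : Even (orderOf (d₁ * z)) := Involution.even_of_not_isConj hd₁2 hz fun hc => by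
    obtain ⟨k, hk⟩ := isConj_iff.1 hc
    refine hzbad ?_
    rw [← hk, hd₁, show k * (g * d * g⁻¹) * k⁻¹ = (k * g) * d * (k * g)⁻¹ by group]
    refine (h.good_conj hd hdM ?_).2 hgood
    rwa [show (k * g) * d * (k * g)⁻¹ = k * d₁ * k⁻¹ by rw [hd₁]; group, hk]
  obtain ⟨w, hw, hwd, hwz, -⟩ := Involution.exists_commuting_involution hd₁2 hz heven
  have hgw : g⁻¹ * w * g⁻¹⁻¹ ∈ M := by
    rw [inv_inv]
    exact hgood (conj_centralizer_mem (mem_cent_iff.2 hwd))
  have hSC : (S : Subgroup G) ≤ centralizer ({z} : Set G) := fun s hs => mem_cent_iff.2 (hzc s hs)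
  obtain ⟨c, hcC, hcS⟩ := TwoCore.exists_conj_sylow_mem S hSC (P := zpowers w)
    (IsPGroup.of_card (n := 1) (by rw [Nat.card_zpowers, hw, pow_one]))
    (zpowers_le.2 (mem_cent_iff.2 hwz))
  have hcz : Commute c z := mem_cent_iff.1 hcC
  set w' := c * w * c⁻¹ with hw'
  have hw'S : w' ∈ S := hcS w (mem_zpowers w)
  have hw'M : w' ∈ M := h.norm hw'S
  have hw'2 : orderOf w' = 2 := by rw [hw', orderOf_conj, hw]
  set g' := c * g with hg'
  have hg'w : g'⁻¹ * w' * g'⁻¹⁻¹ = g⁻¹ * w * g⁻¹⁻¹ := by rw [hg', hw']; group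
  have hzc' : c⁻¹ * z * c = z := by rw [mul_assoc, ← hcz.eq, inv_mul_cancel_left]
  have hw'z : w' ≠ z := fun e => hgz (by
    have : w = z := by rw [← hzc', ← e, hw']; group
    rwa [← this])
  have hw'bad : ¬ centralizer ({w'} : Set G) ≤ M := fun hg0 => hgz (by
    have h1 := h.good_ctl hw'2 hw'M hg0 (g := g'⁻¹) (by rw [hg'w]; exact hgw)
    have h2 := mul_mem (mul_mem h1 hzM) (inv_mem h1)
    rw [hg', show (c * g)⁻¹ * z * ((c * g)⁻¹)⁻¹ = g⁻¹ * (c⁻¹ * z * c) * g⁻¹⁻¹ by group, hzc'] at h2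
    exact h2)
  obtain ⟨m, hm, hmw⟩ : ∃ m ∈ M, m * z * m⁻¹ = w' := by
    by_contra hnc
    push Not at hnc
    have hzw' : Commute z w' := (hzc w' hw'S).symm
    obtain ⟨T, hTM, hTz⟩ := h.exists_sylow hw'M hw'2 (P := zpowers z)
      (IsPGroup.of_card (n := 1) (by rw [Nat.card_zpowers, hz, pow_one]))
      (le_inf (zpowers_le.2 (mem_cent_iff.2 hzw')) (zpowers_le.2 hzM))
    obtain ⟨m, hm, hmC, hmT, hmc⟩ := h.exists_central hTM hw'2 hz hzS hzc
    have hvbad : ¬ centralizer ({m * z * m⁻¹} : Set G) ≤ M := fun e => hzbad ((h.good_iff hm).1 e)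
    have D : CentData W w' T ⟨m * z * m⁻¹, hmC⟩ :=
      ⟨hw'2, hw'M, hw'bad, hTM, by rw [orderOf_conj]; exact hz, hnc m hm, hmT, hmc⟩
    set d₂ : centralizer ({w'} : Set G) := ⟨c * d₁ * c⁻¹, mem_cent_iff.2
      (hwd.symm.map (MulAut.conj c).toMonoidHom)⟩ with hd₂
    obtain ⟨c₂, -, hc₂⟩ := TwoCore.exists_conj_sylow_mem T (Γ := ⊤) le_top (P := zpowers d₂)
      (IsPGroup.of_card (n := 1)
        (by rw [Nat.card_zpowers, Subgroup.orderOf_mk, orderOf_conj, hd₁2, pow_one])) le_top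
    have hval : (((c₂ * d₂ * c₂⁻¹ : centralizer ({w'} : Set G)) : G)) =
        ((c₂ : G) * g') * d * ((c₂ : G) * g')⁻¹ := by
      simp only [Subgroup.coe_mul, Subgroup.coe_inv, hd₂, hd₁, hg']
      group
    have he := hc₂ d₂ (mem_zpowers d₂)
    have he2 : orderOf (((c₂ * d₂ * c₂⁻¹ : centralizer ({w'} : Set G)) : G)) = 2 := by
      rw [hval, orderOf_conj, hd]
    have hegood : centralizer ({((c₂ * d₂ * c₂⁻¹ : centralizer ({w'} : Set G)) : G)} : Set G) ≤ M := by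
      have h1 := hTM _ he
      rw [hval] at h1 ⊢
      exact (h.good_conj hd hdM h1).2 hgood
    have hvw : centralizer ({m * z * m⁻¹ * w'} : Set G) ≤ M := by
      obtain ⟨c₃, hc₃, e | e⟩ := D.exists_conj h he he2 (fun e => hw'bad (e ▸ hegood))
      · rw [e] at hegood
        exact absurd ((h.good_iff hc₃.2).1 hegood) hvbad
      · rw [e] at hegood
        exact (h.good_iff hc₃.2).1 hegood
    have hcent : w' ∈ center G := h.mem_center_of_T hO hw'2 T fun e he' he2' hew k hk => by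
      obtain ⟨c₃, hc₃, e' | e'⟩ := D.exists_conj h he' he2' hew
      · have h1 : (k⁻¹ * c₃ * m) * z * (k⁻¹ * c₃ * m)⁻¹ = w' := by
          change (e : G) = c₃ * (m * z * m⁻¹) * c₃⁻¹ at e'
          rw [← hk] at e'
          calc (k⁻¹ * c₃ * m) * z * (k⁻¹ * c₃ * m)⁻¹ = k⁻¹ * (c₃ * (m * z * m⁻¹) * c₃⁻¹) * k := by
                group
            _ = w' := by rw [← e']; group
        obtain ⟨m', hm', hme⟩ := h.exists_conj_M hz hzM (g := k⁻¹ * c₃ * m) (by rw [h1]; exact hw'M)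
        exact hnc m' hm' (hme.trans h1)
      · refine hw'bad ((h.good_conj (g := k) hw'2 hw'M (hk ▸ hTM e he')).1 ?_)
        rw [hk, e']
        exact h.good_of_conj hc₃.2 hvw
    refine hvbad fun y hy => hvw (mem_cent_iff.2 ?_)
    exact (mem_cent_iff.1 hy).mul_right (mem_center_iff.1 hcent y)
  have hmem : (g'⁻¹ * m) * z * (g'⁻¹ * m)⁻¹ ∈ M := by
    rw [show (g'⁻¹ * m) * z * (g'⁻¹ * m)⁻¹ = g'⁻¹ * (m * z * m⁻¹) * g'⁻¹⁻¹ by group, hmw, hg'w]
    exact hgw
  obtain ⟨m₂, hm₂, hme⟩ := h.exists_conj_M hz hzM hmem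
  have hh : m₂⁻¹ * g'⁻¹ * m ∈ centralizer ({z} : Set G) := by
    refine mem_cent_iff.2 (mul_inv_eq_iff_eq_mul.1 ?_)
    calc m₂⁻¹ * g'⁻¹ * m * z * (m₂⁻¹ * g'⁻¹ * m)⁻¹ =
          m₂⁻¹ * ((g'⁻¹ * m) * z * (g'⁻¹ * m)⁻¹) * m₂ := by group
      _ = z := by rw [← hme]; group
  have hy : m⁻¹ * (c * x * c⁻¹) * m ∈ Y := hWY (by
    have := (mem_normalizer_iff.1 (inv_mem hm) _).1 (hθW (hθn hcz hx))
    rwa [inv_inv] at this)
  have := mul_mem (mul_mem hm₂ (hYM ((mem_normalizer_iff.1 (hYC hh) _).1 hy))) (inv_mem hm₂)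
  rw [hg'] at this
  convert this using 1
  group

/-- **All involutions of `N(W)` are bad.** -/
theorem all_bad (hO : Cfsg.oddCore G = ⊥) (hW : W ≠ ⊥) {z : G} (hz : orderOf z = 2)
    (hzS : z ∈ S) (hzc : ∀ s ∈ S, Commute s z) {Y : Subgroup G} (hYM : Y ≤ M)
    (hYC : centralizer ({z} : Set G) ≤ normalizer (Y : Set G)) (hWY : W ≤ Y) {d : G} (hdM : d ∈ M)
    (hd : orderOf d = 2) : ¬ centralizer ({d} : Set G) ≤ M := by
  intro hgood
  haveI : Fact (Nat.Prime 2) := ⟨Nat.prime_two⟩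
  have hzM : z ∈ M := h.norm hzS
  have hzbad := h.not_good_central hO hW hz hzS hzc
  have hθ : θ z = ⊥ := (eq_bot_iff_forall _).2 fun x hx =>
    h.eq_one_of_all_conj hO (h.theta_le hzS hz hx)
      (h.theta_conj_mem hO hW hz hzS hzc hYM hYC hWY hdM hd hgood hx)
  have hfree : ∀ a ∈ M, orderOf a = 2 → θ a = ⊥ → ∀ w ∈ W, a * w * a⁻¹ = w → w = 1 := by
    intro a haM ha hθa w hw he
    rw [← mem_bot (G := G), ← hθa, ← h.theta_eq haM ha]
    exact ⟨hw, mem_cent_iff.2 (mul_inv_eq_iff_eq_mul.1 he).symm⟩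
  have hinv : ∀ a ∈ M, orderOf a = 2 → θ a = ⊥ → ∀ w ∈ W, a * w * a⁻¹ = w⁻¹ := fun a haM ha hθa =>
    inverts_of_fixed_free (mul_self ha) (fun w hw => (mem_normalizer_iff.1 haM w).1 hw)
      (hfree a haM ha hθa)
  -- a commuting conjugate of `z`
  obtain ⟨g, hg, hne⟩ : ∃ g : G, Commute z (g * z * g⁻¹) ∧ g * z * g⁻¹ ≠ z := by
    by_contra hcon
    push Not at hcon
    have hc := mem_center_of_isolated hO hz hcon
    exact hW ((eq_bot_iff_forall _).2 fun w hw => hfree z hzM hz hθ w hw (by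
      rw [(show Commute z w from (mem_center_iff.1 hc w).symm).eq, mul_inv_cancel_right]))
  set z' := g * z * g⁻¹ with hz'
  have hz'2 : orderOf z' = 2 := by rw [hz', orderOf_conj, hz]
  obtain ⟨c, hc, hcS⟩ := TwoCore.exists_conj_sylow_mem S (Γ := centralizer ({z} : Set G))
    (fun s hs => mem_cent_iff.2 (hzc s hs)) (P := zpowers z')
    (IsPGroup.of_card (n := 1) (by rw [Nat.card_zpowers, hz'2, pow_one]))
    (zpowers_le.2 (mem_cent_iff.2 hg.symm))
  set z'' := c * z' * c⁻¹ with hz''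
  have hz''M : z'' ∈ M := h.norm (hcS z' (mem_zpowers z'))
  have hcz : Commute c z := mem_cent_iff.1 hc
  have hz''z : Commute z z'' := by
    have h1 := hg.map (MulAut.conj c).toMonoidHom
    simp only [MulEquiv.coe_toMonoidHom, MulAut.conj_apply] at h1
    rwa [hcz.eq, mul_inv_cancel_right] at h1
  have hz''ne : z'' ≠ z := fun e => hne (mul_left_cancel (a := c) (by
    rw [hcz.eq]; exact mul_inv_eq_iff_eq_mul.1 e))
  have hz''eq : z'' = (c * g) * z * (c * g)⁻¹ := by rw [hz'', hz']; group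
  have hz''2 : orderOf z'' = 2 := by rw [hz''eq, orderOf_conj, hz]
  have hθ'' : θ z'' = ⊥ := by rw [hz''eq, h.eqv, hθ, Subgroup.map_bot]
  refine h.not_centralized hO hW _ (mul_mem hzM hz''M) ?_ fun w hw => mem_cent_iff.2 ?_
  · refine orderOf_of_sq ?_ fun e => hz''ne (by rw [mul_eq_one_iff_eq_inv'] at e; rw [e, inv_eq hz])
    rw [mul_assoc, ← mul_assoc z'', ← hz''z.eq, mul_assoc z z'' z'', mul_self hz''2, mul_one,
      mul_self hz]
  · have h1 := hinv z'' hz''M hz''2 hθ'' w hw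
    have h2 := hinv z hzM hz hθ w⁻¹ (W.inv_mem hw)
    rw [inv_inv, ← h1] at h2
    refine (mul_inv_eq_iff_eq_mul.1 ?_).symm
    rw [← inv_inv w] at h2 ⊢
    calc z * z'' * (w⁻¹)⁻¹ * (z * z'')⁻¹ = z * (z'' * (w⁻¹)⁻¹ * z''⁻¹) * z⁻¹ := by group
      _ = _ := h2

end GenW

end Cfsg.Agent.CoreKilling
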