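import Cfsg.Agent.Lib.CoreKilling.GenDefs
import Cfsg.Agent.Lib.CoreKilling.CentralLoc
import Cfsg.Agent.Lib.TwoCore.Group

/-!
# A bad involution with a second central involution (core killing, part I, L1 in `G`)

`d ∈ M = N(W)` is an involution with `C(d)` not in `M`, `T` a Sylow 2-subgroup of `C(d)` inside `M`
and `v ≠ d` an involution central in `T`.

* `Gen.exists_sylow`, `Gen.exists_central` : such `T` and a central `v` exist
* `CentData.commute` : the involutions of `T` commute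
* `CentData.exists_conj` : they are `d`, conjugates of `v` or conjugates of `v` times `d`
* `CentData.le_core` : balance
-/

set_option autoImplicit false
set_option linter.unusedSectionVars false
set_option linter.style.haveILetI false

namespace Cfsg.Agent.CoreKilling

open Subgroup Involution TwoCore
open scoped Pointwise

universe u

variable {G : Type u} [Group G] [Finite G] {θ : G → Subgroup G} {S : Sylow 2 G} {W : Subgroup G}

local notation "M" => normalizer (W : Set G)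

theorem mem_cent_iff {c d : G} : c ∈ centralizer ({d} : Set G) ↔ Commute c d :=
  mem_centralizer_singleton_iff

/-- `C(d)`. -/
abbrev cC (d : G) : Subgroup G := centralizer ({d} : Set G)

/-- `O(C(d))` inside `C(d)`. -/
abbrev oC (d : G) : Subgroup ↥(cC d) := Cfsg.pPrimeCore 2 ↥(cC d)

/-- The quotient map of `C(d)` by its odd core. -/
abbrev prC (d : G) : ↥(cC d) →* ↥(cC d) ⧸ oC d := QuotientGroup.mk' (oC d)

/-- `d` in its centraliser. -/
abbrev selfC (d : G) : ↥(cC d) := ⟨d, mem_cent_iff.2 (Commute.refl d)⟩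

namespace GenW

variable (h : GenW θ S W)
include h

/-- A pair of commuting involutions of `N(W)` controls its fusion. -/
theorem pair_mem {a b g : G} (ha : orderOf a = 2) (hb : orderOf b = 2) (hne : b ≠ a)
    (hab : Commute a b) (haM : a ∈ M) (hbM : b ∈ M) (hga : g * a * g⁻¹ ∈ M)
    (hgb : g * b * g⁻¹ ∈ M) : g ∈ M := by
  refine h.fusion (TwoCore.isFour_pair ha hb hne hab)
    (sup_le (zpowers_le.2 haM) (zpowers_le.2 hbM)) ?_
  exact map_le_iff_le_comap.2 (sup_le (zpowers_le.2 hga) (zpowers_le.2 hgb))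

/-- A Sylow subgroup of `C(d)` inside `N(W)` over a given 2-subgroup of `C(d) ⊓ N(W)`. -/
theorem exists_sylow {d : G} (hdM : d ∈ M) (hd : orderOf d = 2) {P : Subgroup G}
    (hP : IsPGroup 2 P) (hPle : P ≤ centralizer ({d} : Set G) ⊓ M) :
    ∃ T : Sylow 2 ↥(centralizer ({d} : Set G)), (∀ x ∈ T, (x : G) ∈ M) ∧
      ∀ (x : G) (hx : x ∈ P), (⟨x, (hPle hx).1⟩ : ↥(centralizer ({d} : Set G))) ∈ T := by
  haveI : Fact (Nat.Prime 2) := ⟨Nat.prime_two⟩
  set C := centralizer ({d} : Set G) with hC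
  set R : Subgroup G := C ⊓ M with hR
  obtain ⟨F, hF, hFe, hF3, -⟩ := h.exists_e8 hdM hd
  obtain ⟨P₁, hP₁⟩ := (hP.comap_of_injective R.subtype R.subtype_injective).exists_le_sylow
  obtain ⟨F₁, hF₁⟩ :=
    ((Signalizer.isPGroup_of_elemAb hFe).comap_of_injective R.subtype
      R.subtype_injective).exists_le_sylow
  obtain ⟨g, hg⟩ := MulAction.exists_smul_eq R F₁ P₁
  set P₂ : Subgroup G := (P₁ : Subgroup R).map R.subtype with hP₂
  have hP₂C : P₂ ≤ C := (map_subtype_le _).trans inf_le_left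
  obtain ⟨T, hT⟩ := ((P₁.isPGroup'.map R.subtype).comap_of_injective C.subtype
    C.subtype_injective).exists_le_sylow
  have hE4 : IsFour F := ⟨hFe, (by norm_num : 2 ^ 2 ≤ 2 ^ 3).trans hF3⟩
  have hTM : (T : Subgroup C).map C.subtype ≤ M := by
    refine h.sylow_le (hE4.conj (g : G)) ?_ (T.isPGroup'.map _) ?_
    · exact (Solvable.conj_mono _ (hF.trans inf_le_right)).trans
        (Solvable.conj_eq_self g.2.2).le
    · rintro _ ⟨x, hx, rfl⟩
      have h1 : (⟨x, hF hx⟩ : R) ∈ F₁ := hF₁ (show (⟨x, hF hx⟩ : R) ∈ F.comap R.subtype from hx)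
      have h2 : g * ⟨x, hF hx⟩ * g⁻¹ ∈ P₁ := by rw [← hg]; exact ⟨_, h1, rfl⟩
      have h3 : (g : G) * x * (g : G)⁻¹ ∈ P₂ := ⟨_, h2, rfl⟩
      exact ⟨⟨_, hP₂C h3⟩, hT (show (⟨_, hP₂C h3⟩ : C) ∈ P₂.comap C.subtype from h3), rfl⟩
  refine ⟨T, fun x hx => hTM ⟨x, hx, rfl⟩, fun x hx => hT (show _ ∈ P₂.comap C.subtype from ?_)⟩
  exact ⟨⟨x, hPle hx⟩, hP₁ (show (⟨x, hPle hx⟩ : R) ∈ P.comap R.subtype from hx), rfl⟩

/-- The centre of a Sylow subgroup of `N(W)` over `T` gives an involution central in `T`. -/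
theorem exists_central {d : G} {T : Sylow 2 ↥(centralizer ({d} : Set G))}
    (hTM : ∀ x ∈ T, (x : G) ∈ M) (hd : orderOf d = 2) {z : G} (hz : orderOf z = 2)
    (hzS : z ∈ S) (hzc : ∀ s ∈ S, Commute s z) :
    ∃ m ∈ M, ∃ hm : m * z * m⁻¹ ∈ centralizer ({d} : Set G),
      (⟨m * z * m⁻¹, hm⟩ : ↥(centralizer ({d} : Set G))) ∈ T ∧
        ∀ x ∈ T, Commute (x : G) (m * z * m⁻¹) := by
  haveI : Fact (Nat.Prime 2) := ⟨Nat.prime_two⟩
  have hdC : d ∈ (cC d) := mem_cent_iff.2 (Commute.refl d)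
  have hdT : (⟨d, hdC⟩ : (cC d)) ∈ T := by
    obtain ⟨g, -, hg⟩ := TwoCore.exists_conj_sylow_mem T (Γ := ⊤) le_top
      (P := zpowers (⟨d, hdC⟩ : (cC d)))
      (IsPGroup.of_card (n := 1) (by rw [Nat.card_zpowers, Subgroup.orderOf_mk, hd, pow_one]))
      le_top
    have h1 := hg _ (mem_zpowers _)
    have h2 : g * ⟨d, hdC⟩ * g⁻¹ = (⟨d, hdC⟩ : (cC d)) := Subtype.ext (by
      show (g : G) * d * (g : G)⁻¹ = d
      rw [(mem_cent_iff.1 g.2).eq, mul_inv_cancel_right])
    rwa [h2] at h1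
  obtain ⟨m, hm, hmS⟩ := h.exists_conj_mem (T.isPGroup'.map (cC d).subtype)
    (by rintro _ ⟨x, hx, rfl⟩; exact hTM x hx)
  have hcomm : ∀ x ∈ T, Commute (x : G) (m⁻¹ * z * m⁻¹⁻¹) := fun x hx => by
    have h1 := (hzc _ (hmS _ ⟨x, hx, rfl⟩)).map (MulAut.conj m⁻¹).toMonoidHom
    simpa [mul_assoc] using h1
  have hzC : m⁻¹ * z * m⁻¹⁻¹ ∈ (cC d) := mem_cent_iff.2 (hcomm _ hdT).symm
  refine ⟨m⁻¹, inv_mem hm, hzC, ?_, hcomm⟩
  set zc : (cC d) := ⟨_, hzC⟩
  have hzc2 : orderOf zc = 2 := by rw [Subgroup.orderOf_mk, Involution.orderOf_conj, hz]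
  have hle := T.is_maximal' (Q := (T : Subgroup (cC d)) ⊔ zpowers zc)
    (T.isPGroup'.to_sup_of_normal_right' (IsPGroup.of_card (n := 1)
      (by rw [Nat.card_zpowers, hzc2, pow_one])) fun x hx => Subgroup.centralizer_le_normalizer _ (mem_centralizer_iff.2 fun w hw => by
        obtain ⟨i, rfl⟩ := mem_zpowers_iff.1 hw
        exact ((show Commute x zc from Subtype.ext (hcomm x hx).eq).zpow_right i).eq.symm))
    le_sup_left
  have : zc ∈ (T : Subgroup (cC d)) ⊔ zpowers zc := mem_sup_right (mem_zpowers zc)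
  rwa [hle] at this

end GenW

/-- A bad involution `d` of `N(W)` and an involution `v ≠ d` central in a Sylow subgroup of
`C(d)` inside `N(W)`. -/
structure CentData (W : Subgroup G) (d : G) (T : Sylow 2 ↥(centralizer ({d} : Set G)))
    (v : ↥(centralizer ({d} : Set G))) : Prop where
  d2 : orderOf d = 2
  dM : d ∈ normalizer (W : Set G)
  bad : ¬ centralizer ({d} : Set G) ≤ normalizer (W : Set G)
  le : ∀ x ∈ T, (x : G) ∈ normalizer (W : Set G)
  v2 : orderOf (v : G) = 2
  vd : (v : G) ≠ d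
  vT : v ∈ T
  cent : ∀ x ∈ T, Commute (x : G) (v : G)

namespace CentData

variable {d : G} {T : Sylow 2 ↥(centralizer ({d} : Set G))} {v : ↥(centralizer ({d} : Set G))}


variable (h : GenW θ S W) (D : CentData W d T v)
include h D

theorem odd_card : Odd (Nat.card (oC d)) :=
  haveI : Fact (Nat.Prime 2) := ⟨Nat.prime_two⟩
  Nat.odd_iff.2 (Nat.two_dvd_ne_zero.1 Cores.not_dvd_card_pPrimeCore)

theorem core_mem {o : (cC d)} (ho : o ∈ (oC d)) : (o : G) ∈ M :=
  h.core_le D.dM D.d2 ⟨o, ho, rfl⟩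

theorem eq_one_of_core {x : (cC d)} (hx : x ∈ (oC d)) (hxT : x ∈ T) : x = 1 := by
  obtain ⟨k, hk⟩ := IsPGroup.iff_orderOf.1 T.isPGroup' ⟨x, hxT⟩
  rw [Subgroup.orderOf_mk] at hk
  exact orderOf_eq_one_iff.1 (Nat.eq_one_of_dvd_coprimes
    ((Nat.coprime_two_left.2 (D.odd_card h)).pow_left k) (dvd_of_eq hk)
    (Subgroup.orderOf_dvd_natCard (oC d) hx))

theorem map_eq_one {x : (cC d)} : (prC d) x = 1 ↔ x ∈ (oC d) := QuotientGroup.eq_one_iff x

theorem mem_map_iff {x : (cC d)} : (prC d) x ∈ ((M : Subgroup G).subgroupOf (cC d)).map (prC d) ↔ (x : G) ∈ M := by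
  refine ⟨?_, fun hx => mem_map_of_mem (prC d) (mem_subgroupOf.2 hx)⟩
  rintro ⟨y, hy, hyx⟩
  have h1 : y⁻¹ * x ∈ (oC d) := (D.map_eq_one h).1 (by rw [map_mul, map_inv, hyx, inv_mul_cancel])
  have h2 := mul_mem (mem_subgroupOf.1 hy) (D.core_mem h h1)
  rwa [Subgroup.coe_mul, Subgroup.coe_inv, mul_inv_cancel_left] at h2

theorem map_orderOf {x : (cC d)} (hx : orderOf (x : G) = 2) : orderOf ((prC d) x) = 2 := by
  rw [Subgroup.orderOf_coe] at hx
  refine orderOf_of_sq (by rw [← map_mul, mul_self hx, map_one]) fun e => ?_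
  exact Nat.not_even_iff_odd.2 (D.odd_card h) (even_iff_two_dvd.2
    (hx ▸ Subgroup.orderOf_dvd_natCard (oC d) ((D.map_eq_one h).1 e)))

theorem eq_of_map {a b : (cC d)} (ha : orderOf (a : G) = 2) (hb : orderOf (b : G) = 2)
    (hab : Commute a b) (he : (prC d) a = (prC d) b) : a = b := by
  rw [Subgroup.orderOf_coe] at ha hb
  have h1 : a * b ∈ (oC d) := (D.map_eq_one h).1 (by rw [map_mul, he, ← map_mul, mul_self hb, map_one])
  have h2 : a * b * (a * b) = 1 := by
    rw [mul_assoc, ← mul_assoc b a b, ← hab.eq, mul_assoc a b b, mul_self hb, mul_one, mul_self ha]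
  by_contra hne
  have h3 : a * b ≠ 1 := fun e => hne (by rw [mul_eq_one_iff_eq_inv] at e; rw [e, inv_eq hb])
  exact Nat.not_even_iff_odd.2 (D.odd_card h) (even_iff_two_dvd.2
    ((orderOf_of_sq h2 h3) ▸ Subgroup.orderOf_dvd_natCard (oC d) h1))

theorem d_comm (c : (cC d)) : Commute (selfC d) c := Subtype.ext (mem_cent_iff.1 c.2).symm.eq

theorem lift_involution {t : (cC d) ⧸ (oC d)} (ht : t ∈ T.mapSurjective (QuotientGroup.mk'_surjective (oC d)))
    (ht2 : orderOf t = 2) : ∃ s : (cC d), s ∈ T ∧ (prC d) s = t ∧ orderOf (s : G) = 2 := by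
  obtain ⟨s, hs, rfl⟩ := (show t ∈ (T : Subgroup (cC d)).map (prC d) from ht)
  refine ⟨s, hs, rfl, ?_⟩
  rw [Subgroup.orderOf_coe]
  refine orderOf_of_sq (D.eq_one_of_core h
    ((D.map_eq_one h).1 (by rw [map_mul, mul_self ht2])) (T.mul_mem hs hs)) fun e => ?_
  rw [e, map_one, orderOf_one] at ht2
  omega

/-- The local configuration in `(cC d)(d) / O((cC d)(d))`. -/
theorem centLoc : CentLoc (T.mapSurjective (QuotientGroup.mk'_surjective (oC d)))
    (((M : Subgroup G).subgroupOf (cC d)).map (prC d)) ((prC d) (selfC d)) ((prC d) v) := by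
  haveI : Fact (Nat.Prime 2) := ⟨Nat.prime_two⟩
  have hdd : orderOf (((selfC d) : (cC d)) : G) = 2 := D.d2
  have hne : (prC d) v ≠ (prC d) (selfC d) := fun e => D.vd (congrArg Subtype.val
    (D.eq_of_map h D.v2 hdd (D.d_comm h v).symm e))
  refine ⟨Cores.pPrimeCore_quotient_self 2, D.map_orderOf h hdd, ?_, ?_, ?_, ?_, D.map_orderOf h D.v2,
    hne, mem_map_of_mem (prC d) D.vT, ?_, ?_⟩
  · refine mem_center_iff.2 fun g => ?_
    obtain ⟨c, rfl⟩ := QuotientGroup.mk'_surjective (oC d) g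
    rw [← map_mul, ← map_mul, (D.d_comm h c).eq]
  · rintro _ ⟨x, hx, rfl⟩
    exact (D.mem_map_iff h).2 (D.le x hx)
  · exact fun e => D.bad fun c hc => (D.mem_map_iff h (x := ⟨c, hc⟩)).1 (e ▸ mem_top _)
  · intro t ht htz htH g hg
    obtain ⟨x, hx, rfl⟩ := htH
    obtain ⟨c, rfl⟩ := QuotientGroup.mk'_surjective (oC d) g
    have hxO : x ∉ (oC d) := fun e => by
      rw [(D.map_eq_one h).2 e, orderOf_one] at ht
      omega
    obtain ⟨hy2, hy⟩ := TwoCore.exists_involution_lift (D.odd_card h)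
      ((D.map_eq_one h).1 (by rw [map_mul, mul_self ht])) hxO
    set y := x ^ Nat.card (oC d) with hy'
    have hπy : (prC d) y = (prC d) x := by
      have h1 : (prC d) (x⁻¹ * y) = 1 := (D.map_eq_one h).2 hy
      rw [map_mul, map_inv, inv_mul_eq_one] at h1
      exact h1.symm
    rw [← Subgroup.orderOf_coe] at hy2
    rw [D.mem_map_iff h]
    refine h.pair_mem D.d2 hy2 (fun e => htz ?_) (mem_cent_iff.1 y.2).symm D.dM
      ((D.mem_map_iff h).1 (hπy ▸ mem_map_of_mem (prC d) hx)) ?_ ?_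
    · rw [← hπy, show y = (selfC d) from Subtype.ext e]
    · rw [(mem_cent_iff.1 c.2).eq, mul_inv_cancel_right]; exact D.dM
    · have h1 : (prC d) (c * y * c⁻¹) ∈ ((M : Subgroup G).subgroupOf (cC d)).map (prC d) := by
        rw [map_mul, map_mul, map_inv, hπy]; exact hg
      simpa using (D.mem_map_iff h).1 h1
  · rintro _ ⟨x, hx, rfl⟩
    exact Commute.map (Subtype.ext (D.cent x hx).eq : x * v = v * x) (prC d)
  · -- elementary subgroups of order eight
    intro t ht ht2
    obtain ⟨s, hs, rfl, hs2⟩ := D.lift_involution h ht ht2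
    obtain ⟨F, hFle, hFe, hF3, -⟩ := h.exists_e8 D.dM D.d2
    obtain ⟨T', hT'M, hT'F⟩ :=
      h.exists_sylow D.dM D.d2 (Signalizer.isPGroup_of_elemAb hFe) hFle
    obtain ⟨g, hg⟩ := MulAction.exists_smul_eq (cC d) T' T
    let fF : F →* (cC d) ⧸ (oC d) :=
      ((prC d).comp (MulAut.conj g).toMonoidHom).comp (Subgroup.inclusion (hFle.trans inf_le_left))
    have hfFT : fF.range ≤ (T : Subgroup (cC d)).map (prC d) := by
      rintro _ ⟨a, rfl⟩
      refine mem_map_of_mem (prC d) ?_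
      rw [← hg]
      exact ⟨_, hT'F a a.2, rfl⟩
    have hfinj : Function.Injective fF := (injective_iff_map_eq_one fF).2 fun a ha => by
      have h1 : (MulAut.conj g) (Subgroup.inclusion (hFle.trans inf_le_left) a) = 1 := by
        refine D.eq_one_of_core h ((D.map_eq_one h).1 ha) ?_
        rw [← hg]
        exact ⟨_, hT'F a a.2, rfl⟩
      rw [EmbeddingLike.map_eq_one_iff] at h1
      exact Subgroup.inclusion_injective _ (h1.trans (map_one _).symm)
    have hFimg : Cfsg.IsElementaryAbelian 2 fF.range := by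
      refine ⟨⟨⟨?_⟩⟩, ?_⟩
      · rintro ⟨_, a, rfl⟩ ⟨_, b, rfl⟩
        refine Subtype.ext ((map_mul fF a b).symm.trans ?_)
        rw [show a * b = b * a from
          Subtype.ext (Signalizer.commute_of_isMulCommutative hFe.1 a.2 b.2)]
        exact map_mul fF b a
      · rintro _ ⟨a, rfl⟩
        rw [← map_pow, show a ^ 2 = 1 from Subtype.ext (hFe.2 _ a.2), map_one]
    have hcard : 2 ^ 3 ≤ Nat.card fF.range := by
      rwa [← Nat.card_congr (MonoidHom.ofInjective hfinj).toEquiv]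
    have hz : ∀ x ∈ (T : Subgroup (cC d)).map (prC d), Commute ((prC d) (selfC d)) x ∧ Commute ((prC d) v) x := by
      rintro _ ⟨x, hx, rfl⟩
      exact ⟨(D.d_comm h x).map (prC d),
        (Commute.map (Subtype.ext (D.cent x hx).eq : x * v = v * x) (prC d)).symm⟩
    have hdT : (prC d) (selfC d) ∈ (T : Subgroup (cC d)).map (prC d) := by
      obtain ⟨g', -, hg'⟩ := TwoCore.exists_conj_sylow_mem T (Γ := ⊤) le_top (P := zpowers (selfC d))
        (IsPGroup.of_card (n := 1) (by rw [Nat.card_zpowers, Subgroup.orderOf_mk, D.d2, pow_one]))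
        le_top
      refine mem_map_of_mem (prC d) ?_
      have h1 := hg' _ (mem_zpowers _)
      rwa [← (D.d_comm h g').eq, mul_inv_cancel_right] at h1
    have hZ : ∀ {x : (cC d) ⧸ (oC d)}, orderOf x = 2 → Cfsg.IsElementaryAbelian 2 (zpowers x) :=
      fun {x} hx => ⟨inferInstance, fun y hy => by
        obtain ⟨i, rfl⟩ := hy
        rw [← zpow_natCast, ← zpow_mul, mul_comm, zpow_mul, zpow_natCast,
          (orderOf_dvd_iff_pow_eq_one.1 (dvd_of_eq hx) : x ^ 2 = 1), one_zpow]⟩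
    by_cases hmem : (prC d) s ∈ zpowers ((prC d) (selfC d)) ⊔ zpowers ((prC d) v)
    · refine ⟨fF.range ⊔ (zpowers ((prC d) (selfC d)) ⊔ zpowers ((prC d) v)), ?_, ?_,
        hcard.trans (card_le_of_le le_sup_left), mem_sup_right hmem⟩
      · exact sup_le hfFT (sup_le (zpowers_le.2 hdT) (zpowers_le.2 (mem_map_of_mem (prC d) D.vT)))
      · refine Signalizer.elemAb_sup hFimg
          (TwoCore.elemAb_pair (D.map_orderOf h hdd) (D.map_orderOf h D.v2)
            ((D.d_comm h v).map (prC d))) ?_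
        intro x hx y hy
        have hx' := hz x (hfFT hx)
        have : zpowers ((prC d) (selfC d)) ⊔ zpowers ((prC d) v) ≤ centralizer ({x} : Set ((cC d) ⧸ (oC d))) :=
          sup_le (zpowers_le.2 (mem_centralizer_singleton_iff.2 hx'.1.eq))
            (zpowers_le.2 (mem_centralizer_singleton_iff.2 hx'.2.eq))
        exact (mem_centralizer_singleton_iff.1 (this hy)).symm
    · have hE := TwoCore.elemAb_pair (D.map_orderOf h hdd) (D.map_orderOf h D.v2)
        ((D.d_comm h v).map (prC d))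
      have hsc := hz ((prC d) s) (mem_map_of_mem (prC d) hs)
      have hF : Cfsg.IsElementaryAbelian 2
          (zpowers ((prC d) (selfC d)) ⊔ zpowers ((prC d) v) ⊔ zpowers ((prC d) s)) := by
        refine Signalizer.elemAb_sup hE (hZ ht2) ?_
        intro x hx y hy
        obtain ⟨i, rfl⟩ := mem_zpowers_iff.1 hy
        have : zpowers ((prC d) (selfC d)) ⊔ zpowers ((prC d) v) ≤ centralizer ({(prC d) s} : Set ((cC d) ⧸ (oC d))) :=
          sup_le (zpowers_le.2 (mem_centralizer_singleton_iff.2 hsc.1.eq))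
            (zpowers_le.2 (mem_centralizer_singleton_iff.2 hsc.2.eq))
        exact ((show Commute x ((prC d) s) from mem_centralizer_singleton_iff.1 (this hx)).zpow_right i).eq
      refine ⟨_, sup_le (sup_le (zpowers_le.2 hdT) (zpowers_le.2 (mem_map_of_mem (prC d) D.vT)))
        (zpowers_le.2 (mem_map_of_mem (prC d) hs)), hF, ?_, mem_sup_right (mem_zpowers _)⟩
      rw [Signalizer.card_sup_zpowers hF le_sup_left (mem_sup_right (mem_zpowers _)) hmem]
      have h4 := (TwoCore.isFour_pair (D.map_orderOf h hdd) (D.map_orderOf h D.v2) hne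
        ((D.d_comm h v).map (prC d))).2
      omega

/-- The involutions of `T` commute. -/
theorem commute {e f : (cC d)} (he : e ∈ T) (hf : f ∈ T) (he2 : orderOf (e : G) = 2)
    (hf2 : orderOf (f : G) = 2) : Commute (e : G) (f : G) := by
  have h1 := (D.centLoc h).commute (mem_map_of_mem (prC d) he) (mem_map_of_mem (prC d) hf)
    (D.map_orderOf h he2) (D.map_orderOf h hf2)
  have h2 : e * f * e⁻¹ * f⁻¹ = 1 := D.eq_one_of_core h
    ((D.map_eq_one h).1 (by
      rw [map_mul, map_mul, map_mul, map_inv, map_inv, h1.eq, mul_inv_cancel_right,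
        mul_inv_cancel]))
    (T.mul_mem (T.mul_mem (T.mul_mem he hf) (T.inv_mem he)) (T.inv_mem hf))
  rw [mul_inv_eq_one, mul_inv_eq_iff_eq_mul] at h2
  exact congrArg Subtype.val h2

/-- An involution of `T` other than `d` is conjugate in `(cC d)(d) ⊓ N(W)` to `v` or to `v * d`. -/
theorem exists_conj {e : (cC d)} (he : e ∈ T) (he2 : orderOf (e : G) = 2) (hed : (e : G) ≠ d) :
    ∃ c ∈ (cC d) ⊓ M, (e : G) = c * (v : G) * c⁻¹ ∨ (e : G) = c * ((v : G) * d) * c⁻¹ := by
  have hne : (prC d) e ≠ (prC d) (selfC d) := fun e' => hed (congrArg Subtype.val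
    (D.eq_of_map h he2 D.d2 (D.d_comm h e).symm e'))
  obtain ⟨k, hk, hke⟩ := (D.centLoc h).exists_conj
    ⟨D.map_orderOf h he2, hne, (D.centLoc h).le (mem_map_of_mem (prC d) he)⟩
  obtain ⟨c, rfl⟩ := QuotientGroup.mk'_surjective (oC d) k
  have hcM := (D.mem_map_iff h).1 hk
  have hvd2 : orderOf ((v * (selfC d) : (cC d)) : G) = 2 := by
    have hc : Commute (v : G) d := mem_cent_iff.1 v.2
    refine orderOf_of_sq ?_ fun e' => D.vd ?_
    · show (v : G) * d * ((v : G) * d) = 1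
      rw [mul_assoc, ← mul_assoc d, ← hc.eq, mul_assoc (v : G) d d, mul_self D.d2, mul_one,
        mul_self D.v2]
    · rw [show ((v * (selfC d) : (cC d)) : G) = (v : G) * d from rfl, mul_eq_one_iff_eq_inv,
        inv_eq D.d2] at e'
      exact e'
  have key : ∀ w : (cC d), orderOf (w : G) = 2 → (w : G) ∈ M → (prC d) e = (prC d) (c * w * c⁻¹) →
      ∃ c' ∈ (cC d) ⊓ M, (e : G) = c' * (w : G) * c'⁻¹ := by
    intro w hw2 hwM hπ'
    set w' := c * w * c⁻¹ with hw'
    have hw'2 : orderOf w' = 2 := by rw [hw', orderOf_conj, ← Subgroup.orderOf_coe]; exact hw2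
    have hew : w' * e ∈ (oC d) := (D.map_eq_one h).1 (by
      rw [map_mul, hπ', ← map_mul, mul_self hw'2, map_one])
    have hodd : Odd (orderOf (w' * e)) :=
      Odd.of_dvd_nat (D.odd_card h) (Subgroup.orderOf_dvd_natCard (oC d) hew)
    rw [Subgroup.orderOf_coe] at he2
    obtain ⟨b, hb, hbe⟩ := Involution.exists_conj_of_odd hw'2 he2 hodd
    have hbM : b ∈ ((M : Subgroup G).subgroupOf (cC d)) := by
      refine (closure_le _).2 ?_ hb
      intro x hx
      rcases hx with hx | hx <;> rw [hx]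
      · exact mem_subgroupOf.2 (mul_mem (mul_mem hcM hwM) (inv_mem hcM))
      · exact mem_subgroupOf.2 (D.le e he)
    refine ⟨((b * c : cC d) : G), ⟨SetLike.coe_mem _, mul_mem (mem_subgroupOf.1 hbM) hcM⟩, ?_⟩
    rw [← hbe, hw']
    simp only [Subgroup.coe_mul, Subgroup.coe_inv]
    group
  rcases hke with h' | h'
  · obtain ⟨c', hc', he'⟩ := key v D.v2 (D.le v D.vT) (by rw [h', map_mul, map_mul, map_inv])
    exact ⟨c', hc', Or.inl he'⟩
  · obtain ⟨c', hc', he'⟩ := key (v * (selfC d)) hvd2 (mul_mem (D.le v D.vT) D.dM) (by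
      rw [h', map_mul, map_mul, map_inv, map_mul, mul_assoc _ _ ((prC d) (selfC d)),
        ← (((D.d_comm h c).map (prC d)).inv_right).eq]
      group)
    exact ⟨c', hc', Or.inr he'⟩

/-- Balance at `d`. -/
theorem le_core {a : G} (ha : a ∈ M) (ha2 : orderOf a = 2) (had : a ≠ d) (hc : Commute a d)
    {X : Subgroup G} (hX : X ≤ (cC d) ⊓ M) (hodd : ¬ 2 ∣ Nat.card X)
    (hn : (cC d) ⊓ centralizer ({a} : Set G) ⊓ M ≤ normalizer (X : Set G)) :
    X ≤ Cfsg.centralizerPPrimeCore 2 d := by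
  haveI : Fact (Nat.Prime 2) := ⟨Nat.prime_two⟩
  have hXC : X ≤ (cC d) := hX.trans inf_le_left
  set aC : (cC d) := ⟨a, mem_cent_iff.2 hc⟩ with haC
  have haC2 : orderOf (aC : G) = 2 := ha2
  have hne : (prC d) aC ≠ (prC d) (selfC d) := fun e' => had (congrArg Subtype.val
    (D.eq_of_map h haC2 D.d2 (D.d_comm h aC).symm e'))
  have L := D.centLoc h
  have hbot := L.toLoc.odd_eq_bot_of_flat L.flat
    (d := (prC d) aC) ⟨D.map_orderOf h haC2, hne, (D.mem_map_iff h).2 ha⟩
    (X := (X.subgroupOf (cC d)).map (prC d))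
    (by rintro _ ⟨x, hx, rfl⟩; exact (D.mem_map_iff h).2 (hX hx).2)
    (fun hd2 => hodd (by
      have h1 := hd2.trans ((X.subgroupOf (cC d)).card_map_dvd (prC d))
      rwa [Cores.card_subgroupOf hXC] at h1))
    (by
      intro t ht hta
      obtain ⟨c, hcM, rfl⟩ := ht
      obtain ⟨n, hn', hnc⟩ := Signalizer.exists_fixed_in_coset (p := 2) (A := zpowers aC) (N := (oC d))
        (Signalizer.isPGroup_zpowers_of_pow_eq_one (by
          rw [sq]; exact Subtype.ext (mul_self ha2))) (by rw [normalizer_eq_top]; exact le_top)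
        (Nat.two_dvd_ne_zero.2 (Nat.odd_iff.1 (D.odd_card h))) c (by
          intro b hb
          refine (D.map_eq_one h).1 ?_
          rw [map_mul, map_mul, map_mul, map_inv, map_inv]
          obtain ⟨i, rfl⟩ := mem_zpowers_iff.1 hb
          rw [map_zpow, ((hta.zpow_right i).symm).eq]
          group)
      rintro _ ⟨x, hx, rfl⟩
      refine ⟨n * c * x * (n * c)⁻¹, mem_subgroupOf.2 ?_, ?_⟩
      · have hnc' : Commute (((n * c : (cC d)) : G)) a := congrArg Subtype.val
          (((mem_centralizer_iff.1 hnc) aC (mem_zpowers aC)).symm : n * c * aC = aC * (n * c))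
        have hmem := hn ⟨⟨(n * c : (cC d)).2, mem_cent_iff.2 hnc'⟩,
          mul_mem (D.core_mem h hn') (mem_subgroupOf.1 hcM)⟩
        simp only [Subgroup.coe_mul, Subgroup.coe_inv]
        exact (mem_normalizer_iff.1 hmem _).1 hx
      · rw [map_mul, map_mul, map_inv, map_mul, (D.map_eq_one h).2 hn', one_mul])
  intro x hx
  exact ⟨⟨x, hXC hx⟩, (D.map_eq_one h).1 ((mem_bot (G := (cC d) ⧸ (oC d))).1
    (hbot ▸ mem_map_of_mem (prC d) (show (⟨x, hXC hx⟩ : (cC d)) ∈ X.subgroupOf (cC d) from hx))), rfl⟩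

end CentData

end Cfsg.Agent.CoreKilling
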