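import Cfsg.Agent.Lib.CoreKilling.Basic
import Cfsg.Agent.Lib.PGroup.Basic

/-!
# Core killing for a general equivariant functor (notes/core_killing_general.md, part I)

* `GenBase θ S W`, `GenW` (weak), `Gen θ S W` : `θ` equivariant, `W` odd, normalised by `S`, with `W ⊓ C(x) = θ x` on `S`,
  every involution of `S` in an elementary subgroup of order 8
* `Induct S W` : `W ⊓ K ≤ O(K)` for the proper subgroups `K` containing `S`
* `Second S M d` : the alternative for an involution `d` of `S` not conjugate to `z`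
* `FirstPart S W z v` : what part I delivers
* `Gen.fusion`, `Gen.theta_eq`, `Gen.sylow_le`, `Gen.odd_le` : basic facts on `N(W)`
-/

set_option autoImplicit false
set_option linter.unusedSectionVars false
set_option linter.style.haveILetI false

namespace Cfsg.Agent.CoreKilling

open Subgroup
open scoped Pointwise

universe u

variable {G : Type u} [Group G]

/-- An equivariant functor with a completion `W` on `S`. -/
structure GenBase (θ : G → Subgroup G) (S : Sylow 2 G) (W : Subgroup G) : Prop where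
  eqv : ∀ g a : G, θ (g * a * g⁻¹) = (θ a).map (MulAut.conj g).toMonoidHom
  le : ∀ a : G, orderOf a = 2 → θ a ≤ centralizer ({a} : Set G)
  odd : ∀ a : G, orderOf a = 2 → ¬ 2 ∣ Nat.card (θ a)
  oddW : ¬ 2 ∣ Nat.card W
  norm : (S : Subgroup G) ≤ normalizer (W : Set G)
  fix : ∀ x ∈ S, orderOf x = 2 → W ⊓ centralizer ({x} : Set G) = θ x

/-- A completion with weakened `E₈` hypothesis: an elementary group of order 8 in `S`, and one in
`N(W)` through any involution of `S` and any central one. -/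
structure GenW (θ : G → Subgroup G) (S : Sylow 2 G) (W : Subgroup G) : Prop
    extends GenBase θ S W where
  rank : ∀ z ∈ S, orderOf z = 2 → ∃ F : Subgroup G,
    F ≤ (S : Subgroup G) ∧ Cfsg.IsElementaryAbelian 2 F ∧ 2 ^ 3 ≤ Nat.card F
  e8w : ∀ x ∈ S, orderOf x = 2 → ∀ z ∈ S, orderOf z = 2 → (∀ s ∈ S, Commute s z) →
    ∃ F : Subgroup G, F ≤ normalizer (W : Set G) ∧ Cfsg.IsElementaryAbelian 2 F ∧
      2 ^ 3 ≤ Nat.card F ∧ x ∈ F ∧ z ∈ F

/-- A completion with an `E₈` of `S` through every involution of `S`. -/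
structure Gen (θ : G → Subgroup G) (S : Sylow 2 G) (W : Subgroup G) : Prop
    extends GenW θ S W where
  e8 : ∀ x ∈ S, orderOf x = 2 → ∃ F : Subgroup G,
    F ≤ (S : Subgroup G) ∧ Cfsg.IsElementaryAbelian 2 F ∧ 2 ^ 3 ≤ Nat.card F ∧ x ∈ F

/-- The induction hypothesis of core killing, for the proper subgroups containing the centraliser
of an involution central in `S`. -/
def Induct (S : Sylow 2 G) (W : Subgroup G) : Prop :=
  ∀ K : Subgroup G, (S : Subgroup G) ≤ K → (∃ z ∈ S, orderOf z = 2 ∧ (∀ s ∈ S, Commute s z) ∧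
    centralizer ({z} : Set G) ≤ K) → K ≠ ⊤ → W ⊓ K ≤ (Cfsg.oddCore K).map K.subtype

/-- An involution `d` whose centraliser has commuting involutions in `S` and balance against the
involutions of `M`. -/
def Second (S : Sylow 2 G) (M : Subgroup G) (d : G) : Prop :=
  (∀ e ∈ S, ∀ f ∈ S, orderOf e = 2 → orderOf f = 2 → Commute d e → Commute d f → Commute e f) ∧
    ∀ a ∈ M, orderOf a = 2 → a ≠ d → Commute a d → ∀ X : Subgroup G,
      X ≤ centralizer ({d} : Set G) ⊓ M → ¬ 2 ∣ Nat.card X →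
      centralizer ({d} : Set G) ⊓ centralizer ({a} : Set G) ⊓ M ≤ normalizer (X : Set G) →
      X ≤ Cfsg.centralizerPPrimeCore 2 d

/-- The result of part I. -/
structure FirstPart (S : Sylow 2 G) (W : Subgroup G) (z v : G) : Prop where
  z_mem : z ∈ S
  z2 : orderOf z = 2
  z_comm : ∀ s ∈ S, Commute s z
  bad : ¬ centralizer ({z} : Set G) ≤ normalizer (W : Set G)
  v_mem : v ∈ S
  v2 : orderOf v = 2
  vz : v ≠ z
  mark : ∀ s ∈ S, s * v * s⁻¹ * v⁻¹ = 1 ∨ s * v * s⁻¹ * v⁻¹ = z
  dich : ∀ d ∈ S, orderOf d = 2 →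
    (∃ g : G, g * z * g⁻¹ = d) ∨ Second S (normalizer (W : Set G)) d
  cover : ∃ Y : Subgroup G, ¬ 2 ∣ Nat.card Y ∧ Y ≤ normalizer (W : Set G) ∧
    centralizer ({z} : Set G) ≤ normalizer (Y : Set G) ∧ W ≤ Y

variable [Finite G] {θ : G → Subgroup G} {S : Sylow 2 G} {W : Subgroup G}

namespace GenBase

variable (h : GenBase θ S W)
include h

omit [Finite G] in
theorem conj_theta (g a : G) : θ (g * a * g⁻¹) = MulAut.conj g • θ a :=
  (h.eqv g a).trans (Solvable.conj_eq_map g (θ a)).symm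

/-- `θ a` is normal in the centraliser of `a`. -/
theorem centralizer_le_normalizer (a : G) :
    centralizer ({a} : Set G) ≤ normalizer (θ a : Set G) := fun g hg => by
  refine Solvable.mem_normalizer_iff_conj.2 ?_
  rw [← h.conj_theta, mem_centralizer_singleton_iff.1 hg, mul_inv_cancel_right]

theorem theta_le {x : G} (hx : x ∈ S) (hx2 : orderOf x = 2) : θ x ≤ W :=
  (h.fix x hx hx2).ge.trans inf_le_left

theorem le_of_theta {E : Subgroup G} (hE : IsFour E) (hES : E ≤ (S : Subgroup G)) {K : Subgroup G}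
    (hK : ∀ e ∈ E, e ≠ 1 → θ e ≤ K) : W ≤ K :=
  haveI : Fact (Nat.Prime 2) := ⟨Nat.prime_two⟩
  Signalizer.le_of_elements hE.1 hE.2 K W h.oddW (hES.trans h.norm) fun e he he1 =>
    (h.fix e (hES he) (orderOf_of_mem hE.1 he he1)).le.trans (hK e he he1)

theorem mem_normalizer_of_four {E : Subgroup G} (hE : IsFour E) (hES : E ≤ (S : Subgroup G))
    {g : G} (hg : MulAut.conj g • E ≤ (S : Subgroup G)) : g ∈ normalizer (W : Set G) := by
  have hle : W ≤ W.comap (MulAut.conj g).toMonoidHom := h.le_of_theta hE hES fun e he he1 => by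
    rw [← map_le_iff_le_comap, ← h.eqv]
    exact h.theta_le (hg ⟨e, he, rfl⟩)
      (by rw [Involution.orderOf_conj]; exact orderOf_of_mem hE.1 he he1)
  have h1 : MulAut.conj g • W ≤ W := by
    rintro _ ⟨w, hw, rfl⟩
    exact hle hw
  exact Solvable.mem_normalizer_iff_conj.2
    (eq_of_le_of_card_ge h1 (Solvable.card_conj g W).ge)

/-- A 2-subgroup of `N(W)` is conjugate into `S` inside `N(W)`. -/
theorem exists_conj_mem {P : Subgroup G} (hP : IsPGroup 2 P)
    (hPM : P ≤ normalizer (W : Set G)) :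
    ∃ m ∈ normalizer (W : Set G), ∀ x ∈ P, m * x * m⁻¹ ∈ S := by
  haveI : Fact (Nat.Prime 2) := ⟨Nat.prime_two⟩
  set M := normalizer (W : Set G)
  obtain ⟨Q, hQ⟩ := (hP.comap_of_injective M.subtype M.subtype_injective).exists_le_sylow
  obtain ⟨g, hg⟩ := MulAction.exists_smul_eq M Q (S.subtype h.norm)
  refine ⟨g, g.2, fun x hx => ?_⟩
  have h1 : (⟨x, hPM hx⟩ : M) ∈ Q := hQ (show (⟨x, hPM hx⟩ : M) ∈ P.comap M.subtype from hx)
  have h2 : g * ⟨x, hPM hx⟩ * g⁻¹ ∈ (S.subtype h.norm : Sylow 2 M) := by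
    rw [← hg]
    exact ⟨⟨x, hPM hx⟩, h1, rfl⟩
  exact h2

theorem exists_conj_involution {x : G} (hx : x ∈ normalizer (W : Set G)) (hx2 : orderOf x = 2) :
    ∃ m ∈ normalizer (W : Set G), m * x * m⁻¹ ∈ S := by
  obtain ⟨m, hm, hmS⟩ := h.exists_conj_mem (P := zpowers x)
    (IsPGroup.of_card (n := 1) (by rw [Nat.card_zpowers, hx2, pow_one])) (zpowers_le.2 hx)
  exact ⟨m, hm, hmS x (mem_zpowers x)⟩

/-- `N(W)` contains every `g` moving one of its four-groups into itself. -/
theorem fusion {E : Subgroup G} (hE : IsFour E) (hEM : E ≤ normalizer (W : Set G)) {g : G}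
    (hg : MulAut.conj g • E ≤ normalizer (W : Set G)) : g ∈ normalizer (W : Set G) := by
  obtain ⟨a, ha, haS⟩ := h.exists_conj_mem hE.isPGroup hEM
  obtain ⟨b, hb, hbS⟩ := h.exists_conj_mem (hE.conj g).isPGroup hg
  have h1 : MulAut.conj (b * g * a⁻¹) • MulAut.conj a • E ≤ (S : Subgroup G) := by
    rw [Solvable.conj_conj, inv_mul_cancel_right, ← Solvable.conj_conj]
    rintro _ ⟨x, hx, rfl⟩
    exact hbS x hx
  have h2 : MulAut.conj a • E ≤ (S : Subgroup G) := by
    rintro _ ⟨x, hx, rfl⟩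
    exact haS x hx
  have := mul_mem (mul_mem (inv_mem hb) (h.mem_normalizer_of_four (hE.conj a) h2 h1)) ha
  rwa [mul_assoc b, inv_mul_cancel_left, inv_mul_cancel_right] at this

/-- `W` meets the centraliser of every involution of `N(W)` in the value of the functor. -/
theorem theta_eq {x : G} (hx : x ∈ normalizer (W : Set G)) (hx2 : orderOf x = 2) :
    W ⊓ centralizer ({x} : Set G) = θ x := by
  obtain ⟨m, hm, hmS⟩ := h.exists_conj_involution hx hx2
  have h1 := h.fix _ hmS (by rw [Involution.orderOf_conj]; exact hx2)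
  rw [h.conj_theta] at h1
  ext w
  have h2 := SetLike.ext_iff.1 h1 (m * w * m⁻¹)
  rw [Solvable.mem_conj_iff, show m⁻¹ * (m * w * m⁻¹) * m = w by group, mem_inf,
    mem_centralizer_singleton_iff] at h2
  rw [← h2, mem_inf, mem_centralizer_singleton_iff, ← (mem_normalizer_iff.1 hm w)]
  refine and_congr Iff.rfl ⟨fun e => ?_, fun e => ?_⟩
  · rw [show m * w * m⁻¹ * (m * x * m⁻¹) = m * (w * x) * m⁻¹ by group, e]; group
  · have h3 : m * (w * x) * m⁻¹ = m * (x * w) * m⁻¹ := by
      rw [show m * (w * x) * m⁻¹ = m * w * m⁻¹ * (m * x * m⁻¹) by group, e]; group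
    exact mul_left_cancel (mul_right_cancel h3)

/-- A 2-subgroup meeting `N(W)` in a four-group lies in it. -/
theorem sylow_le {E : Subgroup G} (hE : IsFour E) (hEM : E ≤ normalizer (W : Set G))
    {T : Subgroup G} (hT : IsPGroup 2 T) (hET : E ≤ T) : T ≤ normalizer (W : Set G) := by
  obtain ⟨P, hP⟩ := hT.exists_le_sylow
  obtain ⟨g, hg⟩ := MulAction.exists_smul_eq G P S
  have hTS : MulAut.conj g • T ≤ (S : Subgroup G) :=
    (Solvable.conj_mono g hP).trans (le_of_eq (congrArg Sylow.toSubgroup hg))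
  have hgM := h.fusion hE hEM (((Solvable.conj_mono g hET).trans hTS).trans h.norm)
  have h1 := Solvable.conj_mono g⁻¹ (hTS.trans h.norm)
  rwa [Solvable.conj_inv_smul, Solvable.conj_eq_self (inv_mem hgM)] at h1

/-- An odd subgroup normalised by an elementary group of order 8 of `N(W)` lies in it. -/
theorem odd_le {F : Subgroup G} (hF : Cfsg.IsElementaryAbelian 2 F) (hF3 : 2 ^ 3 ≤ Nat.card F)
    (hFM : F ≤ normalizer (W : Set G)) {U : Subgroup G} (hU : ¬ 2 ∣ Nat.card U)
    (hFU : F ≤ normalizer (U : Set G)) : U ≤ normalizer (W : Set G) := by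
  haveI : Fact (Nat.Prime 2) := ⟨Nat.prime_two⟩
  refine Signalizer.le_of_elements hF ((by norm_num : 2 ^ 2 ≤ 2 ^ 3).trans hF3) _ U hU hFU
    fun e he he1 => ?_
  obtain ⟨E, hEF, heE, hsup⟩ := Signalizer.exists_complement_zpowers hF he he1
  have hE4 : 2 ^ 2 ≤ Nat.card E := by
    have := Signalizer.card_sup_zpowers hF hEF he heE
    rw [hsup] at this
    omega
  set D := U ⊓ centralizer ({e} : Set G) with hD
  have hED : E ≤ normalizer (D : Set G) := by
    intro x hx
    refine Solvable.mem_normalizer_iff_conj.2 (eq_of_le_of_card_ge ?_ (Solvable.card_conj x D).ge)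
    rintro _ ⟨y, ⟨hy1, hy2⟩, rfl⟩
    refine ⟨(mem_normalizer_iff.1 (hFU (hEF hx)) y).1 hy1, mem_centralizer_singleton_iff.2 ?_⟩
    have hxe : Commute x e := Signalizer.commute_of_isMulCommutative hF.1 (hEF hx) he
    have hye : Commute y e := mem_centralizer_singleton_iff.1 hy2
    exact ((hxe.mul_left hye).mul_left hxe.inv_left).eq
  refine Signalizer.le_of_elements (Signalizer.elemAb_of_le hF hEF) hE4 _ D
    (fun hdvd => hU (hdvd.trans (card_dvd_of_le inf_le_left))) hED fun e' he' he'1 => ?_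
  rintro y ⟨⟨-, hy⟩, hy'⟩
  -- `y` centralises the four-group `⟨e, e'⟩`
  have hne : e' ∉ zpowers e := fun hin => by
      obtain ⟨i, hi⟩ := mem_zpowers_iff.1 hin
      rw [← zpow_mod_orderOf, orderOf_of_mem hF he he1, Nat.cast_ofNat] at hi
      rcases Int.emod_two_eq_zero_or_one i with hi2 | hi2 <;> rw [hi2] at hi
      · exact he'1 (by rw [← hi, zpow_zero])
      · exact heE (by rwa [← hi, zpow_one] at he')
  have hle : zpowers e ⊔ zpowers e' ≤ F := sup_le (zpowers_le.2 he) (zpowers_le.2 (hEF he'))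
  have h4 : IsFour (zpowers e ⊔ zpowers e') := by
    refine ⟨Signalizer.elemAb_of_le hF hle, ?_⟩
    rw [Signalizer.card_sup_zpowers hF (zpowers_le.2 he) (hEF he') hne, Nat.card_zpowers,
      orderOf_of_mem hF he he1]
    norm_num
  refine h.fusion h4 (hle.trans hFM) ?_
  have hcent : zpowers e ⊔ zpowers e' ≤ centralizer ({y} : Set G) :=
    sup_le (zpowers_le.2 (mem_centralizer_singleton_iff.2 (mem_centralizer_singleton_iff.1 hy).symm))
      (zpowers_le.2 (mem_centralizer_singleton_iff.2 (mem_centralizer_singleton_iff.1 hy').symm))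
  rintro _ ⟨x, hx, rfl⟩
  show y * x * y⁻¹ ∈ normalizer (W : Set G)
  rw [show y * x = x * y from (mem_centralizer_singleton_iff.1 (hcent hx)).symm,
    mul_inv_cancel_right]
  exact hFM (hle hx)

theorem ne_top (hO : Cfsg.oddCore G = ⊥) (hW : W ≠ ⊥) : normalizer (W : Set G) ≠ ⊤ := fun e =>
  hW (eq_bot_iff.2 (hO ▸ Cores.le_pPrimeCore (normalizer_eq_top_iff.1 e)
    ((Nat.prime_two.coprime_iff_not_dvd).2 h.oddW).symm))

end GenBase

/-- An `E₈` with a central involution of `S`. -/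
theorem exists_sup_central {z : G} (hzS : z ∈ S) (hz : orderOf z = 2) (hzc : ∀ s ∈ S, Commute s z)
    {F : Subgroup G} (hFS : F ≤ (S : Subgroup G)) (hF : Cfsg.IsElementaryAbelian 2 F) :
    F ⊔ zpowers z ≤ (S : Subgroup G) ∧ Cfsg.IsElementaryAbelian 2 (F ⊔ zpowers z : Subgroup G) := by
  refine ⟨sup_le hFS (zpowers_le.2 hzS), Signalizer.elemAb_sup hF ⟨inferInstance, fun a ha => ?_⟩
    fun a ha b hb => ?_⟩
  · obtain ⟨i, rfl⟩ := ha
    rw [← zpow_natCast, ← zpow_mul, mul_comm, zpow_mul, zpow_natCast,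
      show z ^ 2 = 1 from hz ▸ pow_orderOf_eq_one z, one_zpow]
  · obtain ⟨i, rfl⟩ := mem_zpowers_iff.1 hb
    exact ((hzc a (hFS ha)).zpow_right i).eq

/-- A completion from an `E₈` of `S` through every involution. -/
theorem Gen.of (b : GenBase θ S W) (he8 : ∀ x ∈ S, orderOf x = 2 → ∃ F : Subgroup G,
      F ≤ (S : Subgroup G) ∧ Cfsg.IsElementaryAbelian 2 F ∧ 2 ^ 3 ≤ Nat.card F ∧ x ∈ F) :
    Gen θ S W := by
  refine ⟨⟨b, fun z hzS hz => ?_, fun x hx hx2 z hzS hz hzc => ?_⟩, he8⟩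
  · obtain ⟨F, h1, h2, h3, -⟩ := he8 z hzS hz
    exact ⟨F, h1, h2, h3⟩
  · obtain ⟨F, hFS, hF, hF3, hxF⟩ := he8 x hx hx2
    obtain ⟨h1, h2⟩ := exists_sup_central hzS hz hzc hFS hF
    exact ⟨_, h1.trans b.norm, h2, hF3.trans (card_le_of_le le_sup_left),
      le_sup_left (b := zpowers z) hxF, le_sup_right (a := F) (mem_zpowers z)⟩

namespace GenW

variable (h : GenW θ S W)
include h

/-- The centraliser of an involution of `N(W)` meets `N(W)` in a group with an
elementary subgroup of order 8 through it. -/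
theorem exists_e8 {x : G} (hx : x ∈ normalizer (W : Set G)) (hx2 : orderOf x = 2) :
    ∃ F : Subgroup G, F ≤ centralizer ({x} : Set G) ⊓ normalizer (W : Set G) ∧
      Cfsg.IsElementaryAbelian 2 F ∧ 2 ^ 3 ≤ Nat.card F ∧ x ∈ F := by
  haveI : Fact (Nat.Prime 2) := ⟨Nat.prime_two⟩
  obtain ⟨m, hm, hmS⟩ := h.exists_conj_involution hx hx2
  have hne : (⊤ : Subgroup ↥(S : Subgroup G)) ≠ ⊥ := fun e => by
    have h1 : (⟨_, hmS⟩ : ↥(S : Subgroup G)) ∈ (⊥ : Subgroup ↥(S : Subgroup G)) := e ▸ mem_top _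
    have h2 : m * x * m⁻¹ = 1 := congrArg Subtype.val ((mem_bot).1 h1)
    have h3 := orderOf_eq_one_iff.2 h2
    rw [Involution.orderOf_conj, hx2] at h3
    omega
  obtain ⟨z, -, hzc, hz⟩ := PGroup.exists_central_order_p S.isPGroup' hne
  obtain ⟨F, hFM, hF, hF3, hxF, -⟩ := h.e8w _ hmS (by rw [Involution.orderOf_conj]; exact hx2)
    z z.2 (by rw [Subgroup.orderOf_coe]; exact hz)
    fun s hs => congrArg Subtype.val (mem_center_iff.1 hzc ⟨s, hs⟩)
  have hmem : x ∈ MulAut.conj m⁻¹ • F := by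
    rw [Solvable.mem_conj_iff, inv_inv]; exact hxF
  have hel : Cfsg.IsElementaryAbelian 2 (MulAut.conj m⁻¹ • F) := by
    have h4 : IsFour F := ⟨hF, (by norm_num : 2 ^ 2 ≤ 2 ^ 3).trans hF3⟩
    exact (h4.conj m⁻¹).1
  refine ⟨_, le_inf (fun y hy => ?_) ?_, hel, by rw [Solvable.card_conj]; exact hF3, hmem⟩
  · exact mem_centralizer_singleton_iff.2
      (Signalizer.commute_of_isMulCommutative hel.1 hy hmem)
  · exact (Solvable.conj_mono _ hFM).trans (Solvable.conj_eq_self (inv_mem hm)).le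

/-- The odd core of such a centraliser lies in `N(W)`. -/
theorem core_le {x : G} (hx : x ∈ normalizer (W : Set G)) (hx2 : orderOf x = 2) :
    Cfsg.centralizerPPrimeCore 2 x ≤ normalizer (W : Set G) := by
  haveI : Fact (Nat.Prime 2) := ⟨Nat.prime_two⟩
  obtain ⟨F, hF, hFe, hF3, -⟩ := h.exists_e8 hx hx2
  exact h.odd_le hFe hF3 (hF.trans inf_le_right) (Signalizer.not_dvd_card_core x)
    ((hF.trans inf_le_left).trans (Signalizer.centralizer_le_normalizer_core x))

end GenW

end Cfsg.Agent.CoreKilling
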