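import Cfsg.Agent.Lib.CoreKilling.GenCoverTools
import Cfsg.Agent.Lib.CoreKilling.GenDefs
import Cfsg.Agent.Lib.TwoCore.Group
import Cfsg.Agent.Lib.ZStar.Unique
import Cfsg.Agent.Lib.ZStar.Apply

/-!
# The odd cover of a bad central involution (owner: helper82; core_killing_general.md section 3)

* `Gen.exists_conj_commute` : a second conjugate of `z` in `S`, conjugate inside `N(W)`
* `Gen.exists_cover` : an odd subgroup of `N(W)` normalised by `C(z)` containing `W`
-/

set_option autoImplicit false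
set_option linter.unusedSectionVars false
set_option linter.style.haveILetI false

namespace Cfsg.Agent.CoreKilling

open Subgroup
open scoped Pointwise

universe u

variable {G : Type u} [Group G] [Finite G] {θ : G → Subgroup G} {S : Sylow 2 G} {W : Subgroup G}

/-- A fixed-point-free involutory automorphism inverts. -/
theorem inverts_of_fixedPointFree {P : Subgroup G} {z : G} (hz : z * z = 1)
    (hzP : z ∈ normalizer (P : Set G)) (hfix : ∀ a ∈ P, Commute a z → a = 1) :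
    ∀ b ∈ P, z * b * z⁻¹ = b⁻¹ := by
  have hzi : z⁻¹ = z := inv_eq_of_mul_eq_one_right hz
  let f : P → P := fun a =>
    ⟨(a : G)⁻¹ * (z * a * z⁻¹), P.mul_mem (P.inv_mem a.2) ((mem_normalizer_iff.1 hzP _).1 a.2)⟩
  have hinj : Function.Injective f := by
    intro a b hab
    have h1 : (a : G)⁻¹ * (z * a * z⁻¹) = (b : G)⁻¹ * (z * b * z⁻¹) := congrArg Subtype.val hab
    have h2 : z * (b * (a : G)⁻¹) * z⁻¹ = b * (a : G)⁻¹ := by
      calc z * (b * (a : G)⁻¹) * z⁻¹ = (z * b * z⁻¹) * (z * a * z⁻¹)⁻¹ := by group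
        _ = b * ((b : G)⁻¹ * (z * b * z⁻¹)) * (z * a * z⁻¹)⁻¹ := by group
        _ = b * ((a : G)⁻¹ * (z * a * z⁻¹)) * (z * a * z⁻¹)⁻¹ := by rw [h1]
        _ = _ := by group
    have h3 := hfix _ (P.mul_mem b.2 (P.inv_mem a.2)) (mul_inv_eq_iff_eq_mul.1 h2).symm
    exact Subtype.ext (mul_inv_eq_one.1 h3).symm
  intro b hb
  obtain ⟨a, ha⟩ := (Finite.surjective_of_injective hinj) ⟨b, hb⟩
  have h1 : (a : G)⁻¹ * (z * a * z⁻¹) = b := congrArg Subtype.val ha
  rw [← h1, hzi]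
  calc z * ((a : G)⁻¹ * (z * a * z)) * z = z * (a : G)⁻¹ * z * a * (z * z) := by group
    _ = (z * (a : G)⁻¹ * z) * a := by rw [hz, mul_one]
    _ = ((a : G)⁻¹ * (z * a * z))⁻¹ := by
        rw [mul_inv_rev, mul_inv_rev, mul_inv_rev, inv_inv, hzi, mul_assoc z _ z]

/-- `z` is not weakly closed: a second conjugate of it in `S`, by an element of `N(W)`. -/
theorem GenW.exists_conj_commute (h : GenW θ S W) (hO : Cfsg.oddCore G = ⊥) (hW : W ≠ ⊥) {z : G}
    (hz : orderOf z = 2) (hzS : z ∈ S) (hzc : ∀ s ∈ S, Commute s z) :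
    ∃ m ∈ normalizer (W : Set G), m * z * m⁻¹ ∈ S ∧ m * z * m⁻¹ ≠ z := by
  haveI : Fact (Nat.Prime 2) := ⟨Nat.prime_two⟩
  obtain ⟨g, hgS, hgz⟩ : ∃ g : G, g * z * g⁻¹ ∈ S ∧ g * z * g⁻¹ ≠ z := by
    by_contra hcon
    push Not at hcon
    have hc := ZStar.isolated_mem_center ZStar.uniqueInvolution
      (ZStar.isolated_of_sylow S hz hzS hcon) hO
    refine hW (eq_bot_iff.2 (hO ▸ ?_))
    have hcen : W ≤ centralizer ({z} : Set G) := fun w _ =>
      mem_centralizer_singleton_iff.2 (mem_center_iff.1 hc w)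
    have hWn : W.Normal := normalizer_eq_top_iff.1 (eq_top_iff.2 fun g _ => by
      have h1 := h.centralizer_le_normalizer z
        (mem_centralizer_singleton_iff.2 (mem_center_iff.1 hc g) : g ∈ centralizer ({z} : Set G))
      rwa [← h.fix z hzS hz, inf_eq_left.2 hcen] at h1)
    exact Cores.le_pPrimeCore hWn ((Nat.prime_two.coprime_iff_not_dvd).2 h.oddW).symm
  set z' := g * z * g⁻¹ with hz'
  set P : Subgroup G :=
    ((S : Subgroup G) ⊓ centralizer ({z'} : Set G)).map (MulAut.conj g⁻¹).toMonoidHom with hP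
  have hPC : P ≤ centralizer ({z} : Set G) := by
    rintro _ ⟨s, ⟨-, hs⟩, rfl⟩
    have hs' : Commute s z' := mem_centralizer_singleton_iff.1 hs
    refine mem_centralizer_singleton_iff.2 ?_
    have h1 := hs'.map (MulAut.conj g⁻¹).toMonoidHom
    rwa [show (MulAut.conj g⁻¹).toMonoidHom z' = z by simp [hz', mul_assoc]] at h1
  obtain ⟨c, hc, hcP⟩ := TwoCore.exists_conj_sylow_mem S
    (Γ := centralizer ({z} : Set G))
    (fun s hs => mem_centralizer_singleton_iff.2 (hzc s hs))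
    ((S.isPGroup'.to_le inf_le_left).map (MulAut.conj g⁻¹).toMonoidHom) hPC
  have hsend : ∀ s ∈ S, Commute s z' → c * g⁻¹ * s * (c * g⁻¹)⁻¹ ∈ S := fun s hs hsb => by
    have h1 := hcP (g⁻¹ * s * g⁻¹⁻¹) ⟨s, ⟨hs, mem_centralizer_singleton_iff.2 hsb⟩, rfl⟩
    simpa [mul_assoc] using h1
  have hz'2 : orderOf z' = 2 := by rw [hz', Involution.orderOf_conj]; exact hz
  have hmM : c * g⁻¹ ∈ normalizer (W : Set G) := by
    refine h.fusion (TwoCore.isFour_pair hz hz'2 hgz (hzc z' hgS).symm)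
      (sup_le (zpowers_le.2 (h.norm hzS)) (zpowers_le.2 (h.norm hgS))) ?_
    refine (map_le_iff_le_comap.2 (sup_le (zpowers_le.2 ?_) (zpowers_le.2 ?_)))
    · exact h.norm (hsend z hzS (hzc z' hgS).symm)
    · exact h.norm (hsend z' hgS (Commute.refl z'))
  refine ⟨(c * g⁻¹)⁻¹, inv_mem hmM, ?_, ?_⟩
  all_goals
    have he : (c * g⁻¹)⁻¹ * z * (c * g⁻¹)⁻¹⁻¹ = z' := by
      rw [inv_inv, mul_inv_rev, inv_inv,
        show g * c⁻¹ * z * (c * g⁻¹) = g * (c⁻¹ * (z * c)) * g⁻¹ by group,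
        ← mem_centralizer_singleton_iff.1 hc, inv_mul_cancel_left]
    rw [he]
  · exact hgS
  · exact hgz

/-- `O_p(L) ≤ O_p(Y)` when the latter is non-trivial and its normaliser in `L` lies in `Y`. -/
theorem pc_le_pc_of_ne_bot {p : ℕ} [Fact p.Prime] {L Y : Subgroup G} (hYL : Y ≤ L)
    (hkey : L ⊓ normalizer (pc p Y : Set G) ≤ Y) : pc p L ≤ pc p Y := by
  have hYnL : Y ≤ normalizer (pc p L : Set G) := hYL.trans (le_normalizer_pc p L)
  have hP : IsPGroup p (pc p L ⊔ pc p Y : Subgroup G) :=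
    (isPGroup_pc p L).to_sup_of_normal_left' (isPGroup_pc p Y) ((pc_le p Y).trans hYnL)
  have hYP : Y ≤ normalizer ((pc p L ⊔ pc p Y : Subgroup G) : Set G) :=
    Signalizer.le_normalizer_sup hYnL (le_normalizer_pc p Y)
  have hPU : (pc p L ⊔ pc p Y) ⊓ Y ≤ pc p Y := le_pc (hP.to_le inf_le_left) inf_le_right
    (Signalizer.le_normalizer_inf hYP le_normalizer)
  refine le_trans (le_sup_left : pc p L ≤ pc p L ⊔ pc p Y) ?_
  by_contra hnot
  have hlt : (pc p Y).subgroupOf (pc p L ⊔ pc p Y) < ⊤ :=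
    lt_top_iff_ne_top.2 fun e => hnot (subgroupOf_eq_top.1 e)
  haveI : Group.IsNilpotent (pc p L ⊔ pc p Y : Subgroup G) := hP.isNilpotent
  obtain ⟨y, hy, hyU⟩ := SetLike.exists_of_lt (Group.normalizerCondition_of_isNilpotent _ hlt)
  have hyN : (y : G) ∈ normalizer (pc p Y : Set G) :=
    Signalizer.mem_normalizer_of_conj_mem fun r hr =>
      (mem_normalizer_iff.1 hy
        (⟨r, le_sup_right (a := pc p L) hr⟩ : (pc p L ⊔ pc p Y : Subgroup G))).1 hr
  have hyY : (y : G) ∈ Y :=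
    hkey ⟨(sup_le (pc_le p L) ((pc_le p Y).trans hYL)) y.2, hyN⟩
  exact hyU (hPU ⟨y.2, hyY⟩)

/-- `z` inverts `O_p(L)` when `C_L(z) ≤ Y` and `O_p(Y) = 1`. -/
theorem inverts_pc {p : ℕ} {L Y : Subgroup G} {z : G} (hz : z * z = 1) (hYL : Y ≤ L)
    (hzL : z ∈ normalizer (L : Set G)) (hCLz : L ⊓ centralizer ({z} : Set G) ≤ Y)
    (hbot : pc p Y = ⊥) : ∀ a ∈ pc p L, z * a * z⁻¹ = a⁻¹ := by
  refine inverts_of_fixedPointFree hz (normalizer_le_normalizer_pc p L hzL) fun a ha haz => ?_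
  have h1 : a ∈ pc p L ⊓ Y :=
    ⟨ha, hCLz ⟨pc_le p L ha, mem_centralizer_singleton_iff.2 haz⟩⟩
  have h2 := le_pc (p := p) (L := Y) ((isPGroup_pc p L).to_le inf_le_left) inf_le_right
    (Signalizer.le_normalizer_inf (hYL.trans (le_normalizer_pc p L)) le_normalizer) h1
  rwa [hbot, mem_bot] at h2

/-- If `z` inverts `O_p(L)` then either `O_p(L) ≤ O_p(Y)` or `z` centralises `Y`. -/
theorem commute_of_inverts {p : ℕ} {L Y : Subgroup G} {z : G} (hz : orderOf z = 2) (hYL : Y ≤ L)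
    (hXY : centralizer ({z} : Set G) ≤ normalizer (Y : Set G))
    (hinv : ∀ a ∈ pc p L, z * a * z⁻¹ = a⁻¹) (hne : ¬ pc p L ≤ pc p Y)
    (hkey : ∀ U : Subgroup G, U ≠ ⊥ → U ≤ Y → Y ≤ normalizer (U : Set G) →
      centralizer ({z} : Set G) ≤ normalizer (U : Set G) → L ⊓ normalizer (U : Set G) ≤ Y) :
    ∀ y ∈ Y, Commute y z := by
  have hzY : z ∈ normalizer (Y : Set G) := hXY (mem_centralizer_singleton_iff.2 rfl)
  set U := Subgroup.closure {u : G | ∃ y ∈ Y, y * z * y⁻¹ * z⁻¹ = u} with hU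
  have hUY : U ≤ Y := (closure_le _).2 fun u ⟨y, hy, hu⟩ => by
    rw [← hu, show y * z * y⁻¹ * z⁻¹ = y * (z * y⁻¹ * z⁻¹) by group]
    exact Y.mul_mem hy ((mem_normalizer_iff.1 hzY _).1 (Y.inv_mem hy))
  have hYU : Y ≤ normalizer (U : Set G) :=
    Signalizer.le_normalizer_of_conj_mem fun y' hy' u hu => by
      have hle : U ≤ U.comap (MulAut.conj y').toMonoidHom :=
        (closure_le _).2 fun u' ⟨y, hy, hu'⟩ => by
          show y' * u' * y'⁻¹ ∈ U
          rw [← hu', show y' * (y * z * y⁻¹ * z⁻¹) * y'⁻¹ =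
            (y' * y * z * (y' * y)⁻¹ * z⁻¹) * (y' * z * y'⁻¹ * z⁻¹)⁻¹ by group]
          exact U.mul_mem (subset_closure ⟨_, Y.mul_mem hy' hy, rfl⟩)
            (U.inv_mem (subset_closure ⟨y', hy', rfl⟩))
      exact hle hu
  have hXU : centralizer ({z} : Set G) ≤ normalizer (U : Set G) :=
    Signalizer.le_normalizer_of_conj_mem fun x hx u hu => by
      have hxz : Commute x z := mem_centralizer_singleton_iff.1 hx
      have hle : U ≤ U.comap (MulAut.conj x).toMonoidHom :=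
        (closure_le _).2 fun u' ⟨y, hy, hu'⟩ => by
          show x * u' * x⁻¹ ∈ U
          refine subset_closure ⟨x * y * x⁻¹, Signalizer.conj_mem hXY hx hy, ?_⟩
          have hc : x⁻¹ * z * x = z := by rw [mul_assoc, ← hxz.eq, inv_mul_cancel_left]
          rw [← hu', show x * (y * z * y⁻¹ * z⁻¹) * x⁻¹ = x * y * z * y⁻¹ * (x * z)⁻¹ by group,
            hxz.eq, show x * y * x⁻¹ * z * (x * y * x⁻¹)⁻¹ * z⁻¹ =
              x * y * (x⁻¹ * z * x) * y⁻¹ * (z * x)⁻¹ by group, hc]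
      exact hle hu
  by_cases hU1 : U = ⊥
  · intro y hy
    have h1 : y * z * y⁻¹ * z⁻¹ = 1 :=
      (mem_bot (G := G)).1 (hU1 ▸ subset_closure ⟨y, hy, rfl⟩)
    exact mul_inv_eq_iff_eq_mul.1 (mul_inv_eq_one.1 h1)
  exfalso
  have hcen : U ≤ centralizer (pc p L : Set G) := (closure_le _).2 fun u ⟨y, hy, hu⟩ => by
    refine mem_centralizer_iff.2 fun a ha => ?_
    have h0' : ∀ b ∈ pc p L, z⁻¹ * b * z = b⁻¹ := fun b hb => by
      have := hinv b hb
      rwa [Involution.inv_eq hz] at this ⊢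
    have h1 : y⁻¹ * a⁻¹ * y ∈ pc p L := by
      have := (mem_normalizer_iff.1 (le_normalizer_pc p L (L.inv_mem (hYL hy))) a⁻¹).1
        ((pc p L).inv_mem ha)
      rwa [inv_inv] at this
    have h2 : u * a * u⁻¹ = a := by
      rw [← hu, show y * z * y⁻¹ * z⁻¹ * a * (y * z * y⁻¹ * z⁻¹)⁻¹ =
        y * (z * (y⁻¹ * (z⁻¹ * a * z) * y) * z⁻¹) * y⁻¹ by group, h0' a ha, hinv _ h1]
      group
    exact (mul_inv_eq_iff_eq_mul.1 h2).symm
  have hP : pc p L ≤ normalizer (U : Set G) :=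
    (Subgroup.le_centralizer_iff.1 hcen).trans (centralizer_le_normalizer _)
  exact hne (le_pc (isPGroup_pc p L)
    (fun a ha => hkey U hU1 hUY hYU hXU ⟨pc_le p L ha, hP ha⟩)
    (hYL.trans (le_normalizer_pc p L)))

/-- If `z` acts by a sign on every `O_q(L)`, then `z` times a conjugate of it centralises `W`. -/
theorem centralizes_of_sign {L : Subgroup G} {z m : G} (hWodd : ¬ 2 ∣ Nat.card W)
    [Group.IsSolvable W] (hWL : W ≤ L) (hLW : L ≤ normalizer (W : Set G))
    (hm : m ∈ normalizer (W : Set G)) (hxM : z * (m * z * m⁻¹) ∈ normalizer (W : Set G))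
    (hx2 : orderOf (z * (m * z * m⁻¹)) = 2)
    (hsign : ∀ q : ℕ, q.Prime → (∀ a ∈ pc q L, z * a * z⁻¹ = a⁻¹) ∨
      ∀ a ∈ pc q L, z * a * z⁻¹ = a) :
    W ≤ centralizer ({z * (m * z * m⁻¹)} : Set G) := by
  intro w hw
  refine mem_centralizer_singleton_iff.2 ?_
  set x := z * (m * z * m⁻¹) with hx
  set M := normalizer (W : Set G) with hM
  set WM := W.subgroupOf M with hWM
  haveI : WM.Normal := normal_in_normalizer
  have hWs : Group.IsSolvable WM :=
    Group.isSolvable_of_isSolvable_injective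
      (f := (subgroupOfEquivOfLe (le_normalizer (H := W))).toMonoidHom)
      (subgroupOfEquivOfLe (le_normalizer (H := W))).injective
  have key : Commute (⟨x, hxM⟩ : M) (⟨w, le_normalizer hw⟩ : M) := by
    refine Gross.commute_of_fitting (p := 2) (n := 1) hWs
      (by rw [pow_one, sq]; exact Subtype.ext (Involution.mul_self hx2))
      (by rw [hWM, Cores.card_subgroupOf le_normalizer]; exact hWodd) ?_ _ hw
    intro q hq a ha
    refine Subtype.ext ?_
    obtain ⟨a0, ha0, rfl⟩ := ha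
    have haW : ((a0 : M) : G) ∈ pc q W :=
      ⟨subgroupOfEquivOfLe (le_normalizer (H := W)) a0,
        (Cores.pCore_map_mulEquiv (subgroupOfEquivOfLe (le_normalizer (H := W))) q).le
          (mem_map_of_mem _ ha0), rfl⟩
    have hWq : pc q W ≤ pc q L := le_pc (isPGroup_pc q W) ((pc_le q W).trans hWL)
      (hLW.trans (normalizer_le_normalizer_pc q W))
    have hmw : m⁻¹ * ((a0 : M) : G) * m ∈ pc q W := by
      have := (mem_normalizer_iff.1 (normalizer_le_normalizer_pc q W (inv_mem hm)) _).1 haW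
      rwa [inv_inv] at this
    show x * ((a0 : M) : G) = ((a0 : M) : G) * x
    set b := ((a0 : M) : G) with hb
    refine mul_inv_eq_iff_eq_mul.1 ?_
    rw [hx, show z * (m * z * m⁻¹) * b * (z * (m * z * m⁻¹))⁻¹ =
      z * (m * (z * (m⁻¹ * b * m) * z⁻¹) * m⁻¹) * z⁻¹ by group]
    rcases hsign q hq with hi | hc
    · rw [hi _ (hWq hmw), show m * (m⁻¹ * b * m)⁻¹ * m⁻¹ = b⁻¹ by group,
        hi _ ((pc q L).inv_mem (hWq haW)), inv_inv]
    · rw [hc _ (hWq hmw), show m * (m⁻¹ * b * m) * m⁻¹ = b by group, hc _ (hWq haW)]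
  exact (congrArg Subtype.val key.eq).symm

/-- The odd cover of a bad central involution. -/
theorem GenW.exists_cover (h : GenW θ S W) (hO : Cfsg.oddCore G = ⊥) (hW : W ≠ ⊥) (hind : Induct S W)
    {z : G} (hz : orderOf z = 2) (hzS : z ∈ S) (hzc : ∀ s ∈ S, Commute s z)
    (hbad : ¬ centralizer ({z} : Set G) ≤ normalizer (W : Set G))
    (hnoinv : ∀ x ∈ normalizer (W : Set G), orderOf x = 2 → ¬ W ≤ centralizer ({x} : Set G)) :
    ∃ Y : Subgroup G, ¬ 2 ∣ Nat.card Y ∧ Y ≤ normalizer (W : Set G) ∧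
      centralizer ({z} : Set G) ≤ normalizer (Y : Set G) ∧ W ≤ Y := by
  haveI : Fact (Nat.Prime 2) := ⟨Nat.prime_two⟩
  set M := normalizer (W : Set G) with hM
  set X := centralizer ({z} : Set G) with hX
  have hSX : (S : Subgroup G) ≤ X := fun s hs => mem_centralizer_singleton_iff.2 (hzc s hs)
  have hzX : z ∈ X := mem_centralizer_singleton_iff.2 rfl
  have hto : ∀ {A : Subgroup G}, ¬ 2 ∣ Nat.card A → Odd (Nat.card A) := fun hA =>
    Nat.odd_iff.2 (Nat.two_dvd_ne_zero.1 hA)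
  have hfrom : ∀ {A : Subgroup G}, Odd (Nat.card A) → ¬ 2 ∣ Nat.card A := fun hA h2 =>
    Nat.not_even_iff_odd.2 hA (even_iff_two_dvd.2 h2)
  obtain ⟨Y, ⟨hYodd, hYM, hXY, hOY⟩, hmax⟩ := (wellFounded_gt (α := Subgroup G)).has_min
    {Y : Subgroup G | Odd (Nat.card Y) ∧ Y ≤ M ∧ X ≤ normalizer (Y : Set G) ∧
      Cfsg.centralizerPPrimeCore 2 z ≤ Y}
    ⟨Cfsg.centralizerPPrimeCore 2 z, hto (Signalizer.not_dvd_card_core z),
      h.core_le (h.norm hzS) hz, Signalizer.centralizer_le_normalizer_core z, le_rfl⟩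
  refine ⟨Y, hfrom hYodd, hYM, hXY, ?_⟩
  have hzY : z ∈ normalizer (Y : Set G) := hXY hzX
  set L := W ⊔ Y with hL
  have hWL : W ≤ L := le_sup_left
  have hYL : Y ≤ L := le_sup_right
  have hLM : L ≤ M := sup_le le_normalizer hYM
  have hLodd : Odd (Nat.card L) := by
    rw [hL, sup_comm]
    exact Bender.odd_card_sup_of_normalizes hYM (hto h.oddW) hYodd
  haveI : Group.IsSolvable L := OddOrderTheorem.solvable hLodd
  -- `C_L(z) ≤ Y`
  have hCLz : L ⊓ centralizer ({z} : Set G) ≤ Y := by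
    refine (Signalizer.inf_centralizer_singleton_sup (hz ▸ pow_orderOf_eq_one z) (h.norm hzS) hzY
      hYM (fun hd => h.oddW (hd.trans (card_dvd_of_le inf_le_left)))).trans
      (sup_le ?_ inf_le_left)
    rw [h.fix z hzS hz]
    refine le_trans (fun w hw => ?_) hOY
    have hle := h.le z hz
    refine ⟨⟨w, hle hw⟩, Cores.le_pPrimeCore (p := 2)
      (N := (θ z).subgroupOf (centralizer ({z} : Set G))) ?_ ?_ hw, rfl⟩
    · exact Cores.subgroupOf_normal_of_le_normalizer (h.centralizer_le_normalizer z)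
    · rw [Cores.card_subgroupOf hle]
      exact ((Nat.prime_two.coprime_iff_not_dvd).2 (h.odd z hz)).symm
  -- local subgroups
  have hkey : ∀ U : Subgroup G, U ≠ ⊥ → U ≤ Y → Y ≤ normalizer (U : Set G) →
      X ≤ normalizer (U : Set G) → L ⊓ normalizer (U : Set G) ≤ Y := by
    intro U hU hUY hYU hXU
    set K := normalizer (U : Set G) with hK
    have hKne : K ≠ ⊤ := fun e => hU (eq_bot_iff.2 (hO ▸ Cores.le_pPrimeCore
      (normalizer_eq_top_iff.1 e) ((Nat.prime_two.coprime_iff_not_dvd).2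
        (hfrom (hYodd.of_dvd_nat (card_dvd_of_le hUY)))).symm))
    set O := (Cfsg.oddCore K).map K.subtype with hOdef
    haveI : (Cfsg.oddCore K).Normal := Cores.pPrimeCore_normal 2 _
    have hOodd : ¬ 2 ∣ Nat.card O := by
      rw [hOdef, Cores.card_map_subtype]; exact Cores.not_dvd_card_pPrimeCore
    have hKO : K ≤ normalizer (O : Set G) := Signalizer.le_normalizer_of_conj_mem fun k hk => by
      rintro _ ⟨o, ho, rfl⟩
      exact ⟨⟨k, hk⟩ * o * ⟨k, hk⟩⁻¹,
        (inferInstance : (Cfsg.oddCore K).Normal).conj_mem o ho _, rfl⟩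
    obtain ⟨F, hF, hFe, hF3, -⟩ := h.exists_e8 (h.norm hzS) hz
    have hOM : O ≤ M := h.odd_le hFe hF3 (hF.trans inf_le_right) hOodd
      (((hF.trans inf_le_left).trans hXU).trans hKO)
    have hle : O ⊔ Y ≤ Y := by
      by_contra hne
      refine hmax (O ⊔ Y) ⟨?_, sup_le hOM hYM, ?_, hOY.trans le_sup_right⟩
        (lt_of_le_of_ne le_sup_right fun e => hne e.ge)
      · rw [sup_comm]
        exact Bender.odd_card_sup_of_normalizes (hYU.trans hKO) (hto hOodd) hYodd
      · exact Signalizer.le_normalizer_sup (hXU.trans hKO) hXY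
    rintro g ⟨hg, hgU⟩
    have hg' : g ∈ (W : Set G) * (Y : Set G) := by
      rw [← Subgroup.coe_mul_of_right_le_normalizer_left W Y hYM]; exact hg
    obtain ⟨w, hw, y, hy, rfl⟩ := hg'
    have hwK : w ∈ K := by
      have h1 := K.mul_mem hgU (K.inv_mem (hYU hy))
      rwa [mul_inv_cancel_right] at h1
    exact Y.mul_mem (hle (le_sup_left (b := Y) (hind K (hSX.trans hXU) ⟨z, hzS, hz, hzc, hXU⟩ hKne ⟨hw, hwK⟩))) hy
  -- comparison of the cores
  have hzL : z ∈ normalizer (L : Set G) :=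
    (Signalizer.le_normalizer_sup (A := zpowers z) (zpowers_le.2 (h.norm hzS))
      (zpowers_le.2 hzY)) (mem_zpowers z)
  have hpY : ∀ p : ℕ, p.Prime → pc p Y ≠ ⊥ → pc p L ≤ pc p Y := fun p hp hne => by
    haveI : Fact p.Prime := ⟨hp⟩
    exact pc_le_pc_of_ne_bot hYL (hkey _ hne (pc_le p Y) (le_normalizer_pc p Y)
      (hXY.trans (normalizer_le_normalizer_pc p Y)))
  have hinv : ∀ p : ℕ, pc p Y = ⊥ → ∀ a ∈ pc p L, z * a * z⁻¹ = a⁻¹ := fun p =>
    inverts_pc (Involution.mul_self hz) hYL hzL hCLz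
  have hall : ∀ p : ℕ, p.Prime → pc p L ≤ pc p Y := by
    intro p hp
    by_cases hbot : pc p Y = ⊥
    swap
    · exact hpY p hp hbot
    by_contra hne
    have hzcY := commute_of_inverts hz hYL hXY (hinv p hbot) hne hkey
    obtain ⟨m, hm, hmS, hmne⟩ := h.exists_conj_commute hO hW hz hzS hzc
    have hzz' : Commute (m * z * m⁻¹) z := hzc _ hmS
    have hz'2 : orderOf (m * z * m⁻¹) = 2 := by rw [Involution.orderOf_conj]; exact hz
    have hx2 : orderOf (z * (m * z * m⁻¹)) = 2 := Involution.orderOf_of_sq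
      (by rw [hzz'.mul_mul_mul_comm, Involution.mul_self hz, Involution.mul_self hz'2,
        mul_one]) fun e => hmne (by
        rw [mul_eq_one_iff_inv_eq, Involution.inv_eq hz] at e
        exact e.symm)
    have hxM : z * (m * z * m⁻¹) ∈ M := M.mul_mem (h.norm hzS) (h.norm hmS)
    haveI : Group.IsSolvable W :=
      Group.isSolvable_of_isSolvable_injective (inclusion_injective hWL)
    refine hnoinv _ hxM hx2 (centralizes_of_sign h.oddW hWL hLM hm hxM hx2 fun q hq => ?_)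
    by_cases hqb : pc q Y = ⊥
    · exact Or.inl (hinv q hqb)
    · exact Or.inr fun c hc => by
        rw [← (hzcY c (pc_le q Y (hpY q hq hqb hc))).eq, mul_inv_cancel_right]
  exact hWL.trans (le_of_local hLodd hYL
    (fun e => hW (eq_bot_iff.2 (e ▸ hWL))) hXY hall hkey)

end Cfsg.Agent.CoreKilling
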