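import Cfsg.Agent.Lib.Bender.InvolutionZJ
import Cfsg.Agent.Lib.Bender.FreeNormal
import Cfsg.Agent.Lib.Bender.FreeNC
import Cfsg.Agent.Lib.Bender.CentLemma
import Cfsg.Agent.Lib.Cores.Fitting
import Cfsg.Agent.Lib.OddOrderTheorem.Basic
import Cfsg.Agent.Lib.HallHigman.GrossTools

/-!
# Bender's comparison of two solvable subgroups of odd order (owner: helper82)

* `pc p L` : `O_p(L)` in the ambient group; `fq q L` : the product of those for the primes not `q`
* `le_of_local` : `Y ≤ L` of odd order with `O_p(L) ≤ O_p(Y)` for all `p`, and `N_L(U) ≤ Y` for the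
  non-trivial `U ≤ Y` normalised by `Y` and `X`: then `L ≤ Y`
-/

set_option autoImplicit false
set_option linter.unusedSectionVars false
set_option linter.style.haveILetI false

namespace Cfsg.Agent.CoreKilling

open Subgroup

universe u

variable {G : Type u} [Group G] [Finite G]

/-- `O_p(L)` as a subgroup of `G`. -/
def pc (p : ℕ) (L : Subgroup G) : Subgroup G := (Cfsg.pCore p L).map L.subtype

/-- The product of the `O_r(L)` for the primes `r ≠ q`. -/
def fq (q : ℕ) (L : Subgroup G) : Subgroup G :=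
  ⨆ r : {r : Nat.Primes // (r : ℕ) ≠ q}, pc ((r : Nat.Primes) : ℕ) L

theorem pc_le (p : ℕ) (L : Subgroup G) : pc p L ≤ L := map_subtype_le _

theorem isPGroup_pc (p : ℕ) (L : Subgroup G) : IsPGroup p (pc p L) :=
  (Cores.isPGroup_pCore p L).map _

theorem normalizer_le_normalizer_pc (p : ℕ) (L : Subgroup G) :
    normalizer (L : Set G) ≤ normalizer (pc p L : Set G) :=
  Cores.normalizer_le_normalizer_map _

theorem le_normalizer_pc (p : ℕ) (L : Subgroup G) : L ≤ normalizer (pc p L : Set G) :=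
  le_normalizer.trans (normalizer_le_normalizer_pc p L)

theorem le_pc {p : ℕ} {L P : Subgroup G} (hP : IsPGroup p P) (hPL : P ≤ L)
    (hn : L ≤ normalizer (P : Set G)) : P ≤ pc p L := by
  intro x hx
  refine ⟨⟨x, hPL hx⟩, Cores.le_pCore (p := p) (Cores.subgroupOf_normal_of_le_normalizer hn)
    ?_ (show (⟨x, hPL hx⟩ : L) ∈ P.subgroupOf L from hx), rfl⟩
  exact hP.comap_subtype

theorem commute_pc {p r : ℕ} [Fact p.Prime] [Fact r.Prime] (hne : p ≠ r) {L : Subgroup G} {x y : G}
    (hx : x ∈ pc p L) (hy : y ∈ pc r L) : Commute x y := by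
  obtain ⟨a, ha, rfl⟩ := hx
  obtain ⟨b, hb, rfl⟩ := hy
  exact congrArg Subtype.val (Cores.pCore_commute hne ha hb).eq

theorem fq_le (q : ℕ) (L : Subgroup G) : fq q L ≤ L := iSup_le fun _ => pc_le _ _

theorem normalizer_le_normalizer_fq (q : ℕ) (L : Subgroup G) :
    normalizer (L : Set G) ≤ normalizer (fq q L : Set G) :=
  Signalizer.le_normalizer_iSup fun _ => normalizer_le_normalizer_pc _ L

theorem mem_centralizer_fq {q : ℕ} {L : Subgroup G} {g : G}
    (h : ∀ r : ℕ, r.Prime → r ≠ q → ∀ a ∈ pc r L, Commute g a) :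
    g ∈ centralizer (fq q L : Set G) := by
  refine mem_centralizer_iff.2 fun a ha => ?_
  have hle : fq q L ≤ centralizer ({g} : Set G) := iSup_le fun r a ha =>
    mem_centralizer_singleton_iff.2 (h r.1 r.1.2 r.2 a ha).symm.eq
  exact mem_centralizer_singleton_iff.1 (hle ha)

theorem commute_of_mem_centralizer_fq {q r : ℕ} {L : Subgroup G} {g a : G}
    (hg : g ∈ centralizer (fq q L : Set G)) (hr : r.Prime) (hrq : r ≠ q) (ha : a ∈ pc r L) :
    Commute g a :=
  (mem_centralizer_iff.1 hg a (le_iSup (fun r : {r : Nat.Primes // (r : ℕ) ≠ q} =>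
    pc ((r : Nat.Primes) : ℕ) L) ⟨⟨r, hr⟩, hrq⟩ ha)).symm

theorem mem_fittingSubgroup_of_commute {L : Subgroup G} [Group.IsSolvable L] {g : G} (hg : g ∈ L)
    (hc : ∀ r : ℕ, r.Prime → ∀ a ∈ pc r L, Commute g a) :
    (⟨g, hg⟩ : L) ∈ Cfsg.fittingSubgroup L := by
  refine Solvable.centralizer_fitting_le L (mem_centralizer_iff.2 fun a ha => ?_)
  have hle : Cfsg.fittingSubgroup L ≤ centralizer ({⟨g, hg⟩} : Set L) := by
    rw [Cores.fittingSubgroup_eq_iSup_pCore]
    exact iSup_le fun r b hb => mem_centralizer_singleton_iff.2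
      (Subtype.ext (hc r r.2 b (mem_map_of_mem _ hb)).symm.eq)
  exact mem_centralizer_singleton_iff.1 (hle ha)

/-- An element of prime power order centralising the Fitting subgroup lies in the core of its
prime. -/
theorem mem_pc_of_commute {L : Subgroup G} [Group.IsSolvable L] {r : ℕ} [hr : Fact r.Prime]
    {g : G} (hg : g ∈ L) {n : ℕ} (hord : g ^ r ^ n = 1)
    (hc : ∀ s : ℕ, s.Prime → ∀ a ∈ pc s L, Commute g a) : g ∈ pc r L := by
  set O := Cfsg.pCore r L
  set N := Cfsg.pPrimeCore r L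
  haveI : O.Normal := Cores.pCore_normal r L
  haveI : N.Normal := Cores.pPrimeCore_normal r L
  have hF : Cfsg.fittingSubgroup L ≤ O ⊔ N := by
    rw [Cores.fittingSubgroup_eq_iSup_pCore]
    refine iSup_le fun s => ?_
    rcases eq_or_ne (s : ℕ) r with h | h
    · exact h ▸ le_sup_left
    · refine le_sup_of_le_right (Cores.le_pPrimeCore inferInstance ?_)
      haveI : Fact (s : ℕ).Prime := ⟨s.2⟩
      obtain ⟨m, hm⟩ := IsPGroup.iff_card.mp (Cores.isPGroup_pCore (s : ℕ) L)
      rw [hm]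
      exact ((Nat.coprime_primes s.2 hr.out).mpr h).pow_left m
  have hmem := hF (mem_fittingSubgroup_of_commute hg hc)
  obtain ⟨b, hb, c, hcN, hbc⟩ := Subgroup.mem_sup_of_normal_right.1 hmem
  have hbc' : b * c = ⟨g, hg⟩ := hbc
  have hP : IsPGroup r ↥(O ⊔ zpowers (⟨g, hg⟩ : L)) :=
    (Cores.isPGroup_pCore r L).to_sup_of_normal_left
      (IsPGroup.iff_orderOf.2 fun x => by
        obtain ⟨k, -, hk⟩ := (Nat.dvd_prime_pow hr.out).1
          ((orderOf_dvd_of_pow_eq_one (Subtype.ext hord : (⟨g, hg⟩ : L) ^ r ^ n = 1)))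
        obtain ⟨m, -, hm⟩ := (Nat.dvd_prime_pow hr.out).1
          (show orderOf x ∣ r ^ k by
            have h1 := orderOf_dvd_natCard x
            rwa [Nat.card_zpowers, hk] at h1)
        exact ⟨m, hm⟩)
  have hc' : c ∈ O ⊔ zpowers (⟨g, hg⟩ : L) := by
    rw [show c = b⁻¹ * ⟨g, hg⟩ by rw [← hbc', inv_mul_cancel_left]]
    exact mul_mem_sup (inv_mem hb) (mem_zpowers _)
  obtain ⟨m, hm⟩ := IsPGroup.iff_card.1 hP
  have hc1 : c = 1 := Coprime.eq_one_of_mem_of_mem (A := N) (K := O ⊔ zpowers (⟨g, hg⟩ : L))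
    (hm ▸ (Cores.coprime_card_pPrimeCore r).pow_right m) hcN hc'
  exact ⟨b, hb, by
    have := congrArg Subtype.val hbc'
    rw [hc1, mul_one] at this
    exact this⟩

/-- Conjugation moves a Sylow subgroup within the normalised group. -/
theorem exists_frattini {D : Subgroup G} {q : ℕ} [Fact q.Prime] (Q : Sylow q D) {x : G}
    (hx : x ∈ normalizer (D : Set G)) :
    ∃ d ∈ D, d⁻¹ * x ∈ normalizer ((Q : Subgroup D).map D.subtype : Set G) := by
  set φ := D.normalizerMonoidHom ⟨x, hx⟩ with hφ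
  set Q' : Sylow q D := Q.mapSurjective (f := φ.toMonoidHom) φ.surjective
  obtain ⟨d, hd⟩ := MulAction.exists_smul_eq D Q Q'
  refine ⟨d, d.2, Signalizer.mem_normalizer_of_conj_mem ?_⟩
  rintro _ ⟨y, hy, rfl⟩
  have h1 : φ y ∈ (Q' : Subgroup D) := by
    show φ y ∈ (Q : Subgroup D).map φ.toMonoidHom
    exact mem_map_of_mem φ.toMonoidHom hy
  rw [← hd] at h1
  obtain ⟨w, hw, hwy⟩ := h1
  refine ⟨w, hw, ?_⟩
  have h2 : (d : G) * w * (d : G)⁻¹ = x * y * x⁻¹ := congrArg Subtype.val hwy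
  show (w : G) = (d : G)⁻¹ * x * y * ((d : G)⁻¹ * x)⁻¹
  rw [show (d : G)⁻¹ * x * y * ((d : G)⁻¹ * x)⁻¹ = (d : G)⁻¹ * (x * y * x⁻¹) * d by group, ← h2]
  group

/-- `O_{q'}` of a normal subgroup centralising the `O_r(L)`, `r ≠ q`, is inside their product. -/
theorem core_le_fq {q : ℕ} [Fact q.Prime] {L C : Subgroup G} [Group.IsSolvable L] (hCL : C ≤ L)
    (hCn : L ≤ normalizer (C : Set G)) (hC : C ≤ centralizer (fq q L : Set G)) :
    Bender.core q C ≤ fq q L := by
  set N := Bender.core q C with hN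
  have hNC : N ≤ C := map_subtype_le _
  haveI : Group.IsSolvable N := Group.isSolvable_of_isSolvable_injective
    (inclusion_injective (hNC.trans hCL))
  have hNn : L ≤ normalizer (N : Set G) := hCn.trans (Cores.normalizer_le_normalizer_map _)
  have hNq : (Nat.card N).Coprime q := by
    rw [hN, Bender.core, Cores.card_map_subtype]
    exact Cores.coprime_card_pPrimeCore q
  have hpc : ∀ r : ℕ, r.Prime → pc r N ≤ fq q L := by
    intro r hr
    by_cases hrq : r = q
    · subst hrq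
      intro a ha
      obtain ⟨m, hm⟩ := IsPGroup.iff_card.1 (isPGroup_pc r N)
      rw [Coprime.eq_one_of_mem_of_mem (A := N) (K := pc r N) (hm ▸ hNq.pow_right m) (pc_le r N ha) ha]
      exact one_mem _
    · exact (le_pc (isPGroup_pc r N) ((pc_le r N).trans (hNC.trans hCL))
        (hNn.trans (normalizer_le_normalizer_pc r N))).trans
        (le_iSup (fun r : {r : Nat.Primes // (r : ℕ) ≠ q} => pc ((r : Nat.Primes) : ℕ) L)
          ⟨⟨r, hr⟩, hrq⟩)
  intro n hn
  have hmem := mem_fittingSubgroup_of_commute (g := n) hn fun r hr a ha =>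
    (mem_centralizer_iff.1 (hC (hNC hn)) a (hpc r hr ha)).symm
  have hle : (Cfsg.fittingSubgroup N).map N.subtype ≤ fq q L := by
    rw [Cores.fittingSubgroup_eq_iSup_pCore, Subgroup.map_iSup]
    exact iSup_le fun r => hpc r r.2
  exact hle (mem_map_of_mem _ hmem)

/-- **Bender's comparison.** -/
theorem le_of_local {L Y X : Subgroup G} (hL : Odd (Nat.card L)) (hYL : Y ≤ L) (hL1 : L ≠ ⊥)
    (hX : X ≤ normalizer (Y : Set G))
    (hF : ∀ p : ℕ, p.Prime → pc p L ≤ pc p Y)
    (hloc : ∀ U : Subgroup G, U ≠ ⊥ → U ≤ Y → Y ≤ normalizer (U : Set G) →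
      X ≤ normalizer (U : Set G) → L ⊓ normalizer (U : Set G) ≤ Y) : L ≤ Y := by
  haveI hLs : Group.IsSolvable L := OddOrderTheorem.solvable hL
  haveI : Group.IsSolvable Y := Group.isSolvable_of_isSolvable_injective (inclusion_injective hYL)
  -- a prime with non-trivial core
  obtain ⟨q, hqp, hq1⟩ : ∃ q : ℕ, q.Prime ∧ pc q Y ≠ ⊥ := by
    by_contra hcon
    push Not at hcon
    refine hL1 (eq_bot_iff.2 fun x hx => ?_)
    have h1 := mem_fittingSubgroup_of_commute hx fun r hr a ha => by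
      have := (hF r hr ha)
      rw [hcon r hr, mem_bot] at this
      rw [this]; exact Commute.one_right x
    have hbot : (Cfsg.fittingSubgroup L).map L.subtype ≤ ⊥ := by
      rw [Cores.fittingSubgroup_eq_iSup_pCore, Subgroup.map_iSup]
      exact iSup_le fun r => (hF r r.2).trans (hcon r r.2).le
    exact hbot (mem_map_of_mem _ h1)
  haveI : Fact q.Prime := ⟨hqp⟩
  have hYodd : Odd (Nat.card Y) := hL.of_dvd_nat (card_dvd_of_le hYL)
  have hq2 : q ≠ 2 := by
    rintro rfl
    obtain ⟨m, hm⟩ := IsPGroup.iff_card.1 (isPGroup_pc 2 Y)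
    rcases Nat.eq_zero_or_pos m with rfl | hm0
    · exact hq1 (card_eq_one.1 (by rw [hm, pow_zero]))
    · exact Nat.not_even_iff_odd.2 (hYodd.of_dvd_nat (card_dvd_of_le (pc_le 2 Y)))
        (even_iff_two_dvd.2 (hm ▸ dvd_pow_self 2 hm0.ne'))
  set C := L ⊓ centralizer (fq q L : Set G) with hCdef
  set D := Y ⊓ centralizer (fq q Y : Set G) with hDdef
  have hfle : fq q L ≤ fq q Y := iSup_mono fun r => hF r.1 r.1.2
  have hDC : D ≤ C := inf_le_inf hYL (centralizer_le (SetLike.coe_subset_coe.2 hfle))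
  have hCL : C ≤ L := inf_le_left
  have hDY : D ≤ Y := inf_le_left
  have hCn : L ≤ normalizer (C : Set G) := Signalizer.le_normalizer_inf le_normalizer
    (Signalizer.le_normalizer_centralizer (le_normalizer.trans (normalizer_le_normalizer_fq q L)))
  have hDn : ∀ H : Subgroup G, H ≤ normalizer (Y : Set G) → H ≤ normalizer (D : Set G) :=
    fun H hH => Signalizer.le_normalizer_inf hH
      (Signalizer.le_normalizer_centralizer (hH.trans (normalizer_le_normalizer_fq q Y)))
  -- `q`-elements of `C ⊓ Y` lie in `D`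
  have hqD : ∀ g ∈ C, g ∈ Y → (∃ n, g ^ q ^ n = 1) → g ∈ D := by
    intro g hgC hgY hgq
    refine ⟨hgY, mem_centralizer_fq fun r hr hrq a ha => ?_⟩
    haveI : Fact r.Prime := ⟨hr⟩
    by_cases hr2 : r = 2
    · subst hr2
      have : a = 1 := by
        obtain ⟨m, hm⟩ := IsPGroup.iff_card.1 (isPGroup_pc 2 Y)
        rcases Nat.eq_zero_or_pos m with rfl | hm0
        · exact (mem_bot (G := G)).1 (card_eq_one.1 (by rw [hm, pow_zero]) ▸ ha)
        · exact absurd (even_iff_two_dvd.2 (hm ▸ dvd_pow_self 2 hm0.ne'))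
            (Nat.not_even_iff_odd.2 (hYodd.of_dvd_nat (card_dvd_of_le (pc_le 2 Y))))
      rw [this]; exact Commute.one_right g
    have hgr : ∀ b ∈ pc r L, Commute g b := fun b hb =>
      commute_of_mem_centralizer_fq hgC.2 hr hrq hb
    have hzp : zpowers g ≤ centralizer (pc r L : Set G) :=
      zpowers_le.2 (mem_centralizer_iff.2 fun b hb => (hgr b hb).symm.eq)
    have hcop : (Nat.card (zpowers g)).Coprime r := by
      obtain ⟨n, hn⟩ := hgq
      obtain ⟨m, -, hm⟩ := (Nat.dvd_prime_pow hqp).1 (orderOf_dvd_of_pow_eq_one hn)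
      rw [Nat.card_zpowers, hm]
      exact ((Nat.coprime_primes hqp hr).2 (Ne.symm hrq)).pow_left m
    have hfix : pc r Y ⊓ centralizer (pc r L : Set G) ≤ centralizer (zpowers g : Set G) := by
      rintro b ⟨hb, hbc⟩
      obtain ⟨n, hn⟩ := (isPGroup_pc r Y) ⟨b, hb⟩
      have hbL : b ∈ pc r L := mem_pc_of_commute (hYL (pc_le r Y hb)) (congrArg Subtype.val hn)
        fun s hs c hc => by
          by_cases hsr : s = r
          · subst hsr
            exact (mem_centralizer_iff.1 hbc c hc).symm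
          · haveI : Fact s.Prime := ⟨hs⟩
            exact commute_pc (Ne.symm hsr) hb (hF s hs hc)
      refine mem_centralizer_iff.2 fun c hc => ?_
      exact (mem_centralizer_iff.1 (hzp hc) b hbL).symm
    have hle : zpowers g ≤ centralizer (pc r Y : Set G) :=
      Bender.le_centralizer_of_fixed_le hr2 (isPGroup_pc r L) (isPGroup_pc r Y) hcop
        (Signalizer.le_normalizer_of_commute fun b hb c hc =>
          (mem_centralizer_iff.1 (hzp hc) b hb))
        ((hF r hr).trans le_normalizer)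
        (zpowers_le.2 (le_normalizer_pc r Y hgY)) hfix
    exact (mem_centralizer_iff.1 (hle (mem_zpowers g)) a ha).symm
  obtain ⟨QD⟩ : Nonempty (Sylow q D) := inferInstance
  set R := (QD : Subgroup D).map D.subtype with hRdef
  set U := Cfsg.centerThompsonOf q R with hUdef
  have hR : IsPGroup q R := QD.isPGroup'.map _
  have hRD : R ≤ D := map_subtype_le _
  have hpcD : pc q Y ≤ D := le_inf (pc_le q Y) fun b hb => mem_centralizer_fq fun r hr hrq a ha => by
    haveI : Fact r.Prime := ⟨hr⟩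
    exact commute_pc (Ne.symm hrq) hb ha
  have hR1 : R ≠ ⊥ := by
    intro hbot
    refine hq1 (eq_bot_iff.2 (hbot ▸ ?_))
    intro b hb
    haveI : ((pc q Y).comap D.subtype).Normal :=
      Cores.subgroupOf_normal_of_le_normalizer (hDY.trans (le_normalizer_pc q Y))
    exact ⟨⟨b, hpcD hb⟩, IsPGroup.le_sylow_of_normal
      ((isPGroup_pc q Y).comap_subtype : IsPGroup q ((pc q Y).subgroupOf D)) QD hb, rfl⟩
  have hU1 : U ≠ ⊥ := (PLocal.goodFunctor_centerThompsonOf (p := q)).ne_bot hR hR1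
  have hUR : U ≤ R := inf_le_left.trans (PLocal.thompsonSubgroupOf_le R)
  have hoddel : ∀ {K : Subgroup G}, Odd (Nat.card K) →
      ∀ (w : K) (n : ℕ), w ^ 2 ^ n = 1 → w * w = 1 := by
    intro K hK w n hw
    obtain ⟨j, -, hj⟩ := (Nat.dvd_prime_pow Nat.prime_two).1 (orderOf_dvd_of_pow_eq_one hw)
    have h1 : w = 1 := orderOf_eq_one_iff.1 (Nat.eq_one_of_dvd_coprimes
      ((Nat.coprime_two_left.2 hK).pow_left j) (dvd_of_eq hj) (orderOf_dvd_natCard w))
    rw [h1, one_mul]
  -- the factorisation in a group with Sylow subgroup `R`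
  have hfac : ∀ (K : Subgroup G) (S : Sylow q K), Odd (Nat.card K) →
      (S : Subgroup K).map K.subtype = R → ∀ g ∈ K,
      ∃ a ∈ Bender.core q K, ∃ n ∈ K ⊓ normalizer (U : Set G), g = a * n := by
    intro K S hK hS g hg
    haveI : Group.IsSolvable K := OddOrderTheorem.solvable hK
    obtain ⟨a, ha, n, hn, hgn⟩ :=
      Bender.mul_centerThompson_of_solvable hq2 (hoddel hK) S ⟨g, hg⟩
    refine ⟨a, ⟨a, ha, rfl⟩, n, ⟨n.2, ?_⟩, congrArg Subtype.val hgn⟩
    rw [hUdef, ← hS, ← PLocal.map_centerThompsonOf K.subtype K.subtype_injective.injOn]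
    exact le_normalizer_map K.subtype (mem_map_of_mem _ hn)
  have hDodd : Odd (Nat.card D) := hL.of_dvd_nat (card_dvd_of_le (hDY.trans hYL))
  have hDU : D ≤ normalizer (U : Set G) := by
    intro g hg
    obtain ⟨a, ha, n, hn, rfl⟩ := hfac D QD hDodd rfl g hg
    refine mul_mem ?_ hn.2
    refine centralizer_le_normalizer _ (mem_centralizer_iff.2 fun u hu => ?_)
    have hcore := core_le_fq (L := Y) hDY (hDn Y le_normalizer) inf_le_right ha
    exact mem_centralizer_iff.1 ((hRD (hUR hu)).2) a hcore |>.symm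
  have hUinv : ∀ x : G, x ∈ normalizer (D : Set G) → x ∈ normalizer (U : Set G) := by
    intro x hx
    obtain ⟨d, hd, hdx⟩ := exists_frattini QD hx
    have h1 := mul_mem (hDU hd) (Bender.normalizer_le_normalizer_centerThompsonOf R hdx)
    rwa [mul_inv_cancel_left] at h1
  have hNU : L ⊓ normalizer (U : Set G) ≤ Y :=
    hloc U hU1 ((hUR.trans hRD).trans hDY) (fun y hy => hUinv y (hDn Y le_normalizer hy))
      fun x hx => hUinv x (hDn X hX hx)
  -- `R` is a Sylow subgroup of `C`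
  obtain ⟨QC, hQC⟩ := ((hR.comap_subtype : IsPGroup q (R.subgroupOf C))).exists_le_sylow
  have hRC : R ≤ (QC : Subgroup C).map C.subtype := fun r hr =>
    ⟨⟨r, hDC (hRD hr)⟩, hQC hr, rfl⟩
  have heq : (QC : Subgroup C).map C.subtype = R := by
    refine le_antisymm ?_ hRC
    by_contra hne
    have hlt : R.subgroupOf C < (QC : Subgroup C) := lt_of_le_of_ne hQC fun e => hne (by
      rw [← e, map_subgroupOf_eq_of_le (hRD.trans hDC)])
    haveI : Group.IsNilpotent QC := QC.isPGroup'.isNilpotent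
    have hlt' : (R.subgroupOf C).subgroupOf (QC : Subgroup C) < ⊤ := lt_top_iff_ne_top.2 fun e =>
      hlt.not_ge (subgroupOf_eq_top.1 e)
    obtain ⟨y, hy, hyR⟩ :=
      SetLike.exists_of_lt (Group.normalizerCondition_of_isNilpotent _ hlt')
    have hyN : ((y : C) : G) ∈ normalizer (R : Set G) := by
      refine Signalizer.mem_normalizer_of_conj_mem fun r hr => ?_
      have := (mem_normalizer_iff.1 hy (⟨⟨r, hDC (hRD hr)⟩, hQC hr⟩ : (QC : Subgroup C))).1 hr
      exact this
    have hyY : ((y : C) : G) ∈ Y := hNU ⟨(y : C).2.1,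
      Bender.normalizer_le_normalizer_centerThompsonOf R hyN⟩
    obtain ⟨n, hn⟩ := QC.isPGroup' y
    have hyD : ((y : C) : G) ∈ D := hqD _ (y : C).2 hyY
      ⟨n, congrArg (fun w : (QC : Subgroup C) => ((w : C) : G)) hn⟩
    refine hyR ?_
    set P := (QD : Subgroup D) ⊔ zpowers (⟨_, hyD⟩ : D)
    have hP : IsPGroup q P := by
      refine QD.isPGroup'.to_sup_of_normal_left' ?_ ?_
      · refine IsPGroup.iff_orderOf.2 fun x => ?_
        have hy' : (⟨_, hyD⟩ : D) ^ q ^ n = 1 :=
          Subtype.ext (congrArg (fun w : (QC : Subgroup C) => ((w : C) : G)) hn)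
        obtain ⟨k, -, hk⟩ := (Nat.dvd_prime_pow hqp).1 ((orderOf_dvd_of_pow_eq_one
          (show x ^ q ^ n = 1 by
            obtain ⟨_, i, rfl⟩ := x
            refine Subtype.ext ?_
            simp only [SubmonoidClass.coe_pow, OneMemClass.coe_one]
            rw [← zpow_natCast, ← zpow_mul, mul_comm, zpow_mul, zpow_natCast, hy', one_zpow])))
        exact ⟨k, hk⟩
      · refine zpowers_le.2 (Signalizer.mem_normalizer_of_conj_mem fun r hr => ?_)
        obtain ⟨w, hw, hwe⟩ := (mem_normalizer_iff.1 hyN (r : G)).1 (mem_map_of_mem _ hr)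
        rwa [show (⟨_, hyD⟩ : D) * r * (⟨_, hyD⟩ : D)⁻¹ = w from Subtype.ext hwe.symm]
    have hmax := QD.is_maximal' hP le_sup_left
    have hyQ : (⟨_, hyD⟩ : D) ∈ (QD : Subgroup D) :=
      hmax.le (le_sup_right (a := (QD : Subgroup D)) (mem_zpowers _))
    exact ⟨_, hyQ, rfl⟩
  have hCodd : Odd (Nat.card C) := hL.of_dvd_nat (card_dvd_of_le hCL)
  have hCY : C ≤ Y := by
    intro g hg
    obtain ⟨a, ha, n, hn, rfl⟩ := hfac C QC hCodd heq g hg
    exact mul_mem (fq_le q Y (hfle (core_le_fq hCL hCn inf_le_right ha)))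
      (hNU ⟨hCL hn.1, hn.2⟩)
  intro g hg
  obtain ⟨c, hc, hcg⟩ := exists_frattini QC (hCn hg)
  rw [heq] at hcg
  have h1 := hNU ⟨L.mul_mem (L.inv_mem (hCL hc)) hg,
    Bender.normalizer_le_normalizer_centerThompsonOf R hcg⟩
  have h2 := Y.mul_mem (hCY hc) h1
  rwa [mul_inv_cancel_left] at h2

end Cfsg.Agent.CoreKilling
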