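import Cfsg.Agent.Lib.CoreKilling.GenPartOneFinal

/-!
# Core killing for a general equivariant functor (owner: helper82)

* `Gen.le_core_group`, `Gen.theta_bot` : `W ≤ O(G)`; `θ t = 1` when `O(G) = 1`
-/

set_option autoImplicit false
set_option linter.style.haveILetI false

namespace Cfsg.Agent.CoreKilling

universe u

variable {G : Type u} [Group G] [Finite G] {θ : G → Subgroup G} {S : Sylow 2 G} {W : Subgroup G}

/-- Core killing: `W ≤ O(G)`. -/
theorem Gen.le_core_group (h : Gen θ S W) : W ≤ Cfsg.oddCore G :=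
  h.le_oddCore partOneGoal TwoCore.locGoal

/-- Core killing: `θ t = 1` for every involution `t`, if `O(G) = 1`. -/
theorem Gen.theta_bot (h : Gen θ S W) (hO : Cfsg.oddCore G = ⊥) {t : G} (ht : orderOf t = 2) :
    θ t = ⊥ :=
  h.theta_eq_bot partOneGoal TwoCore.locGoal hO ht

end Cfsg.Agent.CoreKilling
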