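import Cfsg.Agent.Lib.CoreKilling.GenTools
import Cfsg.Agent.Lib.Aschbacher.CriterionL2Final
import Cfsg.Agent.Lib.Bender.CoreInCore
import Cfsg.Agent.Lib.Bender.RankOneHalf

/-!
# Core killing, part I: no good central involution

For `O(G) = 1`, `W ≠ 1` and `z` an involution central in `S`, `C(z)` is not in `N(W)`.

* `Gen.mul_conj_good` : products of two commuting conjugates of a good central involution are good
* `Gen.not_good_central` : so Aschbacher's criterion makes `N(W)` strongly embedded, and `W = 1`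
* `Gen.not_centralized` : no involution of `N(W)` centralises `W`
-/

set_option autoImplicit false
set_option linter.unusedSectionVars false
set_option linter.style.haveILetI false

namespace Cfsg.Agent.CoreKilling

open Subgroup Involution
open scoped Pointwise

universe u

variable {G : Type u} [Group G] [Finite G] {θ : G → Subgroup G} {S : Sylow 2 G} {W : Subgroup G}

local notation "M" => normalizer (W : Set G)

/-- A central involution `u` and a central involution `z` of `S`: `z` is not conjugate to `z * u`. -/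
theorem not_conj_mul_central {z x : G} (hx : orderOf x = 2) (hxc : x ∈ center G)
    (hzc : ∀ s ∈ S, Commute s z) {m : G} (hm : m * z * m⁻¹ = z * x) : False := by
  haveI : Fact (Nat.Prime 2) := ⟨Nat.prime_two⟩
  have hxg : ∀ g : G, Commute g x := fun g => mem_center_iff.1 hxc g
  have hxx : x * x = 1 := mul_self hx
  have hpow : ∀ j : ℕ, m ^ j * z * (m ^ j)⁻¹ = z * x ^ j := by
    intro j
    induction j with
    | zero => simp
    | succ j ih =>
      calc m ^ (j + 1) * z * (m ^ (j + 1))⁻¹ = m * (m ^ j * z * (m ^ j)⁻¹) * m⁻¹ := by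
            rw [pow_succ']; group
        _ = m * z * m⁻¹ * (m * x ^ j * m⁻¹) := by rw [ih]; group
        _ = z * x ^ (j + 1) := by
            rw [hm, ((hxg m).pow_right j).eq, mul_inv_cancel_right, mul_assoc, pow_succ']
  obtain ⟨a, b, hb, hab⟩ := Nat.exists_eq_pow_mul_and_not_dvd (orderOf_pos m).ne' 2 (by norm_num)
  have hn2 : (m ^ b) ^ 2 ^ a = 1 := by rw [← pow_mul, mul_comm, ← hab, pow_orderOf_eq_one]
  obtain ⟨j, rfl⟩ : ∃ j, b = 2 * j + 1 := ⟨b / 2, by omega⟩
  have hn : m ^ (2 * j + 1) * z * (m ^ (2 * j + 1))⁻¹ = z * x := by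
    rw [hpow, pow_succ, pow_mul, sq, hxx, one_pow, one_mul]
  set n := m ^ (2 * j + 1)
  -- the stabiliser of the pair
  let Γ : Subgroup G :=
    { carrier := {g | g * z * g⁻¹ = z ∨ g * z * g⁻¹ = z * x}
      one_mem' := Or.inl (by group)
      mul_mem' := by
        rintro g k hg hk
        have e : g * k * z * (g * k)⁻¹ = g * (k * z * k⁻¹) * g⁻¹ := by group
        rcases hk with hk | hk <;> rcases hg with hg | hg <;>
          simp only [Set.mem_setOf_eq, e, hk]
        · exact Or.inl hg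
        · exact Or.inr hg
        · right
          rw [show g * (z * x) * g⁻¹ = g * z * (x * g⁻¹) by group, ← (hxg g⁻¹).eq, ← mul_assoc, hg]
        · left
          rw [show g * (z * x) * g⁻¹ = g * z * (x * g⁻¹) by group, ← (hxg g⁻¹).eq, ← mul_assoc, hg,
            mul_assoc, hxx, mul_one]
      inv_mem' := by
        rintro g (hg | hg) <;> simp only [Set.mem_setOf_eq]
        · left
          calc g⁻¹ * z * g⁻¹⁻¹ = g⁻¹ * (g * z * g⁻¹) * g := by rw [hg, inv_inv]
            _ = z := by group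
        · right
          calc g⁻¹ * z * g⁻¹⁻¹ = g⁻¹ * (g * z * g⁻¹ * x) * g := by
                rw [hg, inv_inv, mul_assoc z x x, hxx, mul_one]
            _ = z * g⁻¹ * (x * g) := by group
            _ = z * x := by rw [← (hxg g).eq, mul_assoc, inv_mul_cancel_left] }
  have hSΓ : (S : Subgroup G) ≤ Γ := fun s hs =>
    Or.inl (by rw [(hzc s hs).eq, mul_inv_cancel_right])
  have hnΓ : n ∈ Γ := Or.inr hn
  obtain ⟨c, hc, hcS⟩ := TwoCore.exists_conj_sylow_mem S hSΓ (P := zpowers n) (by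
    obtain ⟨k, -, hk⟩ := (Nat.dvd_prime_pow Nat.prime_two).1 (orderOf_dvd_of_pow_eq_one hn2)
    exact IsPGroup.of_card (n := k) (by rw [Nat.card_zpowers, hk])) (zpowers_le.2 hnΓ)
  have h1 := hzc _ (hcS n (mem_zpowers n))
  have h2 : Commute n (c⁻¹ * z * c) := by
    have := h1.map (MulAut.conj c⁻¹).toMonoidHom
    simpa [mul_assoc] using this
  have h3 : Commute n z := by
    have hci : c⁻¹ ∈ Γ := Γ.inv_mem hc
    rcases hci with hc' | hc' <;> rw [inv_inv] at hc' <;> rw [hc'] at h2
    · exact h2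
    · have h4 := h2.mul_right (hxg n)
      rwa [mul_assoc, hxx, mul_one] at h4
  rw [h3.eq, mul_inv_cancel_right] at hn
  exact ne_one hx (mul_left_cancel (a := z) (by rw [← hn, mul_one]))

namespace GenW

variable (h : GenW θ S W)
include h

/-- A bad involution `x` none of whose commuting conjugates can sit in `T` is central. -/
theorem mem_center_of_T (hO : Cfsg.oddCore G = ⊥) {x : G} (hx : orderOf x = 2)
    (T : Sylow 2 ↥(centralizer ({x} : Set G)))
    (hT : ∀ e ∈ T, orderOf (e : G) = 2 → (e : G) ≠ x → ∀ g : G, g * x * g⁻¹ ≠ e) : x ∈ center G := by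
  haveI : Fact (Nat.Prime 2) := ⟨Nat.prime_two⟩
  refine mem_center_of_isolated hO hx fun g hg => ?_
  by_contra hne
  set e : centralizer ({x} : Set G) := ⟨g * x * g⁻¹, mem_cent_iff.2 hg.symm⟩ with he
  obtain ⟨c, -, hc⟩ := TwoCore.exists_conj_sylow_mem T (Γ := ⊤) le_top (P := zpowers e)
    (IsPGroup.of_card (n := 1)
      (by rw [Nat.card_zpowers, Subgroup.orderOf_mk, orderOf_conj, hx, pow_one])) le_top
  have hcx : Commute (c : G) x := mem_cent_iff.1 c.2
  refine hT _ (hc e (mem_zpowers e)) ?_ ?_ ((c : G) * g) ?_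
  · simp only [Subgroup.coe_mul, Subgroup.coe_inv, he, orderOf_conj, hx]
  · intro h1
    simp only [Subgroup.coe_mul, Subgroup.coe_inv, he] at h1
    refine hne (mul_left_cancel (a := (c : G)) ?_)
    rw [hcx.eq]
    exact mul_inv_eq_iff_eq_mul.1 h1
  · simp only [Subgroup.coe_mul, Subgroup.coe_inv, he]
    group

/-- Products of two commuting conjugates of a good central involution are good. -/
theorem mul_conj_good (hO : Cfsg.oddCore G = ⊥) {z : G} (hz : orderOf z = 2) (hzS : z ∈ S)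
    (hzc : ∀ s ∈ S, Commute s z) (hgood : centralizer ({z} : Set G) ≤ M) {g : G}
    (hg : Commute z (g * z * g⁻¹)) (hne : g * z * g⁻¹ ≠ z) :
    centralizer ({z * (g * z * g⁻¹)} : Set G) ≤ M := by
  haveI : Fact (Nat.Prime 2) := ⟨Nat.prime_two⟩
  by_contra hbad
  have hzM : z ∈ M := h.norm hzS
  set z' := g * z * g⁻¹ with hz'
  have hz'2 : orderOf z' = 2 := by rw [hz', orderOf_conj, hz]
  have hz'M : z' ∈ M := hgood (mem_cent_iff.2 hg.symm)
  set x := z * z' with hxdef
  have hxM : x ∈ M := mul_mem hzM hz'M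
  have hx : orderOf x = 2 := orderOf_of_sq (by
      rw [hxdef, mul_assoc, ← mul_assoc z', ← hg.eq, mul_assoc z z' z', mul_self hz'2, mul_one,
        mul_self hz])
    (fun e => hne (by rw [hxdef, mul_eq_one_iff_eq_inv] at e; rw [← inv_eq hz'2, ← e]))
  have hzx : Commute z x := (Commute.refl z).mul_right hg
  have hzz' : z * x = z' := by rw [hxdef, ← mul_assoc, mul_self hz, one_mul]
  obtain ⟨T, hTM, hTz⟩ := h.exists_sylow hxM hx (P := zpowers z)
    (IsPGroup.of_card (n := 1) (by rw [Nat.card_zpowers, hz, pow_one]))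
    (le_inf (zpowers_le.2 (mem_cent_iff.2 hzx)) (zpowers_le.2 hzM))
  obtain ⟨m, hm, hmC, hmT, hmc⟩ := h.exists_central hTM hx hz hzS hzc
  have hvgood := h.good_of_conj hm hgood
  have hvd : m * z * m⁻¹ ≠ x := fun e => hbad (e ▸ hvgood)
  have D : CentData W x T ⟨m * z * m⁻¹, hmC⟩ :=
    ⟨hx, hxM, hbad, hTM, by rw [orderOf_conj]; exact hz, hvd, hmT, hmc⟩
  -- the second class is good too
  have hvx : centralizer ({m * z * m⁻¹ * x} : Set G) ≤ M := by
    obtain ⟨c, hc, hce⟩ := D.exists_conj h (hTz z (mem_zpowers z)) hz (fun e => ne_one hz'2 (by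
      change z = x at e
      rw [← hzz', ← e, mul_self hz]))
    have hcx : Commute c x := mem_cent_iff.1 hc.1
    rcases hce with e | e
    · have hg' : centralizer ({z'} : Set G) ≤ M := (h.good_conj hz hzM hz'M).2 hgood
      refine (h.good_iff hc.2).1 ?_
      rw [show c * (m * z * m⁻¹ * x) * c⁻¹ = c * (m * z * m⁻¹) * c⁻¹ * (c * x * c⁻¹) by group,
        hcx.eq, mul_inv_cancel_right]
      change z = c * (m * z * m⁻¹) * c⁻¹ at e
      rw [← e, hzz']
      exact hg'
    · refine (h.good_iff hc.2).1 ?_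
      change z = c * (m * z * m⁻¹ * x) * c⁻¹ at e
      rw [← e]
      exact hgood
  have hxc : x ∈ center G := h.mem_center_of_T hO hx T fun e he he2 hex k hk => by
    have hgood_e : centralizer ({(e : G)} : Set G) ≤ M := by
      obtain ⟨c, hc, hce⟩ := D.exists_conj h he he2 hex
      rcases hce with e' | e' <;> rw [e']
      · exact h.good_of_conj hc.2 hvgood
      · exact h.good_of_conj hc.2 hvx
    refine hbad ((h.good_conj (g := k) hx hxM (hk ▸ hTM e he)).1 ?_)
    rw [hk]
    exact hgood_e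
  exact not_conj_mul_central (S := S) hx hxc hzc (m := g) hzz'.symm

/-- **No good central involution.** -/
theorem not_good_central (hO : Cfsg.oddCore G = ⊥) (hW : W ≠ ⊥) {z : G} (hz : orderOf z = 2)
    (hzS : z ∈ S) (hzc : ∀ s ∈ S, Commute s z) : ¬ centralizer ({z} : Set G) ≤ M := by
  intro hgood
  haveI : Fact (Nat.Prime 2) := ⟨Nat.prime_two⟩
  have hzM : z ∈ M := h.norm hzS
  have hMtop := h.ne_top hO hW
  have hiff : ∀ g : G, g * z * g⁻¹ ∈ M ↔ g ∈ M := fun g =>
    ⟨h.good_ctl hz hzM hgood, fun hg => mul_mem (mul_mem hg hzM) (inv_mem hg)⟩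
  set N := (M : Subgroup G).normalCore with hN
  haveI hNn : N.Normal := normalCore_normal _
  have hNM : N ≤ M := normalCore_le _
  have hNbot : N = ⊥ := by
    by_contra hne
    -- `N` has an involution, and it centralises `W`
    have heven : 2 ∣ Nat.card N := by
      by_contra hodd
      have h1 := Cores.le_pPrimeCore hNn ((Nat.prime_two.coprime_iff_not_dvd).2 hodd).symm
      rw [show Cfsg.pPrimeCore 2 G = ⊥ from hO, le_bot_iff] at h1
      exact hne h1
    obtain ⟨⟨x, hxN⟩, hx2⟩ := exists_prime_orderOf_dvd_card' (G := N) 2 heven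
    rw [Subgroup.orderOf_mk] at hx2
    obtain ⟨m, hm, hmS⟩ := h.exists_conj_involution (hNM hxN) hx2
    have hNS : (N.subgroupOf (S : Subgroup G)) ≠ ⊥ := fun e => by
      have h1 : (⟨_, hmS⟩ : (S : Subgroup G)) ∈ N.subgroupOf (S : Subgroup G) :=
        mem_subgroupOf.2 (hNn.conj_mem x hxN m)
      rw [e, mem_bot] at h1
      have h2 : m * x * m⁻¹ = 1 := congrArg Subtype.val h1
      rw [conj_eq_one_iff] at h2
      exact ne_one hx2 h2
    obtain ⟨y, hyN, hyc, hy⟩ := PGroup.exists_central_order_p S.isPGroup' hNS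
    rw [← Subgroup.orderOf_coe] at hy
    rw [mem_subgroupOf] at hyN
    have hWy : W ≤ centralizer ({(y : G)} : Set G) := fun w hw => by
      have h1 : w * y * w⁻¹ * (y : G)⁻¹ = 1 := h.eq_one_of_all_conj hO ?_ fun g => ?_
      · exact mem_cent_iff.2 (mul_inv_eq_iff_eq_mul.1 (mul_inv_eq_one.1 h1))
      · rw [show w * y * w⁻¹ * (y : G)⁻¹ = w * ((y : G) * w⁻¹ * (y : G)⁻¹) by group]
        exact W.mul_mem hw ((mem_normalizer_iff.1 (hNM hyN) _).1 (W.inv_mem hw))
      · have h2 : w * y * w⁻¹ * (y : G)⁻¹ ∈ N :=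
          N.mul_mem (hNn.conj_mem _ hyN w) (N.inv_mem hyN)
        have h3 := hNn.conj_mem _ h2 g⁻¹
        rw [inv_inv] at h3
        exact hNM h3
    have hygood : centralizer ({(y : G)} : Set G) ≤ M := by
      have := h.centralizer_le_normalizer (y : G)
      rwa [← h.fix _ y.2 hy, inf_eq_left.2 hWy] at this
    exact hMtop (eq_top_iff.2 fun g _ =>
      h.good_ctl hy (h.norm y.2) hygood (hNM (hNn.conj_mem _ hyN g)))
  have hSE := Aschbacher.coreFreeCriterion G S z (M : Subgroup G) hz hzS hzc hMtop hNbot hiff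
    (fun g hg hne => h.mul_conj_good hO hz hzS hzc hgood hg hne)
  set K := normalClosure ({z} : Set G) with hK
  haveI hKn : K.Normal := normalClosure_normal
  have hKcore : Cfsg.pPrimeCore 2 K = ⊥ := by
    have h3 := Cores.pPrimeCore_map_subtype (p := 2) K
    rw [show Cfsg.pPrimeCore 2 G = ⊥ from hO, bot_inf_eq, Subgroup.map_eq_bot_iff,
      Subgroup.ker_subtype] at h3
    exact le_bot_iff.1 h3
  -- `W` meets `K` trivially, so centralises `K ⊓ M`
  have hWK : ∀ w ∈ W, w ∈ K → w = 1 := by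
    intro w hw hwK
    set H' := (M : Subgroup G).subgroupOf K with hH'
    set A : Subgroup H' := (W.subgroupOf K).subgroupOf H' with hA
    haveI : A.Normal := ⟨fun a ha n => mem_subgroupOf.2 (mem_subgroupOf.2
      ((mem_normalizer_iff.1 (mem_subgroupOf.1 n.2) _).1
        (mem_subgroupOf.1 (mem_subgroupOf.1 ha))))⟩
    have hodd : ¬ 2 ∣ Nat.card A := fun hd => h.oddW (hd.trans
      ((card_comap_dvd_of_injective _ H'.subtype H'.subtype_injective).trans
        (card_comap_dvd_of_injective W K.subtype K.subtype_injective)))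
    have h1 := Cores.le_pPrimeCore inferInstance ((Nat.prime_two.coprime_iff_not_dvd).2 hodd).symm
    have h2 := Bender.oddCore_le Bender.rankOneHalf hSE
    have hwM : (⟨w, hwK⟩ : K) ∈ H' := mem_subgroupOf.2 (le_normalizer hw)
    have h3 : (⟨w, hwK⟩ : K) ∈ Cfsg.oddCore K :=
      h2 ⟨⟨_, hwM⟩, h1 (mem_subgroupOf.2 (mem_subgroupOf.2 hw)), rfl⟩
    rw [show Cfsg.oddCore K = ⊥ from hKcore, mem_bot] at h3
    exact congrArg Subtype.val h3
  have hcomm : ∀ w ∈ W, ∀ k ∈ K, k ∈ M → Commute w k := fun w hw k hk hkM => by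
    refine mul_inv_eq_iff_eq_mul.1 (mul_inv_eq_one.1 (hWK (w * k * w⁻¹ * k⁻¹) ?_ ?_))
    · rw [show w * k * w⁻¹ * k⁻¹ = w * (k * w⁻¹ * k⁻¹) by group]
      exact W.mul_mem hw ((mem_normalizer_iff.1 hkM _).1 (W.inv_mem hw))
    · exact K.mul_mem (hKn.conj_mem k hk w) (K.inv_mem hk)
  -- so it centralises `K`
  set L : Subgroup G := K ⊔ W with hL
  have hWL : W ≤ L := le_sup_right
  have hdec : ∀ l ∈ L, ∃ k ∈ K, ∃ w ∈ W, l = k * w := fun l hl => by
    obtain ⟨k, hk, w, hw, e⟩ := mem_sup_of_normal_left.1 hl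
    exact ⟨k, hk, w, hw, e.symm⟩
  have hinvK : ∀ t ∈ L, orderOf t = 2 → t ∈ K := by
    intro t ht ht2
    obtain ⟨k, hk, w, hw, rfl⟩ := hdec t ht
    set π := QuotientGroup.mk' K
    have hπ : π (k * w) = π w := by
      rw [map_mul, show π k = 1 from (QuotientGroup.eq_one_iff k).2 hk, one_mul]
    have h1 : orderOf (π (k * w)) ∣ Nat.gcd 2 (Nat.card W) := by
      refine Nat.dvd_gcd (ht2 ▸ orderOf_map_dvd π _) ?_
      rw [hπ]
      exact (orderOf_map_dvd π w).trans (Subgroup.orderOf_dvd_natCard W hw)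
    rw [(Nat.prime_two.coprime_iff_not_dvd).2 h.oddW, Nat.dvd_one, orderOf_eq_one_iff] at h1
    exact (QuotientGroup.eq_one_iff _).1 h1
  have hKL : K ≤ L := le_sup_left
  have hzK : z ∈ K := subset_normalClosure rfl
  have hKM : ¬ K ≤ M := fun hle => by
    have := Subgroup.normal_le_normalCore.2 hle hzK
    rw [← hN, hNbot, mem_bot] at this
    exact ne_one hz this
  have hSEL : Cfsg.IsStronglyEmbedded ((M : Subgroup G).subgroupOf L) := by
    refine Involution.isStronglyEmbedded_iff_forall.2 ⟨fun e => hKM fun k hk => ?_, ?_, ?_⟩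
    · exact mem_subgroupOf.1 (show (⟨k, hKL hk⟩ : L) ∈ (M : Subgroup G).subgroupOf L from
        e ▸ mem_top _)
    · rw [even_iff_two_dvd]
      calc 2 = orderOf (⟨z, hKL hzK⟩ : L) := by rw [Subgroup.orderOf_mk, hz]
        _ ∣ _ := Subgroup.orderOf_dvd_natCard _ (mem_subgroupOf.2 hzM)
    · intro g t ht htM hg
      rw [← Subgroup.orderOf_coe] at ht
      rw [mem_subgroupOf] at htM hg ⊢
      simp only [Subgroup.coe_mul, Subgroup.coe_inv] at hg
      have htK := hinvK t t.2 ht
      obtain ⟨k, hk, w, hw, hgkw⟩ := hdec g g.2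
      have hwt : Commute w (t : G) := hcomm w hw t htK htM
      rw [hgkw, show k * w * (t : G) * (k * w)⁻¹ = k * (w * t * w⁻¹) * k⁻¹ by group, hwt.eq,
        mul_inv_cancel_right] at hg
      have := Involution.mem_of_conj_mem hSE (g := (⟨k, hk⟩ : K)) (t := ⟨t, htK⟩)
        (by rw [Subgroup.orderOf_mk]; exact ht) (mem_subgroupOf.2 htM) (mem_subgroupOf.2 hg)
      rw [hgkw]
      exact mul_mem (mem_subgroupOf.1 this) (le_normalizer hw)
  set H' := (M : Subgroup G).subgroupOf L with hH'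
  set A : Subgroup H' := (W.subgroupOf L).subgroupOf H' with hA
  haveI : A.Normal := ⟨fun a ha n => mem_subgroupOf.2 (mem_subgroupOf.2
    ((mem_normalizer_iff.1 (mem_subgroupOf.1 n.2) _).1
      (mem_subgroupOf.1 (mem_subgroupOf.1 ha))))⟩
  have hodd : ¬ 2 ∣ Nat.card A := fun hd => h.oddW (hd.trans
    ((card_comap_dvd_of_injective _ H'.subtype H'.subtype_injective).trans
      (card_comap_dvd_of_injective W L.subtype L.subtype_injective)))
  have hA1 := Cores.le_pPrimeCore inferInstance ((Nat.prime_two.coprime_iff_not_dvd).2 hodd).symm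
  have hA2 := Bender.oddCore_le Bender.rankOneHalf hSEL
  haveI : (Cfsg.oddCore L).Normal := Cores.pPrimeCore_normal 2 _
  have hcentK : ∀ w ∈ W, ∀ k ∈ K, Commute k w := by
    intro w hw k hk
    set wL : L := ⟨w, hWL hw⟩
    have hwO : wL ∈ Cfsg.oddCore L :=
      hA2 ⟨⟨wL, mem_subgroupOf.2 (le_normalizer hw)⟩,
        hA1 (mem_subgroupOf.2 (mem_subgroupOf.2 hw)), rfl⟩
    set kL : L := ⟨k, hKL hk⟩
    haveI : (K.subgroupOf L).Normal := inferInstance
    have hc : kL * wL * kL⁻¹ * wL⁻¹ ∈ Cfsg.oddCore L ⊓ K.subgroupOf L := by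
      refine ⟨(Cfsg.oddCore L).mul_mem (‹(Cfsg.oddCore L).Normal›.conj_mem _ hwO kL)
        ((Cfsg.oddCore L).inv_mem hwO),
        mem_subgroupOf.2 ?_⟩
      simp only [Subgroup.coe_mul, Subgroup.coe_inv]
      show k * w * k⁻¹ * w⁻¹ ∈ K
      rw [show k * w * k⁻¹ * w⁻¹ = k * (w * k⁻¹ * w⁻¹) by group]
      exact K.mul_mem hk (hKn.conj_mem _ (K.inv_mem hk) w)
    set B := ((Cfsg.oddCore L ⊓ K.subgroupOf L).map L.subtype).subgroupOf K with hB
    haveI : B.Normal := ⟨fun a ha n => by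
      obtain ⟨b, hb, hba⟩ := mem_subgroupOf.1 ha
      haveI : (Cfsg.oddCore L ⊓ K.subgroupOf L).Normal := inferInstance
      refine mem_subgroupOf.2 ⟨⟨n, hKL n.2⟩ * b * (⟨n, hKL n.2⟩ : L)⁻¹,
        ‹(Cfsg.oddCore L ⊓ K.subgroupOf L).Normal›.conj_mem b hb _, ?_⟩
      simp only [map_mul, map_inv, hba, Subgroup.coe_subtype, Subgroup.coe_mul, Subgroup.coe_inv]⟩
    have hBodd : (Nat.card B).Coprime 2 := by
      refine Nat.Coprime.coprime_dvd_left ?_ (Cores.coprime_card_pPrimeCore 2 (G := L))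
      refine (card_comap_dvd_of_injective _ K.subtype K.subtype_injective).trans ?_
      rw [Cores.card_map_subtype]
      exact card_dvd_of_le inf_le_left
    have hB1 := Cores.le_pPrimeCore inferInstance hBodd
    have hmem : (⟨k * w * k⁻¹ * w⁻¹, mem_subgroupOf.1 hc.2⟩ : K) ∈ B :=
      mem_subgroupOf.2 ⟨_, hc, rfl⟩
    have h0 := hB1 hmem
    rw [hKcore, mem_bot] at h0
    exact mul_inv_eq_iff_eq_mul.1 (mul_inv_eq_one.1 (congrArg Subtype.val h0))
  refine hKM fun k hk => mem_normalizer_iff.2 fun w => ⟨fun hw => ?_, fun hw => ?_⟩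
  · rwa [(hcentK w hw k hk).eq, mul_inv_cancel_right]
  · have := hcentK _ hw k hk
    have h1 : k * w * k⁻¹ = w := by
      have h2 : k⁻¹ * (k * (k * w * k⁻¹)) * k = k⁻¹ * ((k * w * k⁻¹) * k) * k := by rw [this.eq]
      calc k * w * k⁻¹ = k⁻¹ * (k * (k * w * k⁻¹)) := by group
        _ = k⁻¹ * ((k * w * k⁻¹) * k) := by rw [this.eq]
        _ = w := by group
    rwa [h1] at hw

/-- No involution of `N(W)` centralises `W`. -/
theorem not_centralized (hO : Cfsg.oddCore G = ⊥) (hW : W ≠ ⊥) :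
    ∀ x ∈ M, orderOf x = 2 → ¬ W ≤ centralizer ({x} : Set G) := fun _ hxM hx hle => by
  obtain ⟨z, hzS, hz, hzc, hgood⟩ := h.exists_central_fix hxM hx hle
  exact h.not_good_central hO hW hz hzS hzc hgood

end GenW

end Cfsg.Agent.CoreKilling
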