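import Cfsg.Agent.Lib.CoreKilling.GenDefs
import Cfsg.Agent.Lib.Signalizer.Basic

/-!
# Restriction and quotient of a `Gen` (owner: helper82)

* `Gen.restrict` : to a subgroup containing `S`
* `Gen.quotient` : to the quotient by an odd normal subgroup
-/

set_option autoImplicit false
set_option linter.unusedSectionVars false
set_option linter.style.haveILetI false

namespace Cfsg.Agent.CoreKilling

open Subgroup

universe u

variable {G : Type u} [Group G] [Finite G] {θ : G → Subgroup G} {S : Sylow 2 G} {W : Subgroup G}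

/-- The restriction of a functor to a subgroup. -/
def thetaRes (θ : G → Subgroup G) (K : Subgroup G) (a : K) : Subgroup K :=
  (θ a).subgroupOf K

/-- The image of a functor in a quotient by an odd normal subgroup. -/
def thetaQuot (θ : G → Subgroup G) (N : Subgroup G) [N.Normal] (b : G ⧸ N) : Subgroup (G ⧸ N) :=
  ⨆ a : {a : G // orderOf a = 2 ∧ QuotientGroup.mk' N a = b}, (θ a).map (QuotientGroup.mk' N)

theorem not_two_dvd_of_le {A B : Subgroup G} (hAB : A ≤ B) (hB : ¬ 2 ∣ Nat.card B) :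
    ¬ 2 ∣ Nat.card A := fun h => hB (h.trans (card_dvd_of_le hAB))

/-- Restriction to a subgroup containing `S`. -/
theorem GenBase.restrict (h : GenBase θ S W) {K : Subgroup G} (hSK : (S : Subgroup G) ≤ K) :
    GenBase (thetaRes θ K) (S.subtype hSK) (W.subgroupOf K) where
  eqv g a := by
    ext x
    rw [thetaRes, mem_subgroupOf, Signalizer.mem_map_conj, thetaRes, mem_subgroupOf,
      Subgroup.coe_mul, Subgroup.coe_mul, Subgroup.coe_inv, h.eqv, Signalizer.mem_map_conj]
    simp only [Subgroup.coe_mul, Subgroup.coe_inv]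
  le a ha x hx := by
    refine mem_centralizer_singleton_iff.2 (Subtype.ext ?_)
    exact mem_centralizer_singleton_iff.1
      (h.le a (by rwa [Subgroup.orderOf_coe]) (mem_subgroupOf.1 hx))
  odd a ha hdvd := h.odd a (by rwa [Subgroup.orderOf_coe]) (by
    refine hdvd.trans ?_
    rw [← Cores.card_map_subtype]
    exact card_dvd_of_le (map_le_iff_le_comap.2 le_rfl))
  oddW hdvd := h.oddW (by
    refine hdvd.trans ?_
    rw [← Cores.card_map_subtype]
    exact card_dvd_of_le (map_le_iff_le_comap.2 le_rfl))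
  norm := Signalizer.le_normalizer_of_conj_mem fun s hs w hw => by
    rw [mem_subgroupOf] at hw ⊢
    exact Signalizer.conj_mem h.norm hs hw
  fix x hx hx2 := by
    ext y
    rw [thetaRes, mem_inf, mem_subgroupOf, mem_subgroupOf,
      ← h.fix x hx (by rwa [Subgroup.orderOf_coe]), mem_inf]
    refine and_congr Iff.rfl ?_
    rw [mem_centralizer_singleton_iff, mem_centralizer_singleton_iff, Subtype.ext_iff,
      Subgroup.coe_mul, Subgroup.coe_mul]

/-- Restriction to a subgroup containing `S`. -/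
theorem Gen.restrict (h : Gen θ S W) {K : Subgroup G} (hSK : (S : Subgroup G) ≤ K) :
    Gen (thetaRes θ K) (S.subtype hSK) (W.subgroupOf K) :=
  Gen.of (h.toGenBase.restrict hSK) fun x hx hx2 => by
    obtain ⟨F, hFS, hF, hF3, hxF⟩ := h.e8 x hx (by rwa [Subgroup.orderOf_coe])
    refine ⟨F.subgroupOf K, fun y hy => hFS hy, ⟨⟨⟨fun a b => Subtype.ext (Subtype.ext
      (Signalizer.commute_of_isMulCommutative hF.1 a.2 b.2))⟩⟩, fun a ha => Subtype.ext ?_⟩,
      ?_, hxF⟩
    · exact hF.2 _ ha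
    · rwa [Cores.card_subgroupOf (hFS.trans hSK)]

/-- Involutions with one image modulo an odd normal subgroup give one image of the functor. -/
theorem map_theta_eq (h : GenBase θ S W) (N : Subgroup G) [N.Normal] (hN : ¬ 2 ∣ Nat.card N) {a b : G}
    (ha : orderOf a = 2) (hb : orderOf b = 2)
    (hab : QuotientGroup.mk' N a = QuotientGroup.mk' N b) :
    (θ a).map (QuotientGroup.mk' N) = (θ b).map (QuotientGroup.mk' N) := by
  set o := a⁻¹ * b with ho
  have hoN : o ∈ N := QuotientGroup.eq.1 hab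
  have hainv : a⁻¹ = a := Involution.inv_eq ha
  have hinv : a * o * a⁻¹ = o⁻¹ := by
    rw [ho, hainv, mul_inv_rev, ← mul_assoc, Involution.mul_self ha, one_mul, hainv,
      Involution.inv_eq hb]
  obtain ⟨k, hk⟩ : Odd (orderOf o) := Nat.not_even_iff_odd.1 fun he =>
    hN ((even_iff_two_dvd.1 he).trans (Subgroup.orderOf_dvd_natCard N hoN))
  set r := o ^ (k + 1) with hr
  have hrN : r ∈ N := pow_mem hoN _
  have hrr : r * r = o := by
    rw [hr, ← pow_add, show k + 1 + (k + 1) = (2 * k + 1) + 1 by ring, pow_succ, ← hk,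
      pow_orderOf_eq_one, one_mul]
  have har : a * r * a⁻¹ = r⁻¹ := by
    rw [hr, ← conj_pow, hinv, inv_pow]
  have hb' : b = r⁻¹ * a * r⁻¹⁻¹ := by
    rw [inv_inv, ← har]
    calc b = a * o := by rw [ho, mul_inv_cancel_left]
      _ = a * (r * r) := by rw [hrr]
      _ = a * r * a⁻¹ * a * r := by group
  rw [hb', h.eqv, Subgroup.map_map]
  ext x
  simp only [Subgroup.mem_map, MonoidHom.coe_comp, Function.comp_apply, MulEquiv.coe_toMonoidHom,
    MulAut.conj_apply]
  refine exists_congr fun y => and_congr Iff.rfl ?_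
  rw [inv_inv, map_mul, map_mul, map_inv, show QuotientGroup.mk' N r = 1 from
    (QuotientGroup.eq_one_iff _).2 hrN, inv_one, one_mul, mul_one]

/-- Quotient by an odd normal subgroup. -/
theorem GenBase.quotient (h : GenBase θ S W) (N : Subgroup G) [N.Normal] (hN : ¬ 2 ∣ Nat.card N) :
    GenBase (thetaQuot θ N) (S.mapSurjective (QuotientGroup.mk'_surjective N))
      (W.map (QuotientGroup.mk' N)) := by
  haveI : Fact (Nat.Prime 2) := ⟨Nat.prime_two⟩
  set π := QuotientGroup.mk' N with hπ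
  have hsurj : Function.Surjective π := QuotientGroup.mk'_surjective N
  have hinjS : ∀ s ∈ S, π s = 1 → s = 1 := by
    intro s hs h1
    obtain ⟨k, hk⟩ := IsPGroup.iff_orderOf.1 S.isPGroup' ⟨s, hs⟩
    rw [Subgroup.orderOf_mk] at hk
    exact orderOf_eq_one_iff.1 (Nat.eq_one_of_dvd_coprimes
      (((Nat.prime_two.coprime_iff_not_dvd).2 hN).pow_left k) (dvd_of_eq hk)
      (Subgroup.orderOf_dvd_natCard N ((QuotientGroup.eq_one_iff s).1 h1)))
  have hlift : ∀ t ∈ (S : Subgroup G).map π, orderOf t = 2 →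
      ∃ s ∈ S, orderOf s = 2 ∧ π s = t := by
    rintro _ ⟨s, hs, rfl⟩ ht
    refine ⟨s, hs, Involution.orderOf_of_sq ?_ (fun e => ?_), rfl⟩
    · exact hinjS _ (S.mul_mem hs hs) (by rw [map_mul, Involution.mul_self ht])
    · rw [e, map_one, orderOf_one] at ht; omega
  have hval : ∀ a : G, orderOf a = 2 → thetaQuot θ N (π a) = (θ a).map π := fun a ha =>
    le_antisymm (iSup_le fun b => (map_theta_eq h N hN b.2.1 ha b.2.2).le)
      (le_iSup_of_le ⟨a, ha, rfl⟩ le_rfl)
  have hlift' : ∀ t : G ⧸ N, orderOf t = 2 → ∃ a : G, orderOf a = 2 ∧ π a = t := by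
    intro t ht
    obtain ⟨x, rfl⟩ := hsurj t
    obtain ⟨k, hk⟩ : Odd (Nat.card N) := Nat.odd_iff.2 (Nat.two_dvd_ne_zero.1 hN)
    have hx2 : x * x ∈ N := (QuotientGroup.eq_one_iff _).1
      (show π (x * x) = 1 by rw [map_mul, Involution.mul_self ht])
    have hπx : π (x ^ Nat.card N) = π x := by
      rw [map_pow, hk, pow_succ, pow_mul, sq, Involution.mul_self ht, one_pow, one_mul]
    refine ⟨x ^ Nat.card N, Involution.orderOf_of_sq ?_ (fun e => ?_), hπx⟩
    · rw [← pow_add, ← two_mul, pow_mul, sq]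
      exact orderOf_dvd_iff_pow_eq_one.1 (Subgroup.orderOf_dvd_natCard N hx2)
    · rw [← hπx, e, map_one, orderOf_one] at ht; omega
  refine ⟨fun g t => ?_, fun t ht => ?_, fun t ht => ?_, ?_, ?_, fun x hx hx2 => ?_⟩
  · obtain ⟨g, rfl⟩ := hsurj g
    refine le_antisymm (iSup_le fun a => ?_) ?_
    · refine le_trans ?_ (Subgroup.map_mono (le_iSup_of_le
        ⟨g⁻¹ * (a : G) * g⁻¹⁻¹, by rw [Involution.orderOf_conj]; exact a.2.1, by
          show π _ = t
          rw [map_mul, map_mul, map_inv, map_inv, map_inv, show π (a : G) = _ from a.2.2]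
          group⟩ le_rfl))
      rintro _ ⟨w, hw, rfl⟩
      refine ⟨π (g⁻¹ * w * g⁻¹⁻¹), mem_map_of_mem π ?_, ?_⟩
      · rw [h.eqv]
        exact ⟨w, hw, rfl⟩
      · simp only [MulEquiv.coe_toMonoidHom, MulAut.conj_apply, map_mul, map_inv]
        group
        rfl
    · rw [thetaQuot, Subgroup.map_iSup]
      refine iSup_le fun a => le_iSup_of_le ⟨g * (a : G) * g⁻¹,
        by rw [Involution.orderOf_conj]; exact a.2.1, by
          show π _ = _
          rw [map_mul, map_mul, map_inv, show π (a : G) = t from a.2.2]⟩ ?_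
      rintro _ ⟨_, ⟨w, hw, rfl⟩, rfl⟩
      refine ⟨g * w * g⁻¹, ?_, ?_⟩
      · rw [h.eqv]; exact ⟨w, hw, rfl⟩
      · simp only [MulEquiv.coe_toMonoidHom, MulAut.conj_apply, map_mul, map_inv]
        rfl
  · obtain ⟨a, ha, rfl⟩ := hlift' t ht
    rw [hval a ha]
    rintro _ ⟨w, hw, rfl⟩
    rw [mem_centralizer_singleton_iff, ← map_mul, ← map_mul,
      mem_centralizer_singleton_iff.1 (h.le a ha hw)]
  · obtain ⟨a, ha, rfl⟩ := hlift' t ht
    rw [hval a ha]
    exact fun hd => h.odd a ha (hd.trans ((θ a).card_map_dvd π))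
  · exact fun hd => h.oddW (hd.trans (W.card_map_dvd π))
  · refine Signalizer.le_normalizer_of_conj_mem ?_
    rintro _ ⟨s, hs, rfl⟩ _ ⟨w, hw, rfl⟩
    exact ⟨s * w * s⁻¹, Signalizer.conj_mem h.norm hs hw, by rw [map_mul, map_mul, map_inv]⟩
  · obtain ⟨s, hs, hs2, rfl⟩ := hlift x hx hx2
    rw [hval s hs2]
    refine le_antisymm ((Signalizer.map_inf_centralizer_le_map N (hs2 ▸ pow_orderOf_eq_one s)
      h.oddW (h.norm hs)).trans (Subgroup.map_mono (h.fix s hs hs2).le)) ?_
    rintro _ ⟨w, hw, rfl⟩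
    refine ⟨mem_map_of_mem π (h.theta_le hs hs2 hw), ?_⟩
    refine mem_centralizer_singleton_iff.2 ?_
    rw [← map_mul, ← map_mul, mem_centralizer_singleton_iff.1 (h.le s hs2 hw)]
/-- Quotient by an odd normal subgroup. -/
theorem Gen.quotient (h : Gen θ S W) (N : Subgroup G) [N.Normal] (hN : ¬ 2 ∣ Nat.card N) :
    Gen (thetaQuot θ N) (S.mapSurjective (QuotientGroup.mk'_surjective N))
      (W.map (QuotientGroup.mk' N)) := by
  haveI : Fact (Nat.Prime 2) := ⟨Nat.prime_two⟩
  refine Gen.of (h.toGenBase.quotient N hN) fun x hx hx2 => ?_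
  set π := QuotientGroup.mk' N with hπ
  have hinjS : ∀ s ∈ S, π s = 1 → s = 1 := by
    intro s hs h1
    obtain ⟨k, hk⟩ := IsPGroup.iff_orderOf.1 S.isPGroup' ⟨s, hs⟩
    rw [Subgroup.orderOf_mk] at hk
    exact orderOf_eq_one_iff.1 (Nat.eq_one_of_dvd_coprimes
      (((Nat.prime_two.coprime_iff_not_dvd).2 hN).pow_left k) (dvd_of_eq hk)
      (Subgroup.orderOf_dvd_natCard N ((QuotientGroup.eq_one_iff s).1 h1)))
  have hlift : ∀ t ∈ (S : Subgroup G).map π, orderOf t = 2 →
      ∃ s ∈ S, orderOf s = 2 ∧ π s = t := by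
    rintro _ ⟨s, hs, rfl⟩ ht
    refine ⟨s, hs, Involution.orderOf_of_sq ?_ (fun e => ?_), rfl⟩
    · exact hinjS _ (S.mul_mem hs hs) (by rw [map_mul, Involution.mul_self ht])
    · rw [e, map_one, orderOf_one] at ht; omega
  obtain ⟨s, hs, hs2, rfl⟩ := hlift x hx hx2
  obtain ⟨F, hFS, hF, hF3, hsF⟩ := h.e8 s hs hs2
  set f := π.comp F.subtype with hf
  have hfinj : Function.Injective f := (injective_iff_map_eq_one f).2 fun a ha =>
    Subtype.ext (hinjS _ (hFS a.2) ha)
  refine ⟨f.range, ?_, ⟨⟨⟨?_⟩⟩, ?_⟩, ?_, ⟨⟨s, hsF⟩, rfl⟩⟩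
  · rintro _ ⟨a, rfl⟩
    exact mem_map_of_mem π (hFS a.2)
  · rintro ⟨_, a, rfl⟩ ⟨_, b, rfl⟩
    refine Subtype.ext ((map_mul f a b).symm.trans ?_)
    rw [show a * b = b * a from
      Subtype.ext (Signalizer.commute_of_isMulCommutative hF.1 a.2 b.2)]
    exact map_mul f b a
  · rintro _ ⟨a, rfl⟩
    rw [← map_pow, show a ^ 2 = 1 from Subtype.ext (hF.2 _ a.2), map_one]
  · rwa [← Nat.card_congr (MonoidHom.ofInjective hfinj).toEquiv]

end Cfsg.Agent.CoreKilling
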