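import Cfsg.Agent.Lib.CoreKilling.GenComplete
import Cfsg.Agent.Lib.CoreKilling.GenQuotient
import Cfsg.Agent.Lib.OddOrderTheorem.Basic

/-!
# Core killing: balance and induction (owner: helper82; notes/two_core_structure.md, part III)

* `PartOneGoal` : what part I delivers
* `FirstPart.le_core` : an odd subgroup of `C(b) ⊓ N(W)` normalised by `C(b) ⊓ C(a) ⊓ N(W)` lies
  in the odd core of `C(b)`, for commuting involutions `a ≠ b` of `N(W)`
* `Gen.eq_bot_of_bot` : `W = ⊥` when `O(G) = 1`, given the induction hypothesis for all completions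
* `Gen.le_oddCore`, `Gen.theta_eq_bot` : the theorem
-/

set_option autoImplicit false
set_option linter.unusedSectionVars false
set_option linter.style.haveILetI false

namespace Cfsg.Agent.CoreKilling

open Subgroup
open scoped Pointwise

universe u

/-- The statement of part I. -/
def PartOneGoal.{v} : Prop :=
  ∀ (G : Type v) [Group G] [Finite G] (θ : G → Subgroup G) (S : Sylow 2 G) (W : Subgroup G),
    GenW θ S W → Cfsg.oddCore G = ⊥ → W ≠ ⊥ → Induct S W → ∃ z v, FirstPart S W z v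

variable {G : Type u} [Group G] [Finite G] {θ : G → Subgroup G} {S : Sylow 2 G} {W : Subgroup G}

/-- The conclusion of balance at the pair `(a, b)`. -/
def CoreAt (M : Subgroup G) (a b : G) : Prop :=
  ∀ X : Subgroup G, X ≤ centralizer ({b} : Set G) ⊓ M → ¬ 2 ∣ Nat.card X →
    centralizer ({b} : Set G) ⊓ centralizer ({a} : Set G) ⊓ M ≤ normalizer (X : Set G) →
    X ≤ Cfsg.centralizerPPrimeCore 2 b

omit [Finite G] in
theorem conj_mem_centralizer {g x y : G} (hx : x ∈ centralizer ({y} : Set G)) :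
    g * x * g⁻¹ ∈ centralizer ({g * y * g⁻¹} : Set G) := by
  rw [mem_centralizer_singleton_iff] at hx ⊢
  rw [show g * x * g⁻¹ * (g * y * g⁻¹) = g * (x * y) * g⁻¹ by group, hx]
  group

/-- Transport of `CoreAt` along an element of `M`. -/
theorem coreAt_of_conj {M : Subgroup G} {a b m : G} (hm : m ∈ M)
    (h : CoreAt M (m * a * m⁻¹) (m * b * m⁻¹)) : CoreAt M a b := by
  intro X hX hodd hn
  have hback : ∀ {c y : G}, c ∈ centralizer ({m * y * m⁻¹} : Set G) →
      m⁻¹ * c * m ∈ centralizer ({y} : Set G) := fun {c y} hc => by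
    have := conj_mem_centralizer (g := m⁻¹) hc
    rwa [show m⁻¹ * (m * y * m⁻¹) * m⁻¹⁻¹ = y by group, inv_inv] at this
  have h1 : X.map (MulAut.conj m).toMonoidHom ≤ Cfsg.centralizerPPrimeCore 2 (m * b * m⁻¹) := by
    refine h _ ?_ (by rw [card_map_of_injective (MulAut.conj m).injective]; exact hodd) ?_
    · rintro _ ⟨x, hx, rfl⟩
      exact ⟨conj_mem_centralizer (hX hx).1, M.mul_mem (M.mul_mem hm (hX hx).2) (M.inv_mem hm)⟩
    · rintro c ⟨⟨hcb, hca⟩, hcM⟩
      refine Signalizer.le_normalizer_of_conj_mem (A := zpowers c) ?_ (mem_zpowers c)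
      rintro c' hc' _ ⟨x, hx, rfl⟩
      have hc'' : c' ∈ centralizer ({m * b * m⁻¹} : Set G) ⊓ centralizer ({m * a * m⁻¹} : Set G) ⊓ M :=
        (zpowers_le.2 (mem_inf.2 ⟨mem_inf.2 ⟨hcb, hca⟩, hcM⟩) :
          zpowers c ≤ centralizer ({m * b * m⁻¹} : Set G) ⊓ centralizer ({m * a * m⁻¹} : Set G) ⊓ M) hc'
      refine ⟨m⁻¹ * c' * m * x * (m⁻¹ * c' * m)⁻¹, Signalizer.conj_mem hn ?_ hx, ?_⟩
      · exact ⟨⟨hback hc''.1.1, hback hc''.1.2⟩,
          M.mul_mem (M.mul_mem (M.inv_mem hm) hc''.2) hm⟩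
      · simp only [MulEquiv.coe_toMonoidHom, MulAut.conj_apply]
        group
  rw [← Signalizer.map_conj_centralizerPPrimeCore] at h1
  exact (map_le_map_iff_of_injective (MulAut.conj m).injective).1 h1

namespace FirstPart

variable {z v : G}

/-- An involution of `S` conjugate to `z` goes to `z` inside `N(W)`, with its centraliser in `S`
staying in `S`. -/
theorem exists_fuse (p : FirstPart S W z v) (h : GenW θ S W) {b : G} (hbS : b ∈ S)
    (hb : orderOf b = 2) (hconj : ∃ g : G, g * z * g⁻¹ = b) :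
    ∃ m ∈ normalizer (W : Set G), m * b * m⁻¹ = z ∧
      ∀ s ∈ S, Commute s b → m * s * m⁻¹ ∈ S := by
  haveI : Fact (Nat.Prime 2) := ⟨Nat.prime_two⟩
  by_cases hbz : b = z
  · subst hbz
    exact ⟨1, one_mem _, by group, fun s hs _ => by rwa [one_mul, inv_one, mul_one]⟩
  obtain ⟨g, hg⟩ := hconj
  set P : Subgroup G :=
    ((S : Subgroup G) ⊓ centralizer ({b} : Set G)).map (MulAut.conj g⁻¹).toMonoidHom with hP
  have hPC : P ≤ centralizer ({z} : Set G) := by
    rintro _ ⟨s, ⟨-, hs⟩, rfl⟩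
    have h1 := conj_mem_centralizer (g := g⁻¹) hs
    rwa [show g⁻¹ * b * g⁻¹⁻¹ = z by rw [← hg]; group] at h1
  obtain ⟨c, hc, hcP⟩ := TwoCore.exists_conj_sylow_mem S
    (Γ := centralizer ({z} : Set G))
    (fun s hs => mem_centralizer_singleton_iff.2 (p.z_comm s hs))
    ((S.isPGroup'.to_le inf_le_left).map (MulAut.conj g⁻¹).toMonoidHom) hPC
  have hsend : ∀ s ∈ S, Commute s b → c * g⁻¹ * s * (c * g⁻¹)⁻¹ ∈ S := fun s hs hsb => by
    have h1 := hcP (g⁻¹ * s * g⁻¹⁻¹) ⟨s, ⟨hs, mem_centralizer_singleton_iff.2 hsb⟩, rfl⟩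
    simpa [mul_assoc] using h1
  refine ⟨c * g⁻¹, h.fusion (TwoCore.isFour_pair p.z2 hb hbz (p.z_comm b hbS).symm)
    (sup_le (zpowers_le.2 (h.norm p.z_mem)) (zpowers_le.2 (h.norm hbS))) ?_, ?_, hsend⟩
  · refine (map_le_iff_le_comap.2 (sup_le (zpowers_le.2 ?_) (zpowers_le.2 ?_)))
    · exact h.norm (hsend z p.z_mem (p.z_comm b hbS).symm)
    · exact h.norm (hsend b hbS (Commute.refl b))
  · rw [← hg, show c * g⁻¹ * (g * z * g⁻¹) * (c * g⁻¹)⁻¹ = c * z * c⁻¹ by group,
      mem_centralizer_singleton_iff.1 hc, mul_inv_cancel_right]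

/-- Balance at commuting involutions of `N(W)`. -/
theorem le_core (p : FirstPart S W z v) (h : Gen θ S W) (hloc : TwoCore.LocGoal.{u}) {a b : G}
    (haM : a ∈ normalizer (W : Set G)) (hbM : b ∈ normalizer (W : Set G))
    (ha : orderOf a = 2) (hb : orderOf b = 2) (hne : a ≠ b) (hab : Commute a b) :
    CoreAt (normalizer (W : Set G)) a b := by
  set M := normalizer (W : Set G) with hM
  obtain ⟨m, hm, hmS⟩ := h.exists_conj_mem
    (TwoCore.isFour_pair ha hb (Ne.symm hne) hab).isPGroup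
    (sup_le (zpowers_le.2 haM) (zpowers_le.2 hbM))
  refine coreAt_of_conj hm ?_
  have haS := hmS a (le_sup_left (b := zpowers b) (mem_zpowers a))
  have hbS := hmS b (le_sup_right (a := zpowers a) (mem_zpowers b))
  have ha' : orderOf (m * a * m⁻¹) = 2 := by rw [Involution.orderOf_conj]; exact ha
  have hb' : orderOf (m * b * m⁻¹) = 2 := by rw [Involution.orderOf_conj]; exact hb
  have hne' : m * a * m⁻¹ ≠ m * b * m⁻¹ := fun e => hne (mul_left_cancel (mul_right_cancel e))
  have hab' : Commute (m * a * m⁻¹) (m * b * m⁻¹) := hab.map (MulAut.conj m).toMonoidHom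
  rcases p.dich _ hbS hb' with hconj | hsec
  · obtain ⟨n, hn, hnb, hnS⟩ := p.exists_fuse h.toGenW hbS hb' hconj
    refine coreAt_of_conj hn ?_
    rw [hnb]
    have haz : n * (m * a * m⁻¹) * n⁻¹ ≠ z := fun e =>
      hne' (mul_left_cancel (mul_right_cancel (e.trans hnb.symm)))
    have hcz : Commute (n * (m * a * m⁻¹) * n⁻¹) z := p.z_comm _ (hnS _ haS hab')
    intro X hX hodd hN
    refine TwoCore.le_core hloc S M h.norm p.z2 p.z_mem p.z_comm p.bad p.v2 p.v_mem p.vz p.mark
      (fun e he he2 => h.e8 e he he2) (fun E hE hEM g hg => h.fusion hE hEM hg)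
      (fun d hd hd2 => (p.dich d hd hd2).imp id And.left) (by rw [Involution.orderOf_conj]; exact ha')
      haz (h.norm (hnS _ haS hab')) hcz
      (hX.trans inf_le_right) (hX.trans inf_le_left) hodd fun c hcM hcz hcd x hx => ?_
    exact Signalizer.conj_mem hN ⟨⟨mem_centralizer_singleton_iff.2 hcz,
      mem_centralizer_singleton_iff.2 hcd⟩, hcM⟩ hx
  · exact hsec.2 _ (h.norm haS) ha' hne' hab'

end FirstPart

/-- The odd cores of the centralisers form a functor on the elementary groups of `S`. -/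
theorem Gen.isSolvableSignalizerFunctor {z v : G} (h : Gen θ S W) (p : FirstPart S W z v)
    (hloc : TwoCore.LocGoal.{u}) {F : Subgroup G} (hFS : F ≤ (S : Subgroup G))
    (hF : Cfsg.IsElementaryAbelian 2 F) :
    Cfsg.IsSolvableSignalizerFunctor 2 F (fun a => Cfsg.centralizerPPrimeCore 2 a) := by
  haveI : Fact (Nat.Prime 2) := ⟨Nat.prime_two⟩
  refine ⟨⟨fun a _ _ => Signalizer.core_le_centralizer a,
    fun a _ _ => Signalizer.not_dvd_card_core a,
    fun a ha _ b hb x hx => Signalizer.conj_mem (Signalizer.invariant_core hF.1 ha) hb hx, ?_⟩,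
    fun a _ _ => OddOrderTheorem.solvable (Nat.odd_iff.2
      (Nat.two_dvd_ne_zero.1 (Signalizer.not_dvd_card_core (p := 2) a)))⟩
  intro a ha ha1 b hb hb1
  by_cases hab : a = b
  · subst hab; exact inf_le_left
  have ha2 := orderOf_of_mem hF ha ha1
  have hb2 := orderOf_of_mem hF hb hb1
  have hcomm : Commute a b := Signalizer.commute_of_isMulCommutative hF.1 ha hb
  refine p.le_core h hloc (h.norm (hFS ha)) (h.norm (hFS hb)) ha2 hb2 hab hcomm _
    (le_inf inf_le_right (inf_le_left.trans (h.core_le (h.norm (hFS ha)) ha2)))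
    (not_two_dvd_of_le inf_le_left (Signalizer.not_dvd_card_core a)) ?_
  rintro c ⟨⟨hcb, hca⟩, -⟩
  refine Signalizer.le_normalizer_inf (A := zpowers c)
    (zpowers_le.2 (Signalizer.centralizer_le_normalizer_core a hca))
    (zpowers_le.2 (le_normalizer hcb)) (mem_zpowers c)

/-- `W = ⊥` when `O(G) = 1`, given the induction hypothesis. -/
theorem Gen.eq_bot_of_induct (hI : PartOneGoal.{u}) (hloc : TwoCore.LocGoal.{u})
    (h : Gen θ S W) (hO : Cfsg.oddCore G = ⊥)
    (hind : ∀ (θ' : G → Subgroup G) (W' : Subgroup G), Gen θ' S W' → Induct S W') : W = ⊥ := by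
  haveI : Fact (Nat.Prime 2) := ⟨Nat.prime_two⟩
  by_contra hW
  obtain ⟨z, v, p⟩ := hI G θ S W h.toGenW hO hW (hind θ W h)
  obtain ⟨W0, h0⟩ := exists_gen_of_mark
    (fun g a => (Signalizer.map_conj_centralizerPPrimeCore a g).symm)
    (fun a _ => Signalizer.core_le_centralizer a) (fun a _ => Signalizer.not_dvd_card_core a)
    (fun F hFS hF _ => h.isSolvableSignalizerFunctor p hloc hFS hF) h.e8
    p.z_mem p.z2 p.z_comm p.v_mem p.v2 p.vz p.mark
  -- `θ` lies in the cores
  have hθle : ∀ a : G, orderOf a = 2 → θ a ≤ Cfsg.centralizerPPrimeCore 2 a := by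
    intro a ha w hw
    have hle := h.le a ha
    refine ⟨⟨w, hle hw⟩, Cores.le_pPrimeCore (p := 2)
      (N := (θ a).subgroupOf (centralizer ({a} : Set G))) ?_ ?_ hw, rfl⟩
    · exact Cores.subgroupOf_normal_of_le_normalizer (h.centralizer_le_normalizer a)
    · rw [Cores.card_subgroupOf hle]
      exact ((Nat.prime_two.coprime_iff_not_dvd).2 (h.odd a ha)).symm
  have hE : IsFour (zpowers z ⊔ zpowers v) :=
    TwoCore.isFour_pair p.z2 p.v2 p.vz (p.z_comm v p.v_mem).symm
  have hES : zpowers z ⊔ zpowers v ≤ (S : Subgroup G) :=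
    sup_le (zpowers_le.2 p.z_mem) (zpowers_le.2 p.v_mem)
  have hW0 : W0 ≠ ⊥ := fun e => hW (eq_bot_iff.2 (e ▸ h.le_of_theta hE hES fun x hx hx1 =>
    (hθle x (orderOf_of_mem hE.1 hx hx1)).trans
      (h0.theta_le (hES hx) (orderOf_of_mem hE.1 hx hx1))))
  obtain ⟨z0, v0, q⟩ := hI G _ S W0 h0.toGenW hO hW0 (hind _ W0 h0)
  obtain ⟨Y, hYodd, hYM, hCY, hWY⟩ := q.cover
  set M0 := normalizer (W0 : Set G) with hM0
  have hE0 : IsFour (zpowers z0 ⊔ zpowers v0) :=
    TwoCore.isFour_pair q.z2 q.v2 q.vz (q.z_comm v0 q.v_mem).symm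
  have hE0S : zpowers z0 ⊔ zpowers v0 ≤ (S : Subgroup G) :=
    sup_le (zpowers_le.2 q.z_mem) (zpowers_le.2 q.v_mem)
  have hcomm : ∀ e ∈ zpowers z0 ⊔ zpowers v0, Commute e z0 := fun e he => q.z_comm e (hE0S he)
  have hYW : Y ≤ W0 := by
    refine Signalizer.le_of_elements hE0.1 hE0.2 W0 Y hYodd
      (fun e he => hCY (mem_centralizer_singleton_iff.2 (hcomm e he))) fun e he he1 => ?_
    have he2 := orderOf_of_mem hE0.1 he he1
    refine le_trans ?_ (h0.theta_le (hE0S he) he2)
    by_cases hez : e = z0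
    · subst hez
      intro y hy
      refine ⟨⟨y, hy.2⟩, Cores.le_pPrimeCore (p := 2)
        (N := (Y ⊓ centralizer ({e} : Set G)).subgroupOf (centralizer ({e} : Set G))) ?_ ?_ hy, rfl⟩
      · exact Cores.subgroupOf_normal_of_le_normalizer
          (Signalizer.le_normalizer_inf hCY le_normalizer)
      · rw [Cores.card_subgroupOf inf_le_right]
        exact ((Nat.prime_two.coprime_iff_not_dvd).2
          (not_two_dvd_of_le inf_le_left hYodd)).symm
    · refine q.le_core h0 hloc (h0.norm q.z_mem) (h0.norm (hE0S he)) q.z2 he2 (Ne.symm hez)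
        (hcomm e he).symm _ (le_inf inf_le_right (inf_le_left.trans hYM))
        (not_two_dvd_of_le inf_le_left hYodd) ?_
      rintro c ⟨⟨hce, hcz⟩, -⟩
      exact Signalizer.le_normalizer_inf (A := zpowers c) (zpowers_le.2 (hCY hcz))
        (zpowers_le.2 (le_normalizer hce)) (mem_zpowers c)
  refine q.bad ?_
  rw [show (W0 : Set G) = (Y : Set G) by rw [le_antisymm hWY hYW]]
  exact hCY

/-- Core killing: `W ≤ O(G)`. -/
theorem Gen.le_oddCore (hI : PartOneGoal.{u}) (hloc : TwoCore.LocGoal.{u}) (h : Gen θ S W) :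
    W ≤ Cfsg.oddCore G := by
  suffices H : ∀ (n : ℕ) (G : Type u) [Group G] [Finite G], Nat.card G = n →
      ∀ (θ : G → Subgroup G) (S : Sylow 2 G) (W : Subgroup G), Gen θ S W → W ≤ Cfsg.oddCore G from
    H _ G rfl θ S W h
  intro n
  induction n using Nat.strong_induction_on with
  | _ n ih =>
    intro G _ _ hn θ S W h
    haveI : Fact (Nat.Prime 2) := ⟨Nat.prime_two⟩
    by_cases hO : Cfsg.oddCore G = ⊥
    · rw [h.eq_bot_of_induct hI hloc hO fun θ' W' h' K hSK _ hK => ?_]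
      · exact bot_le
      · intro w hw
        have hlt : Nat.card K < n := hn ▸ lt_of_le_of_ne (card_le_card_group K)
          (fun e => hK (eq_top_of_card_eq K e))
        exact ⟨⟨w, hw.2⟩, ih _ hlt K rfl _ _ _ (h'.restrict hSK) hw.1, rfl⟩
    · haveI : (Cfsg.oddCore G).Normal := Cores.pPrimeCore_normal 2 G
      have hodd : ¬ 2 ∣ Nat.card (Cfsg.oddCore G) := Cores.not_dvd_card_pPrimeCore
      have hlt : Nat.card (G ⧸ Cfsg.oddCore G) < n := by
        rw [← hn, Subgroup.card_eq_card_quotient_mul_card_subgroup (Cfsg.oddCore G)]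
        refine lt_mul_of_one_lt_right Nat.card_pos ?_
        exact Finite.one_lt_card_iff_nontrivial.2
          ((Subgroup.nontrivial_iff_ne_bot _).2 hO)
      have h1 := ih _ hlt (G ⧸ Cfsg.oddCore G) rfl _ _ _ (h.quotient _ hodd)
      have hq : Cfsg.oddCore (G ⧸ Cfsg.oddCore G) = ⊥ := Cores.pPrimeCore_quotient_self 2
      rw [hq, le_bot_iff, Subgroup.map_eq_bot_iff, QuotientGroup.ker_mk'] at h1
      exact h1

/-- Core killing: the functor vanishes on the involutions. -/
theorem Gen.theta_eq_bot (hI : PartOneGoal.{u}) (hloc : TwoCore.LocGoal.{u}) (h : Gen θ S W)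
    (hO : Cfsg.oddCore G = ⊥) {t : G} (ht : orderOf t = 2) : θ t = ⊥ := by
  haveI : Fact (Nat.Prime 2) := ⟨Nat.prime_two⟩
  obtain ⟨P, hP⟩ := (IsPGroup.of_card (G := zpowers t) (p := 2) (n := 1)
    (by rw [Nat.card_zpowers, ht, pow_one])).exists_le_sylow
  obtain ⟨g, hg⟩ := MulAction.exists_smul_eq G P S
  have htS : g * t * g⁻¹ ∈ S := hg ▸ ⟨t, hP (mem_zpowers t), rfl⟩
  have h1 : θ (g * t * g⁻¹) = ⊥ := by
    rw [eq_bot_iff, ← hO]
    exact (h.theta_le htS (by rw [Involution.orderOf_conj, ht])).trans (h.le_oddCore hI hloc)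
  rw [h.eqv] at h1
  exact (map_eq_bot_iff_of_injective _ (MulAut.conj g).injective).1 h1

end Cfsg.Agent.CoreKilling
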