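import Cfsg.Agent.Lib.CoreKilling.GenAllBad
import Cfsg.Agent.Lib.CoreKilling.NormalFour

/-!
# Core killing, part I: assembly

`Gen.partOne_of_cover` : `FirstPart` from the existence, for a bad central involution, of an odd
`C(z)`-invariant subgroup of `N(W)` over `W`.
-/

set_option autoImplicit false
set_option linter.unusedSectionVars false
set_option linter.style.haveILetI false

namespace Cfsg.Agent.CoreKilling

open Subgroup Involution
open scoped Pointwise

universe u

variable {G : Type u} [Group G] [Finite G] {θ : G → Subgroup G} {S : Sylow 2 G} {W : Subgroup G}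

local notation "M" => normalizer (W : Set G)

/-- The cover of `W` at a bad central involution. -/
def CoverAt (S : Sylow 2 G) (W : Subgroup G) : Prop :=
  ∀ z : G, orderOf z = 2 → z ∈ S → (∀ s ∈ S, Commute s z) →
    ¬ centralizer ({z} : Set G) ≤ normalizer (W : Set G) →
    (∀ x ∈ normalizer (W : Set G), orderOf x = 2 → ¬ W ≤ centralizer ({x} : Set G)) →
    ∃ Y : Subgroup G, ¬ 2 ∣ Nat.card Y ∧ Y ≤ normalizer (W : Set G) ∧
      centralizer ({z} : Set G) ≤ normalizer (Y : Set G) ∧ W ≤ Y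

namespace GenW

variable (h : GenW θ S W)
include h

/-- `S` has an involution central in it. -/
theorem exists_central_involution (hO : Cfsg.oddCore G = ⊥) (hW : W ≠ ⊥) :
    ∃ z, z ∈ S ∧ orderOf z = 2 ∧ ∀ s ∈ S, Commute s z := by
  haveI : Fact (Nat.Prime 2) := ⟨Nat.prime_two⟩
  have hS : (⊤ : Subgroup ↥(S : Subgroup G)) ≠ ⊥ := by
    intro e
    -- otherwise `G` is odd, so `G = O(G) = 1`
    have h1 : Nat.card (S : Subgroup G) = 1 := by
      rw [← Subgroup.card_top, e, Subgroup.card_bot]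
    have h2 : ¬ 2 ∣ Nat.card G := fun hd => by
      have h3 := S.card_eq_multiplicity
      rw [h1] at h3
      have h4 : 1 ≤ (Nat.card G).factorization 2 :=
        Nat.prime_two.factorization_pos_of_dvd Nat.card_pos.ne' hd
      have h5 : 2 ^ 1 ≤ 2 ^ (Nat.card G).factorization 2 := Nat.pow_le_pow_right (by norm_num) h4
      omega
    refine hW (eq_bot_iff.2 (le_trans le_top (le_trans ?_ hO.le)))
    refine Cores.le_pPrimeCore inferInstance ((Nat.prime_two.coprime_iff_not_dvd).2 ?_).symm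
    rwa [Subgroup.card_top]
  obtain ⟨z, -, hzc, hz⟩ := PGroup.exists_central_order_p S.isPGroup' hS
  exact ⟨z, z.2, by rw [Subgroup.orderOf_coe]; exact hz,
    fun s hs => congrArg Subtype.val (mem_center_iff.1 hzc ⟨s, hs⟩)⟩

/-- An involution of `S` spanning a normal four-group with a central one. -/
theorem exists_mark {z : G} (hz : orderOf z = 2) (hzS : z ∈ S) (hzc : ∀ s ∈ S, Commute s z) :
    ∃ v, v ∈ S ∧ orderOf v = 2 ∧ v ≠ z ∧
      ∀ s ∈ S, s * v * s⁻¹ * v⁻¹ = 1 ∨ s * v * s⁻¹ * v⁻¹ = z := by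
  obtain ⟨F, hFS, hF, hF3⟩ := h.rank z hzS hz
  obtain ⟨b, hb, hbc, hbm⟩ := exists_marked (P := ↥(S : Subgroup G)) S.isPGroup'
    (c := ⟨z, hzS⟩) (by rw [Subgroup.orderOf_mk]; exact hz)
    (mem_center_iff.2 fun s => Subtype.ext (hzc _ s.2).eq)
    (F := F.subgroupOf (S : Subgroup G))
    (fun a ha c hc => Subtype.ext (Signalizer.commute_of_isMulCommutative hF.1
      (mem_subgroupOf.1 ha) (mem_subgroupOf.1 hc)))
    (fun a ha => Subtype.ext (by
      have := hF.2 _ (mem_subgroupOf.1 ha)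
      rwa [sq] at this))
    (by rw [Cores.card_subgroupOf hFS]; exact hF3)
  refine ⟨b, b.2, by rw [Subgroup.orderOf_coe]; exact hb, fun e => hbc (Subtype.ext e),
    fun s hs => ?_⟩
  rcases hbm ⟨s, hs⟩ with e | e
  · left
    have := congrArg Subtype.val e
    simp only [Subgroup.coe_mul, Subgroup.coe_inv] at this
    rw [this, mul_inv_cancel]
  · right
    have := congrArg Subtype.val e
    simp only [Subgroup.coe_mul, Subgroup.coe_inv] at this
    rw [this, (hzc _ b.2).eq, mul_inv_cancel_right]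

/-- An involution of `S` not conjugate to `z` is of the second kind. -/
theorem second {z : G} (hz : orderOf z = 2) (hzS : z ∈ S) (hzc : ∀ s ∈ S, Commute s z) {d : G}
    (hdS : d ∈ S) (hd : orderOf d = 2) (hne : ∀ g : G, g * z * g⁻¹ ≠ d)
    (hdbad : ¬ centralizer ({d} : Set G) ≤ M) : Second S M d := by
  have hdM : d ∈ M := h.norm hdS
  set P : Subgroup G := (S : Subgroup G) ⊓ centralizer ({d} : Set G) with hP
  obtain ⟨T, hTM, hTP⟩ := h.exists_sylow hdM hd (P := P) (S.isPGroup'.to_le inf_le_left)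
    (le_inf inf_le_right (inf_le_left.trans h.norm))
  obtain ⟨m, hm, hmC, hmT, hmc⟩ := h.exists_central hTM hd hz hzS hzc
  have D : CentData W d T ⟨m * z * m⁻¹, hmC⟩ :=
    ⟨hd, hdM, hdbad, hTM, by rw [orderOf_conj]; exact hz, hne m, hmT, hmc⟩
  refine ⟨fun e he f hf he2 hf2 hde hdf => ?_, fun a ha ha2 had hc X hX hodd hn =>
    D.le_core h ha ha2 had hc hX hodd hn⟩
  exact D.commute h (hTP e ⟨he, mem_cent_iff.2 hde.symm⟩) (hTP f ⟨hf, mem_cent_iff.2 hdf.symm⟩)
    he2 hf2

/-- **Part I**, given the cover. -/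
theorem partOne_of_cover (hO : Cfsg.oddCore G = ⊥) (hW : W ≠ ⊥) (hcov : CoverAt S W) :
    ∃ z v, FirstPart S W z v := by
  obtain ⟨z, hzS, hz, hzc⟩ := h.exists_central_involution hO hW
  have hzbad := h.not_good_central hO hW hz hzS hzc
  obtain ⟨Y, hY, hYM, hYC, hWY⟩ := hcov z hz hzS hzc hzbad (h.not_centralized hO hW)
  obtain ⟨v, hv, hv2, hvz, hmark⟩ := h.exists_mark hz hzS hzc
  refine ⟨z, v, ⟨hzS, hz, hzc, hzbad, hv, hv2, hvz, hmark, fun d hdS hd => ?_,
    Y, hY, hYM, hYC, hWY⟩⟩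
  by_cases hconj : ∃ g : G, g * z * g⁻¹ = d
  · exact Or.inl hconj
  push Not at hconj
  exact Or.inr (h.second hz hzS hzc hdS hd hconj
    (h.all_bad hO hW hz hzS hzc hYM hYC hWY (h.norm hdS) hd))

end GenW

end Cfsg.Agent.CoreKilling
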