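import Cfsg.Agent.Lib.CoreKilling.GenPartOne
import Cfsg.Agent.Lib.CoreKilling.GenCover
import Cfsg.Agent.Lib.CoreKilling.GenMain
import Cfsg.Agent.Lib.TwoCore.Main

/-!
# Core killing: part I at the type of part III

`partOneGoal` : part I; with `TwoCore.locGoal` it makes `Gen.le_oddCore` and `Gen.theta_eq_bot` unconditional.
-/

set_option autoImplicit false
set_option linter.unusedSectionVars false

namespace Cfsg.Agent.CoreKilling

universe u

theorem partOneGoal : PartOneGoal.{u} := fun _ _ _ _ _ _ h hO hW hI =>
  h.partOne_of_cover hO hW fun _ hz hzS hzc hbad hno => h.exists_cover hO hW hI hz hzS hzc hbad hno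

end Cfsg.Agent.CoreKilling
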