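import Cfsg.Agent.Lib.CoreKilling.GenCentral
import Cfsg.Agent.Lib.PGroup.Basic

/-!
# Core killing, part I: fusion and good involutions in `N(W)`

* `Gen.exists_conj_M` : `N(W)` controls fusion of its involutions
* `Gen.good_iff`, `Gen.good_ctl` : good involutions (`C(d) ≤ N(W)`) control theirs
* `Gen.mem_center_of_isolated` : isolated involutions are central when `O(G) = 1`
* `Gen.eq_one_of_all_conj` : the core of `N(W)` meets `W` trivially
* `Gen.exists_central_fix` : an involution of `N(W)` centralising `W` gives a central one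
-/

set_option autoImplicit false
set_option linter.unusedSectionVars false
set_option linter.style.haveILetI false

namespace Cfsg.Agent.CoreKilling

open Subgroup Involution
open scoped Pointwise

universe u

variable {G : Type u} [Group G] [Finite G] {θ : G → Subgroup G} {S : Sylow 2 G} {W : Subgroup G}

local notation "M" => normalizer (W : Set G)

/-- An involution without another commuting conjugate is central when `O(G) = 1`. -/
theorem mem_center_of_isolated (hO : Cfsg.oddCore G = ⊥) {d : G} (hd : orderOf d = 2)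
    (hiso : ∀ g : G, Commute d (g * d * g⁻¹) → g * d * g⁻¹ = d) : d ∈ center G :=
  ZStar.isolated_mem_center ZStar.uniqueInvolution ⟨hd, hiso⟩ hO

theorem conj_centralizer_mem {g x c : G} (hc : c ∈ centralizer ({g * x * g⁻¹} : Set G)) :
    g⁻¹ * c * g ∈ centralizer ({x} : Set G) := by
  rw [mem_cent_iff] at hc ⊢
  have h := hc.map (MulAut.conj g⁻¹).toMonoidHom
  simpa [mul_assoc] using h

namespace GenW

variable (h : GenW θ S W)
include h

/-- `N(W)` controls the fusion of its involutions. -/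
theorem exists_conj_M {x g : G} (hx : orderOf x = 2) (hxM : x ∈ M) (hg : g * x * g⁻¹ ∈ M) :
    ∃ m ∈ M, m * x * m⁻¹ = g * x * g⁻¹ := by
  haveI : Fact (Nat.Prime 2) := ⟨Nat.prime_two⟩
  obtain ⟨F, hF, hFe, hF3, -⟩ := h.exists_e8 hxM hx
  set y := g * x * g⁻¹ with hy
  obtain ⟨T, hTM, -⟩ := h.exists_sylow hg (by rw [hy, orderOf_conj]; exact hx) (P := ⊥)
    IsPGroup.of_bot bot_le
  have hFy : MulAut.conj g • F ≤ centralizer ({y} : Set G) := by
    rintro _ ⟨a, ha, rfl⟩
    have h1 : Commute a x := mem_cent_iff.1 (hF ha).1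
    exact mem_cent_iff.2 (h1.map (MulAut.conj g).toMonoidHom)
  have hFp : IsPGroup 2 ↥(MulAut.conj g • F) :=
    (Signalizer.isPGroup_of_elemAb hFe).map _
  obtain ⟨c, -, hc⟩ := TwoCore.exists_conj_sylow_mem T (Γ := ⊤) le_top
    (P := (MulAut.conj g • F).subgroupOf (centralizer ({y} : Set G)))
    (hFp.comap_of_injective _ (subtype_injective _)) le_top
  have h4 : IsFour F := ⟨hFe, (by norm_num : 2 ^ 2 ≤ 2 ^ 3).trans hF3⟩
  have hmem : (c : G) * g ∈ M := by
    refine h.fusion h4 (hF.trans inf_le_right) ?_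
    rw [← Solvable.conj_conj]
    rintro _ ⟨a, ha, rfl⟩
    exact hTM _ (hc ⟨a, hFy ha⟩ ha)
  refine ⟨_, hmem, ?_⟩
  have hcy : Commute (c : G) y := mem_cent_iff.1 c.2
  calc (c : G) * g * x * ((c : G) * g)⁻¹ = (c : G) * (g * x * g⁻¹) * (c : G)⁻¹ := by group
    _ = (c : G) * y * (c : G)⁻¹ := rfl
    _ = y := by rw [hcy.eq, mul_inv_cancel_right]

theorem good_of_conj {x m : G} (hm : m ∈ M) (hgood : centralizer ({x} : Set G) ≤ M) :
    centralizer ({m * x * m⁻¹} : Set G) ≤ M := fun c hc => by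
  have h1 := mul_mem (mul_mem hm (hgood (conj_centralizer_mem hc))) (inv_mem hm)
  rwa [show m * (m⁻¹ * c * m) * m⁻¹ = c by group] at h1

theorem good_iff {x m : G} (hm : m ∈ M) :
    centralizer ({m * x * m⁻¹} : Set G) ≤ M ↔ centralizer ({x} : Set G) ≤ M := by
  refine ⟨fun h1 => ?_, h.good_of_conj hm⟩
  have := h.good_of_conj (inv_mem hm) h1
  rwa [show m⁻¹ * (m * x * m⁻¹) * m⁻¹⁻¹ = x by group] at this

/-- Conjugate involutions of `N(W)` are good together. -/
theorem good_conj {x g : G} (hx : orderOf x = 2) (hxM : x ∈ M) (hg : g * x * g⁻¹ ∈ M) :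
    centralizer ({g * x * g⁻¹} : Set G) ≤ M ↔ centralizer ({x} : Set G) ≤ M := by
  obtain ⟨m, hm, hme⟩ := h.exists_conj_M hx hxM hg
  rw [← hme]
  exact h.good_iff hm

theorem good_ctl {x g : G} (hx : orderOf x = 2) (hxM : x ∈ M)
    (hgood : centralizer ({x} : Set G) ≤ M) (hg : g * x * g⁻¹ ∈ M) : g ∈ M := by
  obtain ⟨m, hm, hme⟩ := h.exists_conj_M hx hxM hg
  have h1 : m⁻¹ * g ∈ centralizer ({x} : Set G) := by
    refine mem_cent_iff.2 ?_
    refine mul_inv_eq_iff_eq_mul.1 ?_
    rw [show m⁻¹ * g * x * (m⁻¹ * g)⁻¹ = m⁻¹ * (g * x * g⁻¹) * m by group, ← hme]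
    group
  have := mul_mem hm (hgood h1)
  rwa [mul_inv_cancel_left] at this

/-- An element of `W` with all conjugates in `N(W)` is trivial. -/
theorem eq_one_of_all_conj (hO : Cfsg.oddCore G = ⊥) {x : G} (hxW : x ∈ W)
    (hall : ∀ g : G, g⁻¹ * x * g ∈ M) : x = 1 := by
  set N := (M : Subgroup G).normalCore with hN
  haveI : N.Normal := normalCore_normal _
  have hxN : x ∈ N := fun g => by simpa using hall g⁻¹
  haveI hn : (W.subgroupOf N).Normal := ⟨fun a ha n =>
    mem_subgroupOf.2 ((mem_normalizer_iff.1 ((M : Subgroup G).normalCore_le n.2) _).1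
      (mem_subgroupOf.1 ha))⟩
  have hcard : ¬ 2 ∣ Nat.card (W.subgroupOf N) := fun hd => h.oddW (hd.trans
    (card_comap_dvd_of_injective W N.subtype N.subtype_injective))
  have h1 := Cores.le_pPrimeCore hn ((Nat.prime_two.coprime_iff_not_dvd).2 hcard).symm
  have h2 : Cfsg.pPrimeCore 2 N = ⊥ := by
    have h3 := Cores.pPrimeCore_map_subtype (p := 2) N
    rw [show Cfsg.pPrimeCore 2 G = ⊥ from hO, bot_inf_eq, Subgroup.map_eq_bot_iff,
      Subgroup.ker_subtype] at h3
    exact le_bot_iff.1 h3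
  rw [h2, le_bot_iff] at h1
  have h3 : (⟨x, hxN⟩ : N) ∈ W.subgroupOf N := mem_subgroupOf.2 hxW
  rw [h1, mem_bot] at h3
  exact congrArg Subtype.val h3

/-- An involution of `N(W)` centralising `W` gives such an involution central in `S`. -/
theorem exists_central_fix {x : G} (hxM : x ∈ M) (hx : orderOf x = 2)
    (hW : W ≤ centralizer ({x} : Set G)) :
    ∃ z ∈ S, orderOf z = 2 ∧ (∀ s ∈ S, Commute s z) ∧ centralizer ({z} : Set G) ≤ M := by
  haveI : Fact (Nat.Prime 2) := ⟨Nat.prime_two⟩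
  obtain ⟨m, hm, hmS⟩ := h.exists_conj_involution hxM hx
  set Q : Subgroup ↥(S : Subgroup G) := (centralizer (W : Set G)).subgroupOf (S : Subgroup G)
    with hQ
  haveI : Q.Normal := ⟨fun a ha s => by
    refine mem_subgroupOf.2 (mem_centralizer_iff.2 fun w hw => ?_)
    have hs := h.norm s.2
    have hw' : (s : G)⁻¹ * w * s ∈ W := by
      have := (mem_normalizer_iff.1 (inv_mem hs) w).1 hw
      rwa [inv_inv] at this
    have h1 := mem_centralizer_iff.1 (mem_subgroupOf.1 ha) _ hw'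
    simp only [Subgroup.coe_mul, Subgroup.coe_inv]
    calc w * ((s : G) * a * (s : G)⁻¹) = s * (((s : G)⁻¹ * w * s) * a) * (s : G)⁻¹ := by group
      _ = s * (a * ((s : G)⁻¹ * w * s)) * (s : G)⁻¹ := by rw [h1]
      _ = _ := by group⟩
  have hne : Q ≠ ⊥ := fun e => by
    have h1 : (⟨_, hmS⟩ : (S : Subgroup G)) ∈ Q := by
      refine mem_subgroupOf.2 (mem_centralizer_iff.2 fun w hw => ?_)
      have hw' : m⁻¹ * w * m ∈ W := by
        have := (mem_normalizer_iff.1 (inv_mem hm) w).1 hw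
        rwa [inv_inv] at this
      have h1 : Commute (m⁻¹ * w * m) x := mem_cent_iff.1 (hW hw')
      calc w * (m * x * m⁻¹) = m * (m⁻¹ * w * m * x) * m⁻¹ := by group
        _ = m * (x * (m⁻¹ * w * m)) * m⁻¹ := by rw [h1.eq]
        _ = _ := by group
    rw [e, mem_bot] at h1
    have h2 : m * x * m⁻¹ = 1 := congrArg Subtype.val h1
    rw [conj_eq_one_iff] at h2
    exact ne_one hx h2
  obtain ⟨z, hzQ, hzc, hz⟩ := PGroup.exists_central_order_p S.isPGroup' hne
  have hz2 : orderOf (z : G) = 2 := by rw [Subgroup.orderOf_coe]; exact hz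
  refine ⟨z, z.2, hz2, fun s hs => congrArg Subtype.val (mem_center_iff.1 hzc ⟨s, hs⟩), ?_⟩
  have hWz : W ≤ centralizer ({(z : G)} : Set G) := fun w hw =>
    mem_cent_iff.2 (mem_centralizer_iff.1 (mem_subgroupOf.1 hzQ) w hw)
  have := h.centralizer_le_normalizer (z : G)
  rwa [← h.fix _ z.2 hz2, inf_eq_left.2 hWz] at this

end GenW

end Cfsg.Agent.CoreKilling
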