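import Cfsg.Agent.Lib.CoreKilling.WeakTransfer

/-!
# Core killing in simple groups of 2-rank at least three (owner: helper90)

* `core_bot_of_rank_three` : a `Setting` gives trivial cores
-/

set_option autoImplicit false
set_option linter.style.haveILetI false

namespace Cfsg.Agent.CoreKilling

open Subgroup

universe u

/-- **Core killing in simple groups of 2-rank at least three.** -/
theorem core_bot_of_rank_three {G : Type u} [Group G] [Finite G] [IsSimpleGroup G]
    (hna : ¬ IsMulCommutative G) {S : Sylow 2 G} {W : Subgroup G} (h : Setting S W)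
    (hr : ¬ Cfsg.PRankLE 2 2 G) {t : G} (ht : orderOf t = 2) :
    Cfsg.centralizerPPrimeCore 2 t = ⊥ := by
  haveI : Fact (Nat.Prime 2) := ⟨Nat.prime_two⟩
  refine (h.genW (TwoTimesPSL.noIndexTwo_of_simple hna) hr).theta_bot ?_ ht
  refine ((Cores.pPrimeCore_normal 2 G).eq_bot_or_eq_top).resolve_right fun e => ?_
  have hodd : ¬ 2 ∣ Nat.card (Cfsg.oddCore G) := Cores.not_dvd_card_pPrimeCore
  refine hodd ?_
  rw [show Cfsg.oddCore G = (⊤ : Subgroup G) from e, Subgroup.card_top, ← ht]
  exact orderOf_dvd_natCard t

end Cfsg.Agent.CoreKilling
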