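import Cfsg.Agent.Lib.CoreKilling.WeakLoc
import Cfsg.Agent.Lib.CoreKilling.GenFinal

/-!
# Core killing, rank three: induction for the weak completions
(owner: helper90; notes/core_killing_weak_e8.md (B))

* `GenW.restrict` : to a subgroup containing the centraliser of a central involution
* `GenW.quotient` : to the quotient by an odd normal subgroup
* `GenW.le_core_group`, `GenW.theta_bot` : `W ≤ O(G)`; `θ t = 1` when `O(G) = 1`
-/

set_option autoImplicit false
set_option linter.unusedSectionVars false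
set_option linter.style.haveILetI false

namespace Cfsg.Agent.CoreKilling

open Subgroup

universe u

variable {G : Type u} [Group G] [Finite G] {θ : G → Subgroup G} {S : Sylow 2 G} {W : Subgroup G}

/-- An elementary subgroup inside `K`. -/
theorem elemAb_subgroupOf {F : Subgroup G} (hF : Cfsg.IsElementaryAbelian 2 F) (K : Subgroup G) :
    Cfsg.IsElementaryAbelian 2 (F.subgroupOf K) :=
  ⟨⟨⟨fun a b => Subtype.ext (Subtype.ext
    (Signalizer.commute_of_isMulCommutative hF.1 a.2 b.2))⟩⟩, fun _ ha => Subtype.ext (hF.2 _ ha)⟩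

/-- The image of an elementary subgroup under an injective map. -/
theorem elemAb_map {H : Type u} [Group H] {F : Subgroup G} (hF : Cfsg.IsElementaryAbelian 2 F)
    (π : G →* H) : Cfsg.IsElementaryAbelian 2 (F.map π) := by
  refine ⟨⟨⟨?_⟩⟩, ?_⟩
  · rintro ⟨_, a, ha, rfl⟩ ⟨_, b, hb, rfl⟩
    exact Subtype.ext (Commute.map (Signalizer.commute_of_isMulCommutative hF.1 ha hb) π).eq
  · rintro _ ⟨a, ha, rfl⟩
    rw [← map_pow, hF.2 a ha, map_one]

/-- Restriction to a subgroup containing the centraliser of a central involution. -/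
theorem GenW.restrict (h : GenW θ S W) {K : Subgroup G} (hSK : (S : Subgroup G) ≤ K) {z₀ : G}
    (hz₀S : z₀ ∈ S) (hz₀ : orderOf z₀ = 2) (hz₀c : ∀ s ∈ S, Commute s z₀)
    (hC : centralizer ({z₀} : Set G) ≤ K) :
    GenW (thetaRes θ K) (S.subtype hSK) (W.subgroupOf K) := by
  have key : ∀ F : Subgroup G, F ≤ K → F ≤ normalizer (W : Set G) →
      F.subgroupOf K ≤ normalizer ((W.subgroupOf K : Subgroup K) : Set K) := fun F _ hF =>
    Signalizer.le_normalizer_of_conj_mem fun s hs w hw => by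
      rw [mem_subgroupOf] at hs hw ⊢
      exact Signalizer.conj_mem hF hs hw
  refine ⟨h.toGenBase.restrict hSK, fun t ht ht2 => ?_, fun x hx hx2 z hz hz2 hzc => ?_⟩
  · obtain ⟨F, hFS, hF, hF3⟩ := h.rank t ht (by rwa [Subgroup.orderOf_coe])
    exact ⟨F.subgroupOf K, fun a ha => hFS ha, elemAb_subgroupOf hF K,
      by rwa [Cores.card_subgroupOf (hFS.trans hSK)]⟩
  have hx2' : orderOf (x : G) = 2 := by rwa [Subgroup.orderOf_coe]
  have hz2' : orderOf (z : G) = 2 := by rwa [Subgroup.orderOf_coe]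
  have hzc' : ∀ s ∈ S, Commute s (z : G) := fun s hs =>
    (hzc ⟨s, hSK hs⟩ hs).map K.subtype
  suffices hsuf : ∃ F : Subgroup G, F ≤ normalizer (W : Set G) ⊓ K ∧
      Cfsg.IsElementaryAbelian 2 F ∧ 2 ^ 3 ≤ Nat.card F ∧ (x : G) ∈ F ∧ (z : G) ∈ F by
    obtain ⟨F, hFM, hF, hF3, hxF, hzF⟩ := hsuf
    exact ⟨F.subgroupOf K, key F (hFM.trans inf_le_right) (hFM.trans inf_le_left),
      elemAb_subgroupOf hF K, by rwa [Cores.card_subgroupOf (hFM.trans inf_le_right)], hxF, hzF⟩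
  by_cases hzz : (z : G) = z₀
  · obtain ⟨F, hFM, hF, hF3, hxF, hzF⟩ := h.e8w x hx hx2' z hz hz2' hzc'
    exact ⟨F, le_inf hFM fun a ha => hC (mem_centralizer_singleton_iff.2
      (hzz ▸ Signalizer.commute_of_isMulCommutative hF.1 ha hzF)), hF, hF3, hxF, hzF⟩
  have hzS : (z : G) ∈ (S : Subgroup G) := hz
  have hxS : (x : G) ∈ (S : Subgroup G) := hx
  have hS : ∀ {F : Subgroup G}, F ≤ (S : Subgroup G) → F ≤ normalizer (W : Set G) ⊓ K :=
    fun hF => le_inf (hF.trans h.norm) (hF.trans hSK)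
  have hzz₀ : Commute (z : G) z₀ := hz₀c _ hzS
  by_cases hin : (x : G) = z ∨ (x : G) = z₀ ∨ (x : G) = z * z₀
  · obtain ⟨F, hFS, hF, hF3⟩ := h.rank z₀ hz₀S hz₀
    obtain ⟨h1, h2⟩ := exists_sup_central hzS hz2' hzc' hFS hF
    obtain ⟨h3, h4⟩ := exists_sup_central hz₀S hz₀ hz₀c h1 h2
    have m1 : (z : G) ∈ (F ⊔ zpowers (z : G)) ⊔ zpowers z₀ :=
      mem_sup_left (mem_sup_right (mem_zpowers _))
    have m2 : z₀ ∈ (F ⊔ zpowers (z : G)) ⊔ zpowers z₀ := mem_sup_right (mem_zpowers _)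
    refine ⟨_, hS h3, h4, hF3.trans (card_le_of_le (le_sup_left.trans le_sup_left)), ?_, m1⟩
    rcases hin with e | e | e <;> rw [e]
    exacts [m1, m2, mul_mem m1 m2]
  push Not at hin
  obtain ⟨F, hFS, hF, hF3, hzF, -, hxF⟩ := exists_e8_of_three hzS hz₀S hxS hz2' hz₀ hx2' hzz₀
    (hzc' x hxS).symm (hz₀c x hxS).symm (fun e => hzz e.symm) hin.1 hin.2.1 hin.2.2
  exact ⟨F, hS hFS, hF, hF3, hxF, hzF⟩

/-- Quotient by an odd normal subgroup. -/
theorem GenW.quotient (h : GenW θ S W) (N : Subgroup G) [N.Normal] (hN : ¬ 2 ∣ Nat.card N) :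
    GenW (thetaQuot θ N) (S.mapSurjective (QuotientGroup.mk'_surjective N))
      (W.map (QuotientGroup.mk' N)) := by
  haveI : Fact (Nat.Prime 2) := ⟨Nat.prime_two⟩
  set π := QuotientGroup.mk' N with hπ
  have hinj : ∀ {P : Subgroup G}, IsPGroup 2 P → ∀ a ∈ P, π a = 1 → a = 1 := by
    intro P hP a ha h1
    obtain ⟨k, hk⟩ := IsPGroup.iff_orderOf.1 hP ⟨a, ha⟩
    rw [Subgroup.orderOf_mk] at hk
    exact orderOf_eq_one_iff.1 (Nat.eq_one_of_dvd_coprimes
      (((Nat.prime_two.coprime_iff_not_dvd).2 hN).pow_left k) (dvd_of_eq hk)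
      (Subgroup.orderOf_dvd_natCard N ((QuotientGroup.eq_one_iff a).1 h1)))
  have hcard : ∀ {F : Subgroup G}, Cfsg.IsElementaryAbelian 2 F →
      Nat.card (F.map π) = Nat.card F := fun {F} hF => by
    calc Nat.card (F.map π) = Nat.card (π.comp F.subtype).range := by
          rw [MonoidHom.range_comp, range_subtype]
      _ = Nat.card F := (Nat.card_congr (MonoidHom.ofInjective (f := π.comp F.subtype)
          ((injective_iff_map_eq_one _).2 fun a ha => Subtype.ext
            (hinj (Signalizer.isPGroup_of_elemAb hF) a a.2 ha))).toEquiv).symm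
  have hlift : ∀ t ∈ (S : Subgroup G).map π, orderOf t = 2 →
      ∃ s ∈ S, orderOf s = 2 ∧ π s = t := by
    rintro _ ⟨s, hs, rfl⟩ ht
    refine ⟨s, hs, Involution.orderOf_of_sq ?_ (fun e => ?_), rfl⟩
    · exact hinj S.isPGroup' _ (S.mul_mem hs hs) (by rw [map_mul, Involution.mul_self ht])
    · rw [e, map_one, orderOf_one] at ht; omega
  refine ⟨h.toGenBase.quotient N hN, fun t ht ht2 => ?_, fun x hx hx2 z hz hz2 hzc => ?_⟩
  · obtain ⟨s, hs, hs2, rfl⟩ := hlift t ht ht2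
    obtain ⟨F, hFS, hF, hF3⟩ := h.rank s hs hs2
    exact ⟨F.map π, Subgroup.map_mono hFS, elemAb_map hF π, by rwa [hcard hF]⟩
  obtain ⟨s, hs, hs2, rfl⟩ := hlift x hx hx2
  obtain ⟨c, hc, hc2, rfl⟩ := hlift z hz hz2
  obtain ⟨F, hFM, hF, hF3, hsF, hcF⟩ := h.e8w s hs hs2 c hc hc2 fun a ha => by
    have h1 := hinj S.isPGroup' (a * c * a⁻¹ * c⁻¹)
      (S.mul_mem (S.mul_mem (S.mul_mem ha hc) (S.inv_mem ha)) (S.inv_mem hc)) (by
        rw [map_mul, map_mul, map_mul, map_inv, map_inv,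
          (hzc (π a) (mem_map_of_mem π ha)).eq]
        group)
    exact mul_inv_eq_iff_eq_mul.1 (mul_inv_eq_one.1 h1)
  refine ⟨F.map π, Signalizer.le_normalizer_of_conj_mem ?_, elemAb_map hF π,
    by rwa [hcard hF], mem_map_of_mem π hsF, mem_map_of_mem π hcF⟩
  rintro _ ⟨a, ha, rfl⟩ _ ⟨w, hw, rfl⟩
  exact ⟨a * w * a⁻¹, Signalizer.conj_mem hFM ha hw, by rw [map_mul, map_mul, map_inv]⟩

/-- Core killing for weak completions: `W ≤ O(G)`. -/
theorem GenW.le_core_group (h : GenW θ S W) : W ≤ Cfsg.oddCore G := by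
  suffices H : ∀ (n : ℕ) (G : Type u) [Group G] [Finite G], Nat.card G = n →
      ∀ (θ : G → Subgroup G) (S : Sylow 2 G) (W : Subgroup G), GenW θ S W → W ≤ Cfsg.oddCore G from
    H _ G rfl θ S W h
  intro n
  induction n using Nat.strong_induction_on with
  | _ n ih =>
    intro G _ _ hn θ S W h
    haveI : Fact (Nat.Prime 2) := ⟨Nat.prime_two⟩
    by_cases hO : Cfsg.oddCore G = ⊥
    · by_cases hW : W = ⊥
      · exact hW ▸ bot_le
      have hind : Induct S W := by
        rintro K hSK ⟨z₀, hz₀S, hz₀, hz₀c, hC⟩ hK w hw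
        have hlt : Nat.card K < n := hn ▸ lt_of_le_of_ne (card_le_card_group K)
          (fun e => hK (eq_top_of_card_eq K e))
        exact ⟨⟨w, hw.2⟩,
          ih _ hlt K rfl _ _ _ (h.restrict hSK hz₀S hz₀ hz₀c hC) hw.1, rfl⟩
      obtain ⟨z, v, p⟩ := partOneGoal G θ S W h hO hW hind
      by_cases he8 : ∃ y, Isolated (S : Subgroup G) y
      · obtain ⟨y, hy⟩ := he8
        exact (h.false_of_isolated p hy).elim
      · refine (Gen.of h.toGenBase fun x hx hx2 => ?_).le_core_group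
        by_contra hcon
        exact he8 ⟨x, hx, hx2, fun F hFS hF hF3 hxF => hcon ⟨F, hFS, hF, hF3, hxF⟩⟩
    · haveI : (Cfsg.oddCore G).Normal := Cores.pPrimeCore_normal 2 G
      have hodd : ¬ 2 ∣ Nat.card (Cfsg.oddCore G) := Cores.not_dvd_card_pPrimeCore
      have hlt : Nat.card (G ⧸ Cfsg.oddCore G) < n := by
        rw [← hn, Subgroup.card_eq_card_quotient_mul_card_subgroup (Cfsg.oddCore G)]
        refine lt_mul_of_one_lt_right Nat.card_pos ?_
        exact Finite.one_lt_card_iff_nontrivial.2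
          ((Subgroup.nontrivial_iff_ne_bot _).2 hO)
      have h1 := ih _ hlt (G ⧸ Cfsg.oddCore G) rfl _ _ _ (h.quotient _ hodd)
      have hq : Cfsg.oddCore (G ⧸ Cfsg.oddCore G) = ⊥ := Cores.pPrimeCore_quotient_self 2
      rw [hq, le_bot_iff, Subgroup.map_eq_bot_iff, QuotientGroup.ker_mk'] at h1
      exact h1

/-- Core killing for weak completions: `θ t = 1` for every involution `t`, if `O(G) = 1`. -/
theorem GenW.theta_bot (h : GenW θ S W) (hO : Cfsg.oddCore G = ⊥) {t : G} (ht : orderOf t = 2) :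
    θ t = ⊥ := by
  haveI : Fact (Nat.Prime 2) := ⟨Nat.prime_two⟩
  obtain ⟨P, hP⟩ := (IsPGroup.of_card (G := zpowers t) (p := 2) (n := 1)
    (by rw [Nat.card_zpowers, ht, pow_one])).exists_le_sylow
  obtain ⟨g, hg⟩ := MulAction.exists_smul_eq G P S
  have htS : g * t * g⁻¹ ∈ S := hg ▸ ⟨t, hP (mem_zpowers t), rfl⟩
  have h1 : θ (g * t * g⁻¹) = ⊥ := by
    rw [eq_bot_iff, ← hO]
    exact (h.theta_le htS (by rw [Involution.orderOf_conj, ht])).trans h.le_core_group
  rw [h.eqv] at h1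
  exact (map_eq_bot_iff_of_injective _ (MulAut.conj g).injective).1 h1

end Cfsg.Agent.CoreKilling
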