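import Cfsg.Agent.Lib.CoreKilling.WeakSylow

/-!
# Core killing, rank three: no isolated involution beside part I
(owner: helper90; notes/core_killing_weak_e8.md (D))

* `weakFacts_map` : the facts of part (C) along an injective homomorphism
* `GenW.false_of_isolated` : a completion with `FirstPart` has no isolated involution
-/

set_option autoImplicit false
set_option linter.unusedSectionVars false
set_option linter.style.haveILetI false

namespace Cfsg.Agent.CoreKilling

open Subgroup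

universe u w

/-- The facts of part (C) along an injective homomorphism. -/
theorem weakFacts_map {G : Type u} {K : Type w} [Group G] [Group K] {S : Subgroup G}
    {T : Subgroup K} (f : S →* K) (hf : Function.Injective f) (hrange : f.range = T) {z v : G}
    (hz : z ∈ S) (hv : v ∈ S) (F : TwoCore.WeakFacts S z v) :
    TwoCore.WeakFacts T (f ⟨z, hz⟩) (f ⟨v, hv⟩) := by
  have hmem : ∀ a : S, f a ∈ T := fun a => hrange ▸ ⟨a, rfl⟩
  have hlift : ∀ t ∈ T, ∃ a : S, f a = t := fun t ht => by rwa [← hrange] at ht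
  have hord : ∀ a : S, orderOf (f a) = orderOf (a : G) := fun a => by
    rw [orderOf_injective f hf, Subgroup.orderOf_coe]
  have hcomm : ∀ {a b : S}, Commute (f a) (f b) → Commute (a : G) b := fun {a b} h =>
    congrArg Subtype.val (hf (by rw [map_mul, map_mul]; exact h.eq) : a * b = b * a)
  have hmap : ∀ {a b : S}, Commute (a : G) b → Commute (f a) (f b) := fun {a b} h =>
    Commute.map (Subtype.ext h.eq : a * b = b * a) f
  refine ⟨?_, ?_, ?_⟩
  · obtain ⟨a, ha, b, hb, ha2, hb2, hab⟩ := F.comm_v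
    refine ⟨f ⟨a, ha⟩, hmem _, f ⟨b, hb⟩, hmem _, by rw [hord]; exact ha2,
      by rw [hord]; exact hb2, ?_⟩
    rw [← map_inv, ← map_inv, ← map_mul, ← map_mul, ← map_mul]
    exact congrArg f (Subtype.ext hab)
  · intro x hx hxv hxx
    obtain ⟨x, rfl⟩ := hlift x hx
    rw [← map_mul] at hxx
    obtain ⟨t, ht, ht2, htz, htv, htx⟩ :=
      F.inverter x x.2 (hcomm hxv) (congrArg Subtype.val (hf hxx))
    refine ⟨f ⟨t, ht⟩, hmem _, by rw [hord]; exact ht2,
      fun e => htz (congrArg Subtype.val (hf e)), hmap (a := ⟨t, ht⟩) htv, ?_⟩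
    rw [← map_inv, ← map_inv, ← map_mul, ← map_mul]
    exact congrArg f (Subtype.ext htx)
  · intro x hx a ha b hb c hc c' hc' hxx ha2 hb2 hc2 hc'2 hab hxa hxb hca hc'b hcx hc'x
    obtain ⟨x, rfl⟩ := hlift x hx
    obtain ⟨a, rfl⟩ := hlift a ha
    obtain ⟨b, rfl⟩ := hlift b hb
    obtain ⟨c, rfl⟩ := hlift c hc
    obtain ⟨c', rfl⟩ := hlift c' hc'
    rw [hord] at ha2 hb2 hc2 hc'2
    rw [← map_mul] at hxx
    rw [← map_inv, ← map_inv, ← map_mul, ← map_mul, ← map_mul] at hab
    exact F.no_pair x x.2 a a.2 b b.2 c c.2 c' c'.2 (congrArg Subtype.val (hf hxx)) ha2 hb2 hc2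
      hc'2 (congrArg Subtype.val (hf hab)) (hcomm hxa) (hcomm hxb) (hcomm hca) (hcomm hc'b)
      (fun e => hcx (hmap e)) (fun e => hc'x (hmap e))

variable {G : Type u} [Group G] [Finite G] {θ : G → Subgroup G} {S : Sylow 2 G} {W : Subgroup G}
  {z v : G}

/-- **Part (D).** A completion with part I has an `E₈` through every involution of `S`. -/
theorem GenW.false_of_isolated (h : GenW θ S W) (p : FirstPart S W z v) {y : G}
    (hy : Isolated (S : Subgroup G) y) : False := by
  haveI : Fact (Nat.Prime 2) := ⟨Nat.prime_two⟩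
  obtain ⟨facts, hroot⟩ := h.weakFacts p hy
  set M := normalizer (W : Set G) with hM
  have hzS := p.z_mem
  have hz := p.z2
  have hSM : (S : Subgroup G) ≤ M := h.norm
  have hpair : ∀ a b g : G, orderOf a = 2 → orderOf b = 2 → b ≠ a → Commute a b → a ∈ M → b ∈ M →
      g * a * g⁻¹ ∈ M → g * b * g⁻¹ ∈ M → g ∈ M := by
    intro a b g ha hb hne hab haM hbM hga hgb
    refine h.fusion (TwoCore.isFour_pair ha hb hne hab)
      (sup_le (zpowers_le.2 haM) (zpowers_le.2 hbM)) ?_
    exact map_le_iff_le_comap.2 (sup_le (zpowers_le.2 hga) (zpowers_le.2 hgb))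
  set C : Subgroup G := centralizer ({z} : Set G) with hC
  have hmemC : ∀ x : G, x ∈ C ↔ Commute x z := fun x => mem_centralizer_singleton_iff
  have hSC : (S : Subgroup G) ≤ C := fun s hs => (hmemC s).2 (p.z_comm s hs)
  set O : Subgroup C := Cfsg.pPrimeCore 2 C with hOdef
  haveI hOn : O.Normal := Cores.pPrimeCore_normal 2 _
  have hOodd : ¬ 2 ∣ Nat.card O := Cores.not_dvd_card_pPrimeCore
  have hOodd' : Odd (Nat.card O) := Nat.odd_iff.2 (Nat.two_dvd_ne_zero.1 hOodd)
  have hOM : ∀ o ∈ O, (o : G) ∈ M := fun o ho => h.core_le (hSM hzS) hz ⟨o, ho, rfl⟩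
  -- the quotient
  set π := QuotientGroup.mk' O with hπ
  have hπsurj : Function.Surjective π := QuotientGroup.mk'_surjective O
  have hπ1 : ∀ c : C, π c = 1 → c ∈ O := fun c h => (QuotientGroup.eq_one_iff c).1 h
  set H : Subgroup (C ⧸ O) := (M.subgroupOf C).map π with hHdef
  have hmemH : ∀ c : C, π c ∈ H ↔ (c : G) ∈ M := by
    intro c
    refine ⟨?_, fun h => mem_map_of_mem π (mem_subgroupOf.2 h)⟩
    rintro ⟨t, ht, htc⟩
    have h1 := hπ1 (t⁻¹ * c) (by rw [map_mul, map_inv, htc, inv_mul_cancel])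
    have h2 := M.mul_mem (mem_subgroupOf.1 ht) (hOM _ h1)
    rwa [Subgroup.coe_mul, Subgroup.coe_inv, mul_inv_cancel_left] at h2
  set f : ↥(S : Subgroup G) →* C ⧸ O := π.comp (Subgroup.inclusion hSC) with hf
  have hfinj : Function.Injective f := (injective_iff_map_eq_one f).2 fun s hs => by
    obtain ⟨k, hk⟩ := IsPGroup.iff_orderOf.1 S.isPGroup' s
    rw [← orderOf_injective (Subgroup.inclusion hSC) (Subgroup.inclusion_injective hSC)] at hk
    have hdvd := Subgroup.orderOf_dvd_natCard O (hπ1 _ hs)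
    refine Subgroup.inclusion_injective hSC ((orderOf_eq_one_iff.1 (Nat.eq_one_of_dvd_coprimes
      ((Nat.coprime_two_left.2 hOodd').pow_left k) (dvd_of_eq hk) hdvd)).trans (map_one _).symm)
  set zS : ↥(S : Subgroup G) := ⟨z, hzS⟩ with hzSdef
  set vS : ↥(S : Subgroup G) := ⟨v, p.v_mem⟩ with hvSdef
  set zb := f zS with hzb
  set T : Sylow 2 (C ⧸ O) := (S.subtype hSC).mapSurjective hπsurj with hT
  have hrange : f.range = (T : Subgroup (C ⧸ O)) := by
    rw [hT, Sylow.coe_mapSurjective, hf, MonoidHom.range_comp, Subgroup.inclusion_range]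
    rfl
  have hTmem : ∀ s, f s ∈ T := fun s =>
    show f s ∈ (T : Subgroup (C ⧸ O)) from hrange ▸ ⟨s, rfl⟩
  have hTlift : ∀ t ∈ T, ∃ s, f s = t := fun t ht => by
    have ht' : t ∈ (T : Subgroup (C ⧸ O)) := ht
    rwa [← hrange] at ht'
  have hord : ∀ s : ↥(S : Subgroup G), orderOf (f s) = orderOf (s : G) := fun s => by
    rw [orderOf_injective f hfinj, Subgroup.orderOf_coe]
  have hne_top : H ≠ ⊤ := fun e => p.bad fun c hc => (hmemH ⟨c, hc⟩).1 (e ▸ mem_top _)
  have hctl : ∀ t : C ⧸ O, orderOf t = 2 → t ≠ zb → t ∈ H → ∀ g : C ⧸ O,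
      g * t * g⁻¹ ∈ H → g ∈ H := by
    intro t ht htz htH g hg
    obtain ⟨x, hx, rfl⟩ := htH
    obtain ⟨c, rfl⟩ := hπsurj g
    have hxO : x ∉ O := fun h => by
      rw [show π x = 1 from (QuotientGroup.eq_one_iff x).2 h, orderOf_one] at ht
      omega
    obtain ⟨hy2, hy'⟩ := TwoCore.exists_involution_lift hOodd'
      (hπ1 _ (by rw [map_mul, Involution.mul_self ht])) hxO
    set x' := x ^ Nat.card O
    have hπx : π x' = π x := by
      have : π (x⁻¹ * x') = 1 := (QuotientGroup.eq_one_iff _).2 hy'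
      rw [map_mul, map_inv, inv_mul_eq_one] at this
      exact this.symm
    rw [← Subgroup.orderOf_coe] at hy2
    rw [hmemH]
    have hgx : π (c * x' * c⁻¹) ∈ H := by rw [map_mul, map_mul, map_inv, hπx]; exact hg
    refine hpair z x' c hz hy2 (fun h => htz ?_) ((hmemC _).1 x'.2).symm (hSM hzS)
      ((hmemH x').1 (hπx ▸ mem_map_of_mem π hx)) ?_ ?_
    · rw [← hπx, show x' = Subgroup.inclusion hSC zS from Subtype.ext h]
      rfl
    · rw [((hmemC _).1 c.2).eq, mul_inv_cancel_right]; exact hSM hzS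
    · simpa using (hmemH _).1 hgx
  have L0 : TwoCore.LocBase T H zb (f vS) :=
    { core := Cores.pPrimeCore_quotient_self 2
      z2 := (hord zS).trans hz
      zc := mem_center_iff.2 fun g => by
        obtain ⟨c, rfl⟩ := hπsurj g
        refine (map_mul π c _).symm.trans ((congrArg π (Subtype.ext ?_)).trans (map_mul π _ c))
        exact ((hmemC c).1 c.2).eq
      le := fun t ht => by
        obtain ⟨s, rfl⟩ := hTlift t ht
        exact (hmemH _).2 (hSM s.2)
      ne_top := hne_top
      ctl := hctl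
      v2 := (hord vS).trans p.v2
      vz := fun e => p.vz (congrArg Subtype.val (hfinj e))
      vT := hTmem vS
      mark := fun t ht => by
        obtain ⟨s, rfl⟩ := hTlift t ht
        rw [← map_inv, ← map_inv, ← map_mul, ← map_mul, ← map_mul, ← map_one f, hzb]
        exact (p.mark s s.2).imp (fun e => congrArg f (Subtype.ext e))
          fun e => congrArg f (Subtype.ext e) }
  have L : TwoCore.LocB T H zb (f vS) := by
    refine ⟨L0, ?_, fun u hu huu => ?_⟩
    · obtain ⟨F, hFS, hF, hF3, -, hvF⟩ := exists_e8_mark hzS hz p.z_comm p.v_mem p.v2 p.vz p.mark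
        (h.rank z hzS hz)
      set g := f.comp (Subgroup.inclusion hFS) with hg
      have hginj : Function.Injective g := hfinj.comp (Subgroup.inclusion_injective hFS)
      refine ⟨g.range, ?_, ⟨⟨⟨?_⟩⟩, ?_⟩, ?_, ⟨⟨v, hvF⟩, rfl⟩⟩
      · rintro _ ⟨a, rfl⟩
        exact hTmem _
      · rintro ⟨_, a, rfl⟩ ⟨_, b, rfl⟩
        refine Subtype.ext ((map_mul g a b).symm.trans ?_)
        rw [show a * b = b * a from
          Subtype.ext (Signalizer.commute_of_isMulCommutative hF.1 a.2 b.2)]
        exact map_mul g b a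
      · rintro _ ⟨a, rfl⟩
        rw [← map_pow, show a ^ 2 = 1 from Subtype.ext (hF.2 _ a.2), map_one]
      · rwa [← Nat.card_congr (MonoidHom.ofInjective hginj).toEquiv]
    · obtain ⟨j, -, hj⟩ := (Nat.dvd_prime_pow Nat.prime_two).1
        (show orderOf u ∣ 2 ^ 2 from orderOf_dvd_iff_pow_eq_one.2 (by
          rw [show (2 : ℕ) ^ 2 = 2 + 2 from rfl, pow_add, sq, huu, Involution.mul_self L0.z2]))
      obtain ⟨k, hk, hkT⟩ := L0.exists_conj_T (P := zpowers u)
        (IsPGroup.of_card (n := j) (by rw [Nat.card_zpowers, hj])) (zpowers_le.2 hu)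
      obtain ⟨s, hs⟩ := hTlift _ (hkT u (mem_zpowers u))
      have hss : s * s = zS := hfinj (by
        rw [map_mul, hs, show k * u * k⁻¹ * (k * u * k⁻¹) = k * (u * u) * k⁻¹ by group, huu,
          ← (L0.z_comm k).eq, mul_inv_cancel_right])
      obtain ⟨e, heS, he2, hez, hes⟩ := hroot s s.2 (congrArg Subtype.val hss)
      have hgood : TwoCore.Good H zb (f ⟨e, heS⟩) := ⟨(hord _).trans he2,
        fun h' => hez (congrArg Subtype.val (hfinj h')), L0.le (hTmem _)⟩
      refine ⟨k⁻¹ * f ⟨e, heS⟩ * k⁻¹⁻¹, hgood.conj (L0.z_comm k⁻¹) (H.inv_mem hk), ?_⟩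
      have h1 := (Commute.map (Subtype.ext hes.eq : (⟨e, heS⟩ : ↥(S : Subgroup G)) * s = s * _)
        f).map (MulAut.conj k⁻¹).toMonoidHom
      rw [hs] at h1
      simp only [MulEquiv.coe_toMonoidHom, MulAut.conj_apply] at h1
      rwa [show k⁻¹ * (k * u * k⁻¹) * k⁻¹⁻¹ = u by group] at h1
  exact L.false_of_facts (weakFacts_map f hfinj hrange hzS p.v_mem facts)

end Cfsg.Agent.CoreKilling
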