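import Cfsg.Agent.Lib.CoreKilling.FpfThree
import Cfsg.Agent.Lib.PGroup.UniqueOrderP
import Cfsg.Agent.Lib.StrongClosedNC.Quaternion
import Cfsg.Agent.Lib.Signalizer.GraphTrivial
import Cfsg.Agent.Lib.Signalizer.ElemAb

/-!
# Core killing, rank three: the 2-group `R = C_S(v)` (owner: helper90; notes/core_killing_weak_e8.md (C))

`R` a 2-group with a fixed-point-free dihedral action `φ`, `ψ`, where `z` is the only involution
fixed by `ψ`, `φ⁵` moves `z` and two involutions do not commute.

* `Pair ψ A B` : `A`, `B = A^ψ` elementary of order 16, `R = A B`, `A ⊓ B = Z(R)` of exponent two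
* `Hyp.exists_pair` : they exist
* `Hyp.exists_commutator` : every central involution is a commutator of two involutions
-/

set_option autoImplicit false
set_option linter.style.haveILetI false
set_option linter.unusedSectionVars false

open Subgroup
open scoped commutatorElement
open Cfsg.Agent.Orders5

namespace Cfsg.Agent.CoreKilling.WeakStruct

open FpfThree

universe u

variable {R : Type u} [Group R] [Finite R]

/-- The hypotheses. -/
structure Hyp (φ ψ : R ≃* R) (z : R) : Prop where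
  act : FpfDihedral.Act φ ψ
  pg : IsPGroup 2 R
  zsq : z * z = 1
  z1 : z ≠ 1
  zfix : ψ z = z
  uniq : ∀ x, ψ x = x → x * x = 1 → x = 1 ∨ x = z
  five : φ (φ (φ (φ (φ z)))) ≠ z
  nonab : ∃ a b : R, a * a = 1 ∧ b * b = 1 ∧ ¬ Commute a b

/-- The conclusion. -/
structure Pair (ψ : R ≃* R) (A B : Subgroup R) : Prop where
  sqA : ∀ a ∈ A, a * a = 1
  sqB : ∀ b ∈ B, b * b = 1
  centerA : center R ≤ A
  centerB : center R ≤ B
  meet : ∀ x ∈ A, x ∈ B → x ∈ center R
  comm : ∀ a b : R, ⁅a, b⁆ ∈ center R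
  decomp : ∀ x : R, ∃ a ∈ A, ∃ b ∈ B, x = a * b
  nc : ∀ a ∈ A, ∀ b ∈ B, Commute a b → a ∈ center R ∨ b ∈ center R
  swapA : ∀ a ∈ A, ψ a ∈ B
  swapB : ∀ b ∈ B, ψ b ∈ A

namespace Pair

variable {ψ : R ≃* R} {A B : Subgroup R} (P : Pair ψ A B)
include P

theorem commA {a a' : R} (ha : a ∈ A) (ha' : a' ∈ A) : Commute a a' := by
  have h := P.sqA _ (A.mul_mem ha ha')
  have e : a * a' = (a * a')⁻¹ := eq_inv_of_mul_eq_one_left h
  rwa [mul_inv_rev, inv_eq_of_mul_eq_one_right (P.sqA a ha),
    inv_eq_of_mul_eq_one_right (P.sqA a' ha')] at e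

theorem conjA (r : R) {a : R} (ha : a ∈ A) : r * a * r⁻¹ ∈ A := by
  rw [show r * a * r⁻¹ = ⁅r, a⁆ * a by rw [commutatorElement_def]; group]
  exact A.mul_mem (P.centerA (P.comm r a)) ha

theorem conjB (r : R) {b : R} (hb : b ∈ B) : r * b * r⁻¹ ∈ B := by
  rw [show r * b * r⁻¹ = ⁅r, b⁆ * b by rw [commutatorElement_def]; group]
  exact B.mul_mem (P.centerB (P.comm r b)) hb

/-- The involutions lie in `A` or in `B`. -/
theorem cases {x : R} (hx : x * x = 1) : x ∈ A ∨ x ∈ B := by
  obtain ⟨a, ha, b, hb, rfl⟩ := P.decomp x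
  have h1 : Commute a b := by
    have e : a * b = (a * b)⁻¹ := eq_inv_of_mul_eq_one_left hx
    rwa [mul_inv_rev, inv_eq_of_mul_eq_one_right (P.sqA a ha),
      inv_eq_of_mul_eq_one_right (P.sqB b hb)] at e
  rcases P.nc a ha b hb h1 with h | h
  · exact Or.inr (B.mul_mem (P.centerB h) hb)
  · exact Or.inl (A.mul_mem ha (P.centerA h))

/-- An element which is no involution is inverted by an involution. -/
theorem exists_inverter {x : R} (hx : x * x ≠ 1) :
    ∃ a : R, a * a = 1 ∧ a ∉ center R ∧ a * x * a⁻¹ = x⁻¹ := by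
  obtain ⟨a, ha, b, hb, rfl⟩ := P.decomp x
  refine ⟨a, P.sqA a ha, fun hc => hx (P.sqB _ (B.mul_mem (P.centerB hc) hb)), ?_⟩
  rw [mul_inv_rev, inv_eq_of_mul_eq_one_right (P.sqA a ha),
    inv_eq_of_mul_eq_one_right (P.sqB b hb), ← mul_assoc, P.sqA a ha, one_mul]

/-- Two non-commuting involutions centralise only involutions in common. -/
theorem sq_eq_one_of_commute {x a b : R} (ha : a * a = 1) (hb : b * b = 1) (hab : ¬ Commute a b)
    (hxa : Commute x a) (hxb : Commute x b) : x * x = 1 := by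
  have key : ∀ {a b : R}, a ∈ A → b ∈ B → ¬ Commute a b → Commute x a → Commute x b → x * x = 1 := by
    intro a b ha hb hab hxa hxb
    obtain ⟨a', ha', b', hb', rfl⟩ := P.decomp x
    have h1 : Commute b' a := by
      have := (P.commA ha' ha).inv_left.mul_left hxa
      rwa [inv_mul_cancel_left] at this
    have h2 : a ∉ center R := fun hc => hab (mem_center_iff.1 hc b).symm
    have h3 := (P.nc a ha b' hb' h1.symm).resolve_left h2
    exact P.sqA _ (A.mul_mem ha' (P.centerA h3))
  have hcommB : ∀ {p q : R}, p ∈ B → q ∈ B → Commute p q := fun {p q} hp hq => by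
    have e : p * q = (p * q)⁻¹ := eq_inv_of_mul_eq_one_left (P.sqB _ (B.mul_mem hp hq))
    rwa [mul_inv_rev, inv_eq_of_mul_eq_one_right (P.sqB p hp),
      inv_eq_of_mul_eq_one_right (P.sqB q hq)] at e
  rcases P.cases ha with h | h <;> rcases P.cases hb with h' | h'
  · exact absurd (P.commA h h') hab
  · exact key h h' hab hxa hxb
  · exact key h' h (fun e => hab e.symm) hxb hxa
  · exact absurd (hcommB h h') hab

end Pair

theorem card_pow_two_fixed {ψ : R ≃* R} {K : Subgroup R} (hψ : K.map ψ.toMonoidHom = K)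
    (hu : ∀ x ∈ K, ψ x = x → x * x = 1) {z : R}
    (huniq : ∀ x, ψ x = x → x * x = 1 → x = 1 ∨ x = z) :
    Nat.card (fixed (restrictEquiv ψ hψ)) ≤ 2 := by
  classical
  refine le_trans (Nat.card_le_card_of_injective
    (fun x : fixed (restrictEquiv ψ hψ) => decide (((x : K) : R) = 1)) ?_) (le_of_eq (by simp))
  intro x y hxy
  have hx : ψ ((x : K) : R) = ((x : K) : R) := congrArg Subtype.val x.2
  have hy : ψ ((y : K) : R) = ((y : K) : R) := congrArg Subtype.val y.2
  simp only [decide_eq_decide] at hxy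
  refine Subtype.ext (Subtype.ext ?_)
  rcases huniq _ hx (hu _ (x : K).2 hx) with e | e <;>
    rcases huniq _ hy (hu _ (y : K).2 hy) with e' | e'
  · rw [e, e']
  · rw [e, hxy.1 e]
  · rw [hxy.2 e', e']
  · rw [e, e']

namespace Hyp

variable {φ ψ : R ≃* R} {z : R} (H : Hyp φ ψ z)
include H

theorem fixed_shape : IsCyclic (fixed ψ) ∨
    ∃ n : ℕ, 1 ≤ n ∧ Nonempty (fixed ψ ≃* QuaternionGroup (2 ^ n)) := by
  haveI : Fact (Nat.Prime 2) := ⟨Nat.prime_two⟩
  have huniq : ∀ x y : fixed ψ, orderOf x = 2 → y ^ 2 = 1 → y ∈ zpowers x := by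
    intro x y hx hy
    have hx2 : (x : R) * x = 1 := by
      have := congrArg Subtype.val (pow_orderOf_eq_one x)
      rwa [hx, SubmonoidClass.coe_pow, pow_two] at this
    have hy2 : (y : R) * y = 1 := by
      have := congrArg Subtype.val hy
      rwa [SubmonoidClass.coe_pow, pow_two] at this
    rcases H.uniq _ x.2 hx2 with e | e
    · rw [show x = 1 from Subtype.ext e, orderOf_one] at hx; omega
    rcases H.uniq _ y.2 hy2 with e' | e'
    · rw [show y = 1 from Subtype.ext e']; exact one_mem _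
    · rw [show y = x from Subtype.ext (e'.trans e.symm)]; exact mem_zpowers x
  rcases PGroup.unique_order_p_cases (H.pg.to_subgroup _) huniq with hc | ⟨-, n, ⟨e⟩⟩
  · exact Or.inl hc
  rcases n with _ | n
  · haveI : IsCyclic (QuaternionGroup (2 ^ 0)) := by
      rw [pow_zero]; exact QuaternionGroup.quaternionGroup_one_isCyclic
    exact Or.inl (isCyclic_of_surjective e.symm.toMonoidHom e.symm.surjective)
  · exact Or.inr ⟨n + 1, by omega, ⟨e⟩⟩

theorem fixed_two_gen : ∃ g g' : R, fixed ψ ≤ closure {g, g'} := by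
  rcases H.fixed_shape with hc | ⟨n, -, ⟨e⟩⟩
  · obtain ⟨g, hg⟩ := hc.exists_generator
    refine ⟨(g : R), 1, fun x hx => ?_⟩
    obtain ⟨i, hi⟩ := mem_zpowers_iff.1 (hg ⟨x, hx⟩)
    have hxi : (g : R) ^ i = x := congrArg Subtype.val hi
    rw [← hxi]
    exact zpow_mem (subset_closure (by simp)) i
  · refine ⟨(e.symm (QuaternionGroup.a 1) : R), (e.symm (QuaternionGroup.xa 0) : R), fun x hx => ?_⟩
    set K := closure ({(e.symm (QuaternionGroup.a 1) : R), (e.symm (QuaternionGroup.xa 0) : R)} : Set R)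
    have ha : ∀ i, (e.symm (QuaternionGroup.a i) : R) ∈ K := by
      intro i
      rw [← ZMod.natCast_zmod_val i, ← QuaternionGroup.a_one_pow, map_pow, SubmonoidClass.coe_pow]
      exact pow_mem (subset_closure (by simp)) _
    suffices h : ∀ q, (e.symm q : R) ∈ K by simpa using h (e ⟨x, hx⟩)
    rintro (i | i)
    · exact ha i
    · have hi : QuaternionGroup.xa i = QuaternionGroup.xa (0 : ZMod (2 * 2 ^ n)) * QuaternionGroup.a i := by
        rw [QuaternionGroup.xa_mul_a, zero_add]
      rw [hi, map_mul, Subgroup.coe_mul]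
      exact mul_mem (subset_closure (by simp)) (ha i)

theorem cube (x : R) : φ (φ (φ x)) = x :=
  FpfThree.cube H.act H.pg H.fixed_two_gen ⟨z, H.five⟩ x

theorem comm (a b : R) : ⁅a, b⁆ ∈ center R :=
  commutator_mem_center H.pg H.act.fpf H.cube a b

theorem not_cyclic : ¬ IsCyclic (fixed ψ) := by
  haveI : Fact (Nat.Prime 2) := ⟨Nat.prime_two⟩
  intro hc
  obtain ⟨g, hg⟩ := hc.exists_generator
  set c0 := ⁅(g : R), φ g⁆ with hc0
  have hc0c : c0 ∈ center R := H.comm _ _
  haveI : (zpowers c0).Normal := PGroup.zpowers_normal_of_mem_center hc0c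
  set π := QuotientGroup.mk' (zpowers c0) with hπ
  have hcq : Commute (π g) (π (φ g)) := by
    rw [← commutatorElement_eq_one_iff_commute, ← map_commutatorElement]
    exact (QuotientGroup.eq_one_iff _).2 (mem_zpowers c0)
  have hgen : ∀ x : R, ∃ i j : ℤ, x = (g : R) ^ i * φ g ^ j := fun x => by
    obtain ⟨a, b, ha, hb, rfl⟩ := exists_decomp H.act H.pg x
    obtain ⟨i, hi⟩ := mem_zpowers_iff.1 (hg ⟨a, ha⟩)
    obtain ⟨j, hj⟩ := mem_zpowers_iff.1 (hg ⟨b, hb⟩)
    have hai : (g : R) ^ i = a := congrArg Subtype.val hi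
    have hbj : (g : R) ^ j = b := congrArg Subtype.val hj
    exact ⟨i, j, by rw [← hai, ← hbj, map_zpow]⟩
  have hall : ∀ x y : R, ⁅x, y⁆ ∈ zpowers c0 := by
    intro x y
    obtain ⟨i, j, rfl⟩ := hgen x
    obtain ⟨k, l, rfl⟩ := hgen y
    refine (QuotientGroup.eq_one_iff _).1 (show π _ = 1 from ?_)
    rw [map_commutatorElement, commutatorElement_eq_one_iff_commute, map_mul, map_mul, map_zpow,
      map_zpow, map_zpow, map_zpow]
    exact (((Commute.refl _).zpow_zpow i k).mul_right (hcq.zpow_zpow i l)).mul_left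
      ((hcq.symm.zpow_zpow j k).mul_right ((Commute.refl _).zpow_zpow j l))
  have hne : c0 ≠ 1 := by
    intro e
    obtain ⟨a, b, -, -, hab⟩ := H.nonab
    have h1 := hall a b
    rw [e, zpowers_one_eq_bot, mem_bot, commutatorElement_eq_one_iff_commute] at h1
    exact hab h1
  obtain ⟨k, hk⟩ := IsPGroup.iff_orderOf.1 H.pg c0
  obtain ⟨k, rfl⟩ : ∃ j, k = j + 1 := ⟨k - 1, by
    rcases k with _ | k
    · exact absurd (orderOf_eq_one_iff.1 (by simpa using hk)) hne
    · omega⟩
  set i := c0 ^ 2 ^ k with hi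
  have hi2 : i * i = 1 := by
    rw [hi, ← pow_add, ← two_mul, ← pow_succ', ← hk, pow_orderOf_eq_one]
  have hi1 : i ≠ 1 := fun e => by
    have := orderOf_dvd_of_pow_eq_one (hi ▸ e)
    rw [hk] at this
    have := Nat.le_of_dvd (by positivity) this
    rw [pow_succ] at this
    have : 0 < 2 ^ k := by positivity
    omega
  have hiZ : i ∈ zpowers c0 := pow_mem (mem_zpowers c0) _
  have hφi : φ i ∈ zpowers c0 := by
    rw [hi, map_pow, hc0, map_commutatorElement]
    exact pow_mem (hall _ _) _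
  haveI : IsCyclic (zpowers c0) := inferInstance
  classical
  haveI := Fintype.ofFinite (zpowers c0)
  have h2 := IsCyclic.card_pow_eq_one_le (α := zpowers c0) (n := 2) two_pos
  have hsub : ({1, ⟨i, hiZ⟩, ⟨φ i, hφi⟩} : Finset (zpowers c0)) ⊆
      Finset.univ.filter fun a : zpowers c0 => a ^ 2 = 1 := by
    intro a ha
    simp only [Finset.mem_insert, Finset.mem_singleton] at ha
    rw [Finset.mem_filter]
    refine ⟨Finset.mem_univ _, ?_⟩
    rcases ha with rfl | rfl | rfl
    · exact one_pow 2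
    · exact Subtype.ext (by rw [SubmonoidClass.coe_pow, pow_two]; exact hi2)
    · exact Subtype.ext (by
        rw [SubmonoidClass.coe_pow, pow_two]
        show φ i * φ i = 1
        rw [← map_mul, hi2, map_one])
  have h3 : ({1, ⟨i, hiZ⟩, ⟨φ i, hφi⟩} : Finset (zpowers c0)).card = 3 := by
    have a1 : (1 : zpowers c0) ≠ ⟨i, hiZ⟩ := fun e => hi1 (congrArg Subtype.val e).symm
    have a2 : (1 : zpowers c0) ≠ ⟨φ i, hφi⟩ := fun e => hi1 (φ.injective (by
      rw [map_one]; exact (congrArg Subtype.val e).symm))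
    have a3 : (⟨i, hiZ⟩ : zpowers c0) ≠ ⟨φ i, hφi⟩ := fun e =>
      hi1 (H.act.fpf i (congrArg Subtype.val e).symm)
    rw [Finset.card_insert_of_notMem (by simp [a1, a2]),
      Finset.card_insert_of_notMem (by simp [a3]), Finset.card_singleton]
  have := (Finset.card_le_card hsub).trans h2
  omega

theorem map_center (χ : R ≃* R) : (center R).map χ.toMonoidHom = center R :=
  characteristic_iff_map_eq.1 inferInstance χ

theorem center_sq {e : R} (he : e ∈ center R) : e * e = 1 := by
  have hA := restrict H.act (H.map_center φ) (H.map_center ψ)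
  obtain ⟨a, b, ha, hb, hab⟩ := exists_decomp hA (H.pg.to_subgroup _) ⟨e, he⟩
  have key : ∀ c : center R, restrictEquiv ψ (H.map_center ψ) c = c → (c : R) * c = 1 := by
    intro c hc
    obtain hcy | ⟨n, hn, ⟨e'⟩⟩ := H.fixed_shape
    · exact absurd hcy H.not_cyclic
    set cU : fixed ψ := ⟨c, congrArg Subtype.val hc⟩
    have h1 : cU * cU = 1 := e'.injective (by
      rw [map_mul, map_one]
      refine StrongClosedNC.quaternion_central_sq hn fun x => ?_
      obtain ⟨x, rfl⟩ := e'.surjective x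
      rw [← map_mul, ← map_mul]
      exact congrArg e' (Subtype.ext (mem_center_iff.1 c.2 x).symm))
    exact congrArg Subtype.val h1
  have e1 : e = (a : R) * φ b := congrArg Subtype.val hab
  have hcm : Commute (a : R) (φ b) := (mem_center_iff.1 a.2 _).symm
  rw [e1, hcm.symm.mul_mul_mul_comm, key a ha, ← map_mul, key b hb, map_one, one_mul]

theorem z_center : z ∈ center R := by
  haveI : Fact (Nat.Prime 2) := ⟨Nat.prime_two⟩
  rcases subsingleton_or_nontrivial R with hs | hs
  · exact absurd (Subsingleton.elim z 1) H.z1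
  haveI := H.pg.center_nontrivial
  have hA := restrict H.act (H.map_center φ) (H.map_center ψ)
  obtain ⟨⟨e, he⟩, hne⟩ := exists_ne (1 : center R)
  obtain ⟨a, b, ha, hb, hab⟩ := exists_decomp hA (H.pg.to_subgroup _) ⟨e, he⟩
  have key : ∀ c : center R, restrictEquiv ψ (H.map_center ψ) c = c → (c : R) ≠ 1 → z ∈ center R := by
    intro c hc hc1
    rcases H.uniq _ (congrArg Subtype.val hc) (H.center_sq c.2) with h | h
    · exact absurd h hc1
    · exact h ▸ c.2
  by_cases h : (a : R) = 1
  · refine key b hb fun h' => hne ?_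
    rw [hab, show a = 1 from Subtype.ext h, show b = 1 from Subtype.ext h', map_one, mul_one]
  · exact key a ha h

theorem card_center : Nat.card (center R) = 4 := by
  have hA := restrict H.act (H.map_center φ) (H.map_center ψ)
  rw [card_eq_sq hA (H.pg.to_subgroup _)]
  have h1 := card_pow_two_fixed (H.map_center ψ) (fun x hx _ => H.center_sq hx) H.uniq
  have h2 : 2 ≤ Nat.card (fixed (restrictEquiv ψ (H.map_center ψ))) := by
    haveI : Nontrivial (fixed (restrictEquiv ψ (H.map_center ψ))) :=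
      ⟨⟨⟨⟨z, H.z_center⟩, Subtype.ext H.zfix⟩, 1, fun e =>
        H.z1 (congrArg (fun w : fixed (restrictEquiv ψ (H.map_center ψ)) => ((w : center R) : R)) e)⟩⟩
    exact Finite.one_lt_card
  rw [le_antisymm h1 h2]
  norm_num

theorem mulL (x y w : R) : ⁅x * y, w⁆ = ⁅x, w⁆ * ⁅y, w⁆ := by
  calc ⁅x * y, w⁆ = x * ⁅y, w⁆ * x⁻¹ * ⁅x, w⁆ := by
        simp only [commutatorElement_def]; group
    _ = ⁅x, w⁆ * ⁅y, w⁆ := by
      rw [mem_center_iff.1 (H.comm y w) x, mul_inv_cancel_right, mem_center_iff.1 (H.comm x w)]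

theorem mulR (x y w : R) : ⁅w, x * y⁆ = ⁅w, x⁆ * ⁅w, y⁆ := by
  calc ⁅w, x * y⁆ = ⁅w, x⁆ * (x * ⁅w, y⁆ * x⁻¹) := by
        simp only [commutatorElement_def]; group
    _ = ⁅w, x⁆ * ⁅w, y⁆ := by rw [mem_center_iff.1 (H.comm w y) x, mul_inv_cancel_right]

theorem sq_center (x : R) : x * x ∈ center R := mem_center_iff.2 fun g => by
  have h := H.mulL x x g
  rw [H.center_sq (H.comm x g), commutatorElement_eq_one_iff_mul_comm] at h
  exact h.symm

theorem card_le : Nat.card R ≤ 64 := by
  haveI : Fact (Nat.Prime 2) := ⟨Nat.prime_two⟩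
  have hQ := H.act.quotient (H.map_center φ) (H.map_center ψ)
  have hsq : ∀ q : R ⧸ center R, q * q = 1 := fun q => by
    obtain ⟨a, rfl⟩ := QuotientGroup.mk_surjective q
    rw [← QuotientGroup.mk_mul, QuotientGroup.eq_one_iff]
    exact H.sq_center a
  have hcm : ∀ p q : R ⧸ center R, p * q = q * p := fun p q => by
    calc p * q = (p * q)⁻¹ := (inv_eq_of_mul_eq_one_right (hsq _)).symm
      _ = q * p := by
        rw [mul_inv_rev, inv_eq_of_mul_eq_one_right (hsq p), inv_eq_of_mul_eq_one_right (hsq q)]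
  have h4 : Nat.card (fixed (QuotientGroup.congr (center R) (center R) ψ (H.map_center ψ))) ≤ 4 := by
    obtain ⟨g, g', hg⟩ := H.fixed_two_gen
    classical
    refine le_trans (card_le_of_le (K := closure ((({(g : R ⧸ center R), (g' : R ⧸ center R)} :
      Finset (R ⧸ center R))) : Set (R ⧸ center R))) ?_) ?_
    · intro q hq
      obtain ⟨a, ha, rfl⟩ := exists_fixed_lift H.act H.pg (H.map_center φ) (H.map_center ψ) hq
      have h1 : (QuotientGroup.mk' (center R)) a ∈ (closure {g, g'}).map (QuotientGroup.mk' (center R)) :=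
        mem_map_of_mem _ (hg ha)
      rw [MonoidHom.map_closure, Set.image_pair] at h1
      simpa using h1
    · refine (PAutPrime.card_closure_le_pow two_pos hcm (fun a => by rw [pow_two, hsq]) _).trans ?_
      exact (Nat.pow_le_pow_right two_pos Finset.card_le_two).trans (by norm_num)
  rw [card_eq_card_quotient_mul_card_subgroup (center R), H.card_center,
    card_eq_sq hQ (H.pg.to_quotient _)]
  calc _ ≤ 4 ^ 2 * 4 := Nat.mul_le_mul_right 4 (Nat.pow_le_pow_left h4 2)
    _ = 64 := by norm_num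

/-- The span of an involution. -/
def span (φ : R ≃* R) (a : R) : Subgroup R := center R ⊔ zpowers a ⊔ zpowers (φ a)

theorem mem_span_self (a : R) : a ∈ span φ a :=
  mem_sup_left (mem_sup_right (mem_zpowers a))

theorem center_le_span (a : R) : center R ≤ span φ a := le_sup_left.trans le_sup_left

theorem apply_mem_span (a : R) : φ a ∈ span φ a := mem_sup_right (mem_zpowers _)

theorem elemAb_span {a : R} (ha : a * a = 1) : Cfsg.IsElementaryAbelian 2 (span φ a) := by
  have hz : ∀ {x : R}, x * x = 1 → Cfsg.IsElementaryAbelian 2 (zpowers x) := fun {x} hx =>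
    ⟨inferInstance, fun y hy => by
      obtain ⟨i, rfl⟩ := hy
      rw [← zpow_natCast, ← zpow_mul, mul_comm, zpow_mul, zpow_natCast,
        show x ^ 2 = 1 by rw [pow_two, hx], one_zpow]⟩
  have hC : Cfsg.IsElementaryAbelian 2 (center R) :=
    ⟨inferInstance, fun y hy => by rw [pow_two]; exact H.center_sq hy⟩
  refine Signalizer.elemAb_sup (Signalizer.elemAb_sup hC (hz ha) ?_) (hz ?_) ?_
  · intro e he w _
    exact (mem_center_iff.1 he w).symm
  · rw [← map_mul, ha, map_one]
  · intro w hw y hy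
    obtain ⟨i, rfl⟩ := mem_zpowers_iff.1 hy
    have hle : center R ⊔ zpowers a ≤ centralizer ({φ a} : Set R) := by
      refine sup_le (center_le_centralizer _) (zpowers_le.2 ?_)
      exact mem_centralizer_singleton_iff.2 (commute_apply H.act.fpf H.cube a).eq
    exact ((show Commute w (φ a) from mem_centralizer_singleton_iff.1 (hle hw)).zpow_right i).eq

theorem apply_notMem {a : R} (ha : a * a = 1) (hac : a ∉ center R) :
    φ a ∉ center R ⊔ zpowers a := by
  intro hm
  rw [← SetLike.mem_coe, normal_mul] at hm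
  obtain ⟨e, he, w, hw, hew⟩ := hm
  obtain ⟨i, rfl⟩ := mem_zpowers_iff.1 hw
  have hmk : ((φ a : R) : R ⧸ center R) = ((a : R) : R ⧸ center R) ^ i := by
    rw [← hew, QuotientGroup.mk_mul, (QuotientGroup.eq_one_iff e).2 he, one_mul,
      QuotientGroup.mk_zpow]
  have haa : ((a : R) : R ⧸ center R) ^ 2 = 1 := by
    rw [← QuotientGroup.mk_pow, pow_two, ha]; rfl
  have hQ := H.act.quotient (H.map_center φ) (H.map_center ψ)
  rw [← Int.emod_add_mul_ediv i 2, zpow_add, zpow_mul,
    show (2 : ℤ) = ((2 : ℕ) : ℤ) from rfl, zpow_natCast, haa, one_zpow, mul_one] at hmk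
  rcases Int.emod_two_eq_zero_or_one i with h | h <;>
    rw [show ((2 : ℕ) : ℤ) = (2 : ℤ) from rfl, h] at hmk
  · rw [zpow_zero] at hmk
    have h2 : φ a ∈ center R := (QuotientGroup.eq_one_iff _).1 hmk
    obtain ⟨w, hw, hwa⟩ := (H.map_center φ).ge h2
    exact hac (φ.injective hwa ▸ hw)
  · rw [zpow_one] at hmk
    exact hac ((QuotientGroup.eq_one_iff _).1 (hQ.fpf _ hmk))

theorem card_span {a : R} (ha : a * a = 1) (hac : a ∉ center R) : Nat.card (span φ a) = 16 := by
  haveI : Fact (Nat.Prime 2) := ⟨Nat.prime_two⟩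
  have hord : ∀ {x : R}, x * x = 1 → x ∉ center R → orderOf x = 2 := fun {x} hx hxc =>
    orderOf_eq_prime (by rw [pow_two, hx]) fun e => hxc (e ▸ one_mem _)
  have hEA := H.elemAb_span ha
  have hca : φ a ∉ center R := fun h => H.apply_notMem ha hac (mem_sup_left h)
  rw [span, Signalizer.card_sup_zpowers hEA le_sup_left (H.apply_mem_span a) (H.apply_notMem ha hac),
    Signalizer.card_sup_zpowers (Signalizer.elemAb_of_le hEA le_sup_left) le_sup_left
      (mem_sup_right (mem_zpowers a)) hac, H.card_center]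

theorem map_span {a : R} (ha : a * a = 1) : (span φ a).map φ.toMonoidHom = span φ a := by
  refine eq_of_le_of_card_ge ?_ (by rw [card_map_of_injective φ.injective])
  rw [span, Subgroup.map_sup, Subgroup.map_sup, H.map_center, MonoidHom.map_zpowers,
    MonoidHom.map_zpowers]
  refine sup_le (sup_le (le_sup_left.trans le_sup_left) (zpowers_le.2 (H.apply_mem_span a)))
    (zpowers_le.2 ?_)
  show φ (φ a) ∈ span φ a
  have h := eq_inv_of_mul_eq_one_right (prod_eq_one H.act.fpf H.cube a)
  rw [h]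
  exact inv_mem (mul_mem (H.mem_span_self a) (H.apply_mem_span a))

theorem square_le {K : Subgroup R} (hφ : K.map φ.toMonoidHom = K) (hψ : K.map ψ.toMonoidHom = K)
    (hK : ∀ x ∈ K, x * x = 1) : Nat.card K ≤ 4 := by
  rw [card_eq_sq (restrict H.act hφ hψ) (H.pg.to_subgroup K)]
  exact (Nat.pow_le_pow_left (card_pow_two_fixed hψ (fun x hx _ => hK x hx) H.uniq) 2).trans
    (by norm_num)

/-- **The structure of `R`.** -/
theorem exists_pair : ∃ A B : Subgroup R, Pair ψ A B := by
  haveI : Fact (Nat.Prime 2) := ⟨Nat.prime_two⟩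
  obtain ⟨a, b₀, ha, -, hab₀⟩ := H.nonab
  have hac : a ∉ center R := fun h => hab₀ (mem_center_iff.1 h b₀).symm
  set A := span φ a with hA
  have hAe := H.elemAb_span ha
  have hAφ := H.map_span ha
  set B := A.map ψ.toMonoidHom with hB
  have hA2 : ∀ x ∈ A, x * x = 1 := fun x hx => by rw [← pow_two]; exact hAe.2 x hx
  have hB2 : ∀ x ∈ B, x * x = 1 := by
    rintro _ ⟨x, hx, rfl⟩
    show ψ x * ψ x = 1
    rw [← map_mul, hA2 x hx, map_one]
  have hψψ : ∀ K : Subgroup R, (K.map ψ.toMonoidHom).map ψ.toMonoidHom = K := fun K => by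
    rw [Subgroup.map_map, show ψ.toMonoidHom.comp ψ.toMonoidHom = MonoidHom.id R from
      MonoidHom.ext H.act.invol, Subgroup.map_id]
  have hBφ : B.map φ.toMonoidHom = B := by
    refine eq_of_le_of_card_ge ?_ (card_map_of_injective φ.injective).ge
    rintro _ ⟨_, ⟨x, hx, rfl⟩, rfl⟩
    obtain ⟨w, hw, hwx⟩ := hAφ.ge hx
    refine ⟨w, hw, ?_⟩
    show ψ w = φ (ψ x)
    rw [← hwx]
    show _ = φ (ψ (φ w))
    rw [H.act.rel]
  have hBcard : Nat.card B = 16 := by
    rw [hB, card_map_of_injective ψ.injective, hA, H.card_span ha hac]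
  have hAcard : Nat.card A = 16 := H.card_span ha hac
  have hne : B ≠ A := fun e => by
    have : Nat.card A ≤ 4 := H.square_le hAφ e hA2
    omega
  have hcA : center R ≤ A := H.center_le_span a
  have hcB : center R ≤ B := fun x hx => by
    obtain ⟨w, hw, rfl⟩ := (H.map_center ψ).ge hx
    exact mem_map_of_mem _ (hcA hw)
  have hmeet : A ⊓ B = center R := by
    refine (eq_of_le_of_card_ge (le_inf hcA hcB) ?_).symm
    rw [H.card_center]
    refine H.square_le ?_ ?_ fun x hx => hA2 x hx.1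
    · rw [map_inf A B φ.toMonoidHom φ.injective, hAφ, hBφ]
    · rw [map_inf A B ψ.toMonoidHom ψ.injective, hψψ A, inf_comm]
  haveI hAn : A.Normal := ⟨fun x hx g => by
    rw [show g * x * g⁻¹ = ⁅g, x⁆ * x by rw [commutatorElement_def]; group]
    exact A.mul_mem (hcA (H.comm g x)) hx⟩
  have htop : A ⊔ B = ⊤ := by
    refine eq_top_of_le_card _ ?_
    have hJφ : (A ⊔ B).map φ.toMonoidHom = A ⊔ B := by rw [Subgroup.map_sup, hAφ, hBφ]
    have hJψ : (A ⊔ B).map ψ.toMonoidHom = A ⊔ B := by
      rw [Subgroup.map_sup, hψψ A, sup_comm]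
    have hsq := card_eq_sq (restrict H.act hJφ hJψ) (H.pg.to_subgroup _)
    obtain ⟨k, hk⟩ := IsPGroup.iff_card.1
      ((H.pg.to_subgroup (A ⊔ B)).to_subgroup (fixed (restrictEquiv ψ hJψ)))
    rw [hk] at hsq
    have hlt : Nat.card A < Nat.card ↥(A ⊔ B) := by
      refine lt_of_le_of_ne (card_le_of_le le_sup_left) fun e => hne ?_
      have h1 : A = A ⊔ B := eq_of_le_of_card_ge le_sup_left e.ge
      refine eq_of_le_of_card_ge ?_ (by omega)
      rw [h1]; exact le_sup_right
    rw [hAcard, hsq] at hlt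
    have hk3 : 3 ≤ k := by
      by_contra hk'
      have : (2 ^ k) ^ 2 ≤ (2 ^ 2) ^ 2 :=
        Nat.pow_le_pow_left (Nat.pow_le_pow_right two_pos (by omega)) 2
      norm_num at this
      omega
    rw [hsq]
    refine H.card_le.trans ?_
    calc 64 = (2 ^ 3) ^ 2 := by norm_num
      _ ≤ _ := Nat.pow_le_pow_left (Nat.pow_le_pow_right two_pos hk3) 2
  refine ⟨A, B, hA2, hB2, hcA, hcB, fun x hx hx' => hmeet ▸ ⟨hx, hx'⟩, H.comm, fun x => ?_, ?_,
    fun x hx => mem_map_of_mem _ hx, ?_⟩
  · have hx : x ∈ ((A ⊔ B : Subgroup R) : Set R) := by rw [htop]; exact mem_top x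
    rw [normal_mul] at hx
    obtain ⟨p, hp, q, hq, hpq⟩ := hx
    exact ⟨p, hp, q, hq, hpq.symm⟩
  · intro x hx y hy hxy
    by_contra hcon
    push Not at hcon
    obtain ⟨hxc, hyc⟩ := hcon
    have hx2 := hA2 x hx
    have hy2 := hB2 y hy
    have hsx : span φ x = A := by
      refine eq_of_le_of_card_ge (sup_le (sup_le hcA (zpowers_le.2 hx))
        (zpowers_le.2 (hAφ.le ⟨x, hx, rfl⟩))) ?_
      rw [H.card_span hx2 hxc, hAcard]
    have hsy : span φ y = B := by
      refine eq_of_le_of_card_ge (sup_le (sup_le hcB (zpowers_le.2 hy))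
        (zpowers_le.2 (hBφ.le ⟨y, hy, rfl⟩))) ?_
      rw [H.card_span hy2 hyc, hBcard]
    have h1 : ⁅x, y⁆ = 1 := commutatorElement_eq_one_iff_commute.2 hxy
    have h2 : ⁅φ x, φ y⁆ = 1 := by rw [← map_commutatorElement, h1, map_one]
    have hrr : ∀ w : R, w * w = 1 → φ (φ w) = w * φ w := fun w hw => by
      rw [eq_inv_of_mul_eq_one_right (prod_eq_one H.act.fpf H.cube w), mul_inv_rev,
        inv_eq_of_mul_eq_one_right hw,
        inv_eq_of_mul_eq_one_right (show φ w * φ w = 1 by rw [← map_mul, hw, map_one])]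
      exact (commute_apply H.act.fpf H.cube w).symm.eq
    have h3 : ⁅φ (φ x), φ (φ y)⁆ = 1 := by rw [← map_commutatorElement, h2, map_one]
    rw [hrr x hx2, hrr y hy2, H.mulL, H.mulR, H.mulR, h1, h2, one_mul, mul_one] at h3
    have hee : ⁅x, φ y⁆ = ⁅φ x, y⁆ := by
      rw [mul_eq_one_iff_eq_inv] at h3
      rw [h3, inv_eq_of_mul_eq_one_right (H.center_sq (H.comm _ _))]
    have hfix : φ ⁅x, φ y⁆ = ⁅x, φ y⁆ := by
      rw [map_commutatorElement, hrr y hy2, H.mulR, h2, mul_one, hee]
    have h4 := H.act.fpf _ hfix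
    have hgens : ∀ p, (p = x ∨ p = φ x) → ∀ q, (q = y ∨ q = φ y) → Commute p q := by
      rintro p (rfl | rfl) q (rfl | rfl) <;> rw [← commutatorElement_eq_one_iff_commute]
      · exact h1
      · exact h4
      · exact hee ▸ h4
      · exact h2
    have hcomm : ∀ p ∈ A, ∀ q ∈ B, Commute p q := by
      have hq : ∀ q, (q = y ∨ q = φ y) → A ≤ centralizer ({q} : Set R) := fun q hq => by
        rw [← hsx]
        exact sup_le (sup_le (center_le_centralizer _)
          (zpowers_le.2 (mem_centralizer_singleton_iff.2 (hgens x (Or.inl rfl) q hq).eq)))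
          (zpowers_le.2 (mem_centralizer_singleton_iff.2 (hgens (φ x) (Or.inr rfl) q hq).eq))
      intro p hp q hqB
      have hle : B ≤ centralizer ({p} : Set R) := by
        rw [← hsy]
        refine sup_le (sup_le (center_le_centralizer _) (zpowers_le.2 ?_)) (zpowers_le.2 ?_)
        · exact mem_centralizer_singleton_iff.2
            (mem_centralizer_singleton_iff.1 (hq y (Or.inl rfl) hp)).symm
        · exact mem_centralizer_singleton_iff.2
            (mem_centralizer_singleton_iff.1 (hq (φ y) (Or.inr rfl) hp)).symm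
      exact (mem_centralizer_singleton_iff.1 (hle hqB)).symm
    have hxA : x ∈ center R := by
      refine mem_center_iff.2 fun g => ?_
      have hg : g ∈ ((A ⊔ B : Subgroup R) : Set R) := by rw [htop]; exact mem_top g
      rw [normal_mul] at hg
      obtain ⟨p, hp, q, hq, rfl⟩ := hg
      exact ((show Commute x p from Signalizer.commute_of_isMulCommutative hAe.1 hx hp).mul_right (hcomm x hx q hq)).symm.eq
    exact hxc hxA
  · rintro _ ⟨x, hx, rfl⟩
    show ψ (ψ x) ∈ A
    rwa [H.act.invol]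

/-- A central involution is the commutator of two involutions. -/
theorem exists_commutator {e : R} (he : e ∈ center R) (he1 : e ≠ 1) :
    ∃ a b : R, a * a = 1 ∧ b * b = 1 ∧ ⁅a, b⁆ = e := by
  classical
  obtain ⟨a, b, ha, hb, hab⟩ := H.nonab
  set c := ⁅a, b⁆ with hc
  have hc1 : c ≠ 1 := fun h => hab (commutatorElement_eq_one_iff_commute.1 h)
  have hcz : c ∈ center R := H.comm a b
  have hsq : ∀ {x : R}, x * x = 1 → φ x * φ x = 1 := fun {x} hx => by rw [← map_mul, hx, map_one]
  by_contra hcon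
  push Not at hcon
  have h0 : c ≠ e := hcon a b ha hb
  have h1 : φ c ≠ e := by
    rw [hc, map_commutatorElement]; exact hcon _ _ (hsq ha) (hsq hb)
  have h2 : φ (φ c) ≠ e := by
    rw [hc, map_commutatorElement, map_commutatorElement]
    exact hcon _ _ (hsq (hsq ha)) (hsq (hsq hb))
  have hφc : φ c ∈ center R := (H.map_center φ).le ⟨c, hcz, rfl⟩
  have hφφc : φ (φ c) ∈ center R := (H.map_center φ).le ⟨φ c, hφc, rfl⟩
  have a1 : φ c ≠ c := fun h => hc1 (H.act.fpf c h)
  have a2 : φ (φ c) ≠ c := fun h => hc1 (H.act.eq_one_of_sq h)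
  have a3 : φ (φ c) ≠ φ c := fun h => a1 (φ.injective h)
  have b1 : φ c ≠ 1 := fun h => hc1 (φ.injective (h.trans (map_one φ).symm))
  have b2 : φ (φ c) ≠ 1 := fun h => b1 (φ.injective (h.trans (map_one φ).symm))
  have h5 : ({1, c, φ c, φ (φ c), e} : Finset R).card = 5 := by
    rw [Finset.card_insert_of_notMem (by simp [Ne.symm hc1, Ne.symm b1, Ne.symm b2, Ne.symm he1]),
      Finset.card_insert_of_notMem (by simp [Ne.symm a1, Ne.symm a2, h0]),
      Finset.card_insert_of_notMem (by simp [Ne.symm a3, h1]),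
      Finset.card_insert_of_notMem (by simp [h2]), Finset.card_singleton]
  have hsub : ∀ t ∈ ({1, c, φ c, φ (φ c), e} : Finset R), t ∈ center R := by
    intro t ht
    simp only [Finset.mem_insert, Finset.mem_singleton] at ht
    rcases ht with rfl | rfl | rfl | rfl | rfl
    · exact one_mem _
    · exact hcz
    · exact hφc
    · exact hφφc
    · exact he
  have hle : 5 ≤ Nat.card (center R) := by
    rw [← h5, ← Nat.card_eq_finsetCard]
    exact Nat.card_le_card_of_injective (fun t => ⟨t.1, hsub _ t.2⟩) fun p q h =>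
      Subtype.ext (congrArg (fun w : center R => (w : R)) h)
  rw [H.card_center] at hle
  omega

end Hyp

end Cfsg.Agent.CoreKilling.WeakStruct
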