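import Cfsg.Agent.Lib.CoreKilling.WeakStruct
import Cfsg.Agent.Lib.CoreKilling.GenMain
import Cfsg.Agent.Lib.TwoCore.WeakFalse

/-!
# Core killing, rank three: a Sylow subgroup with an isolated involution
(owner: helper90; notes/core_killing_weak_e8.md (C))

* `Isolated S y` : `y` lies in no elementary subgroup of order 8 of `S`
* `central_eq` : `S` has one central involution then
* `GenW.weakFacts` : the facts on `S` used by `TwoCore.LocB.false_of_facts`
-/

set_option autoImplicit false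
set_option linter.unusedSectionVars false
set_option linter.style.haveILetI false

namespace Cfsg.Agent.CoreKilling

open Subgroup
open scoped commutatorElement

universe u

variable {G : Type u} [Group G] [Finite G]

/-- An involution of `S` in no elementary subgroup of order 8 of `S`. -/
def Isolated (S : Subgroup G) (y : G) : Prop :=
  y ∈ S ∧ orderOf y = 2 ∧
    ∀ F : Subgroup G, F ≤ S → Cfsg.IsElementaryAbelian 2 F → 2 ^ 3 ≤ Nat.card F → y ∉ F

/-- Three commuting independent involutions give an `E₈`. -/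
theorem exists_e8_of_three {S : Subgroup G} {a b c : G} (haS : a ∈ S) (hbS : b ∈ S) (hcS : c ∈ S)
    (ha : orderOf a = 2) (hb : orderOf b = 2) (hc : orderOf c = 2) (hab : Commute a b)
    (hac : Commute a c) (hbc : Commute b c) (hba : b ≠ a) (h1 : c ≠ a) (h2 : c ≠ b)
    (h3 : c ≠ a * b) :
    ∃ F : Subgroup G, F ≤ S ∧ Cfsg.IsElementaryAbelian 2 F ∧ 2 ^ 3 ≤ Nat.card F ∧
      a ∈ F ∧ b ∈ F ∧ c ∈ F := by
  haveI : Fact (Nat.Prime 2) := ⟨Nat.prime_two⟩
  have h4 := TwoCore.isFour_pair ha hb hba hab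
  set E := zpowers a ⊔ zpowers b
  have hEc : ∀ e ∈ E, Commute e c := by
    have : E ≤ centralizer ({c} : Set G) := sup_le
      (zpowers_le.2 (mem_centralizer_singleton_iff.2 hac.eq))
      (zpowers_le.2 (mem_centralizer_singleton_iff.2 hbc.eq))
    exact fun e he => mem_centralizer_singleton_iff.1 (this he)
  have hF : Cfsg.IsElementaryAbelian 2 (E ⊔ zpowers c : Subgroup G) :=
    Signalizer.elemAb_sup h4.1 (isElementaryAbelian_zpowers (hc ▸ pow_orderOf_eq_one c))
      fun e he w hw => by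
        obtain ⟨i, rfl⟩ := mem_zpowers_iff.1 hw
        exact ((hEc e he).zpow_right i).eq
  have hcE : c ∉ E := by
    intro hcE
    have haa : a * a = 1 := Involution.mul_self ha
    have hbb : b * b = 1 := Involution.mul_self hb
    let V : Subgroup G :=
      { carrier := {g | g = 1 ∨ g = a ∨ g = b ∨ g = a * b}
        one_mem' := Or.inl rfl
        mul_mem' := by
          have e1 : a * (a * b) = b := by rw [← mul_assoc, haa, one_mul]
          have e2 : b * (a * b) = a := by rw [hab.eq, ← mul_assoc, hbb, one_mul]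
          have e3 : a * b * a = b := by rw [hab.eq, mul_assoc, haa, mul_one]
          have e4 : a * b * b = a := by rw [mul_assoc, hbb, mul_one]
          have e5 : a * b * (a * b) = 1 := by
            rw [← hab.mul_mul_mul_comm, haa, hbb, one_mul]
          rintro p q (rfl | rfl | rfl | rfl) (rfl | rfl | rfl | rfl) <;>
            simp only [Set.mem_ofPred_eq, one_mul, mul_one, true_or, or_true, haa, hbb, e1, e2, e3,
              e4, e5, hab.symm.eq]
        inv_mem' := by
          rintro p (rfl | rfl | rfl | rfl) <;>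
            simp only [Set.mem_ofPred_eq, inv_one, mul_inv_rev, Involution.inv_eq ha,
              Involution.inv_eq hb, hab.symm.eq, true_or, or_true] }
    have hEV : E ≤ V := sup_le (zpowers_le.2 (Or.inr (Or.inl rfl)))
      (zpowers_le.2 (Or.inr (Or.inr (Or.inl rfl))))
    rcases hEV hcE with e | e | e | e
    · rw [e, orderOf_one] at hc; omega
    · exact h1 e
    · exact h2 e
    · exact h3 e
  refine ⟨E ⊔ zpowers c, sup_le (sup_le (zpowers_le.2 haS) (zpowers_le.2 hbS)) (zpowers_le.2 hcS),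
    hF, ?_, mem_sup_left (le_sup_left (b := zpowers b) (mem_zpowers a)),
    mem_sup_left (le_sup_right (a := zpowers a) (mem_zpowers b)), mem_sup_right (mem_zpowers c)⟩
  rw [Signalizer.card_sup_zpowers hF le_sup_left (mem_sup_right (mem_zpowers c)) hcE]
  have := h4.2
  omega

variable {S : Sylow 2 G}

/-- With an isolated involution `S` has only one central involution. -/
theorem central_eq {y : G} (hy : Isolated (S : Subgroup G) y)
    (hrank : ∃ F : Subgroup G, F ≤ (S : Subgroup G) ∧ Cfsg.IsElementaryAbelian 2 F ∧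
      2 ^ 3 ≤ Nat.card F)
    {z z' : G} (hzS : z ∈ S) (hz : orderOf z = 2) (hzc : ∀ s ∈ S, Commute s z)
    (hz'S : z' ∈ S) (hz' : orderOf z' = 2) (hz'c : ∀ s ∈ S, Commute s z') : z' = z := by
  obtain ⟨F, hFS, hF, hF3⟩ := hrank
  have hyc : ¬ ∀ s ∈ S, Commute s y := fun hc => by
    obtain ⟨h1, h2⟩ := exists_sup_central hy.1 hy.2.1 hc hFS hF
    exact hy.2.2 _ h1 h2 (hF3.trans (card_le_of_le le_sup_left)) (mem_sup_right (mem_zpowers y))
  by_contra hne
  obtain ⟨F', h1, h2, h3, -, -, h6⟩ := exists_e8_of_three hzS hz'S hy.1 hz hz' hy.2.1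
    (hzc z' hz'S).symm (hzc y hy.1).symm (hz'c y hy.1).symm hne
    (fun e => hyc (e ▸ hzc)) (fun e => hyc (e ▸ hz'c))
    (fun e => hyc fun s hs => e ▸ (hzc s hs).mul_right (hz'c s hs))
  exact hy.2.2 _ h1 h2 h3 h6

section marked

variable {z v : G} (hzS : z ∈ S) (hz : orderOf z = 2) (hzc : ∀ s ∈ S, Commute s z)
  (hvS : v ∈ S) (hv : orderOf v = 2) (hvz : v ≠ z)
  (hmark : ∀ s ∈ S, s * v * s⁻¹ * v⁻¹ = 1 ∨ s * v * s⁻¹ * v⁻¹ = z)
include hzS hz hzc hvS hv hvz hmark

theorem moves {s : G} (hs : s ∈ S) (hsv : ¬ Commute s v) : s * v * s⁻¹ = z * v :=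
  mul_inv_eq_iff_eq_mul.1
    ((hmark s hs).resolve_left fun h => hsv (mul_inv_eq_iff_eq_mul.1 (mul_inv_eq_one.1 h)))

theorem commute_mul {s t : G} (hs : s ∈ S) (ht : t ∈ S) (hsv : ¬ Commute s v)
    (htv : ¬ Commute t v) : Commute (s * t) v := by
  refine mul_inv_eq_iff_eq_mul.1 ?_
  rw [show s * t * v * (s * t)⁻¹ = s * (t * v * t⁻¹) * s⁻¹ by group,
    moves hzS hz hzc hvS hv hvz hmark ht htv,
    show s * (z * v) * s⁻¹ = (s * z * s⁻¹) * (s * v * s⁻¹) by group,
    moves hzS hz hzc hvS hv hvz hmark hs hsv, (hzc s hs).eq, mul_inv_cancel_right, ← mul_assoc,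
    Involution.mul_self hz, one_mul]

/-- An `E₈` of `S` through `z` and `v`. -/
theorem exists_e8_mark (hrank : ∃ F : Subgroup G, F ≤ (S : Subgroup G) ∧
      Cfsg.IsElementaryAbelian 2 F ∧ 2 ^ 3 ≤ Nat.card F) :
    ∃ F : Subgroup G, F ≤ (S : Subgroup G) ∧ Cfsg.IsElementaryAbelian 2 F ∧ 2 ^ 3 ≤ Nat.card F ∧
      z ∈ F ∧ v ∈ F := by
  haveI : Fact (Nat.Prime 2) := ⟨Nat.prime_two⟩
  obtain ⟨F, hFS, hF, hF3⟩ := hrank
  obtain ⟨hDS, hD⟩ := exists_sup_central hzS hz hzc hFS hF
  set D := F ⊔ zpowers z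
  have hD3 : 2 ^ 3 ≤ Nat.card D := hF3.trans (card_le_of_le le_sup_left)
  have hzD : z ∈ D := mem_sup_right (mem_zpowers z)
  by_cases hvD : v ∈ D
  · exact ⟨D, hDS, hD, hD3, hzD, hvD⟩
  set Dv := D ⊓ centralizer ({v} : Set G)
  have hsup : Cfsg.IsElementaryAbelian 2 (Dv ⊔ zpowers v : Subgroup G) :=
    Signalizer.elemAb_sup (Signalizer.elemAb_of_le hD inf_le_left)
      (isElementaryAbelian_zpowers (hv ▸ pow_orderOf_eq_one v)) fun e he w hw => by
        obtain ⟨i, rfl⟩ := mem_zpowers_iff.1 hw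
        exact ((show Commute e v from mem_centralizer_singleton_iff.1 he.2).zpow_right i).eq
  have hcard : Nat.card D ≤ 2 * Nat.card Dv := by
    by_cases hall : D ≤ Dv
    · exact (card_le_of_le hall).trans (Nat.le_mul_of_pos_left _ two_pos)
    obtain ⟨e, heD, heDv⟩ := SetLike.not_le_iff_exists.1 hall
    have hev : ¬ Commute e v := fun h => heDv ⟨heD, mem_centralizer_singleton_iff.2 h.eq⟩
    have hle : D ≤ Dv ⊔ zpowers e := by
      intro d hd
      by_cases hdv : Commute d v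
      · exact mem_sup_left ⟨hd, mem_centralizer_singleton_iff.2 hdv.eq⟩
      · have h1 : d * e ∈ Dv := ⟨D.mul_mem hd heD, mem_centralizer_singleton_iff.2
          (commute_mul hzS hz hzc hvS hv hvz hmark (hDS hd) (hDS heD) hdv hev).eq⟩
        have h2 := mul_mem_sup h1 (inv_mem (mem_zpowers e))
        rwa [mul_inv_cancel_right] at h2
    refine (card_le_of_le hle).trans (le_of_eq ?_)
    rw [Signalizer.card_sup_zpowers hD inf_le_left heD heDv, mul_comm]
  refine ⟨Dv ⊔ zpowers v, sup_le (inf_le_left.trans hDS) (zpowers_le.2 hvS), hsup, ?_,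
    mem_sup_left ⟨hzD, mem_centralizer_singleton_iff.2 (hzc v hvS).symm.eq⟩,
    mem_sup_right (mem_zpowers v)⟩
  rw [Signalizer.card_sup_zpowers hsup le_sup_left (mem_sup_right (mem_zpowers v))
    fun h => hvD h.1]
  omega

variable {y : G} (hy : Isolated (S : Subgroup G) y)
  (hrank : ∃ F : Subgroup G, F ≤ (S : Subgroup G) ∧ Cfsg.IsElementaryAbelian 2 F ∧
    2 ^ 3 ≤ Nat.card F)
include hy hrank

/-- An isolated involution does not centralise `v`. -/
theorem not_commute : ¬ Commute y v := by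
  intro hc
  obtain ⟨F, hFS, hF, hF3, hzF, hvF⟩ := exists_e8_mark hzS hz hzc hvS hv hvz hmark hrank
  have hne : ∀ a ∈ F, y ≠ a := fun a ha e => hy.2.2 F hFS hF hF3 (e ▸ ha)
  obtain ⟨F', h1, h2, h3, -, -, h6⟩ := exists_e8_of_three hzS hvS hy.1 hz hv hy.2.1
    (hzc v hvS).symm (hzc y hy.1).symm hc.symm hvz (hne z hzF) (hne v hvF)
    (hne _ (F.mul_mem hzF hvF))
  exact hy.2.2 _ h1 h2 h3 h6

/-- The only involution centralising `v` and an isolated one is `z`. -/
theorem eq_z_of_commute {i : G} (hiS : i ∈ S) (hi : orderOf i = 2) (hiv : Commute i v)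
    (hiy : Commute i y) : i = z := by
  by_contra hne
  have hyv := not_commute hzS hz hzc hvS hv hvz hmark hy hrank
  have hzv : Commute z v := (hzc v hvS).symm
  obtain ⟨F', h1, h2, h3, -, -, h6⟩ := exists_e8_of_three hzS hiS hy.1 hz hi hy.2.1
    (hzc i hiS).symm (hzc y hy.1).symm hiy hne
    (fun e => hyv (e ▸ hzv)) (fun e => hyv (e ▸ hiv)) (fun e => hyv (e ▸ hzv.mul_left hiv))
  exact hy.2.2 _ h1 h2 h3 h6

end marked

section fill

variable {θ : G → Subgroup G} {W : Subgroup G} {z v : G}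

/-- **Part (C).** -/
theorem GenW.weakFacts (h : GenW θ S W) (p : FirstPart S W z v) {y : G}
    (hy : Isolated (S : Subgroup G) y) :
    TwoCore.WeakFacts (S : Subgroup G) z v ∧
      ∀ u ∈ S, u * u = z → ∃ f ∈ S, orderOf f = 2 ∧ f ≠ z ∧ Commute f u := by
  classical
  haveI : Fact (Nat.Prime 2) := ⟨Nat.prime_two⟩
  have hrank := h.rank z p.z_mem p.z2
  obtain ⟨F8, hF8S, hF8, hF83, hzF8, hvF8⟩ :=
    exists_e8_mark p.z_mem p.z2 p.z_comm p.v_mem p.v2 p.vz p.mark hrank
  have hmoves : ∀ {s : G}, s ∈ S → ¬ Commute s v → s * v * s⁻¹ = z * v := fun {_} hs hsv =>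
    moves p.z_mem p.z2 p.z_comm p.v_mem p.v2 p.vz p.mark hs hsv
  have hyv : ¬ Commute y v := not_commute p.z_mem p.z2 p.z_comm p.v_mem p.v2 p.vz p.mark hy hrank
  have huniq : ∀ {i : G}, i ∈ S → orderOf i = 2 → Commute i v → Commute i y → i = z :=
    fun {_} hi hi2 hiv hiy =>
      eq_z_of_commute p.z_mem p.z2 p.z_comm p.v_mem p.v2 p.vz p.mark hy hrank hi hi2 hiv hiy
  have hzz : z * z = 1 := Involution.mul_self p.z2
  have hvv : v * v = 1 := Involution.mul_self p.v2
  have hz1 : z ≠ 1 := Involution.ne_one p.z2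
  have hv1 : v ≠ 1 := Involution.ne_one p.v2
  have hzv : Commute z v := (p.z_comm v p.v_mem).symm
  have hyi : y⁻¹ = y := Involution.inv_eq hy.2.1
  -- the group `R`
  set R : Subgroup G := (S : Subgroup G) ⊓ centralizer ({v} : Set G) with hRdef
  have hmemR : ∀ {g : G}, g ∈ R ↔ g ∈ S ∧ Commute g v := fun {g} =>
    ⟨fun hg => ⟨hg.1, mem_centralizer_singleton_iff.1 hg.2⟩,
      fun hg => ⟨hg.1, mem_centralizer_singleton_iff.2 hg.2.eq⟩⟩
  have hzR : z ∈ R := hmemR.2 ⟨p.z_mem, hzv⟩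
  have hvR : v ∈ R := hmemR.2 ⟨p.v_mem, Commute.refl v⟩
  have hout : ∀ {s : G}, s ∈ S → ¬ Commute s v → y * s ∈ R := fun {s} hs hsv =>
    hmemR.2 ⟨S.mul_mem hy.1 hs,
      commute_mul p.z_mem p.z2 p.z_comm p.v_mem p.v2 p.vz p.mark hy.1 hs hyv hsv⟩
  have hyR : ∀ {r : G}, r ∈ R → y * r * y⁻¹ ∈ R := fun {r} hr => by
    refine hmemR.2 ⟨S.mul_mem (S.mul_mem hy.1 (hmemR.1 hr).1) (S.inv_mem hy.1), ?_⟩
    have h2 := ((p.z_comm r (hmemR.1 hr).1).mul_right (hmemR.1 hr).2).map
      (MulAut.conj y).toMonoidHom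
    simp only [MulEquiv.coe_toMonoidHom, MulAut.conj_apply] at h2
    rwa [show y * (z * v) * y⁻¹ = (y * z * y⁻¹) * (y * v * y⁻¹) by group, hmoves hy.1 hyv,
      (p.z_comm y hy.1).eq, mul_inv_cancel_right, ← mul_assoc, hzz, one_mul] at h2
  have hRp : IsPGroup 2 R := S.isPGroup'.to_le inf_le_left
  -- the small elementary subgroup of fixed points
  have hsmall : ∀ L : Subgroup G, L ≤ R → Cfsg.IsElementaryAbelian 2 L →
      (∀ l ∈ L, y * l * y⁻¹ ∈ L) → Nat.card L ≤ 4 := by
    intro L hLR hL hyL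
    have h1 := card_le_sq hL (Involution.mul_self hy.2.1) hyL
    have h2 : Nat.card ↥(L ⊓ centralizer ({y} : Set G)) ≤ 2 := by
      refine TwoCore.card_le_two_of_forall (x := z) fun a ha => ?_
      by_cases ha1 : a = 1
      · exact Or.inl ha1
      · exact Or.inr (huniq (hmemR.1 (hLR ha.1)).1 (orderOf_of_mem hL ha.1 ha1)
          (hmemR.1 (hLR ha.1)).2 (mem_centralizer_singleton_iff.1 ha.2))
    exact h1.trans ((Nat.pow_le_pow_left h2 2).trans (by norm_num))
  have hord : ∀ {a : G}, a * a = 1 → a ≠ 1 → orderOf a = 2 := fun ha ha1 =>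
    Involution.orderOf_of_sq ha ha1
  have hF8R : F8 ≤ R := fun e he => hmemR.2 ⟨hF8S he,
    Signalizer.commute_of_isMulCommutative hF8.1 he hvF8⟩
  -- non-commuting involutions
  obtain ⟨a₀, ha₀, b₀, hb₀, ha₀2, hb₀2, hab₀⟩ : ∃ a ∈ R, ∃ b ∈ R,
      orderOf a = 2 ∧ orderOf b = 2 ∧ ¬ Commute a b := by
    by_contra hcon
    push Not at hcon
    have hcm : ∀ a ∈ R, a * a = 1 → ∀ b ∈ R, b * b = 1 → Commute a b := by
      intro a ha ha2 b hb hb2
      by_cases ha1 : a = 1
      · exact ha1 ▸ Commute.one_left b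
      by_cases hb1 : b = 1
      · exact hb1 ▸ Commute.one_right a
      exact hcon a ha b hb (hord ha2 ha1) (hord hb2 hb1)
    let L : Subgroup G :=
      { carrier := {a | a ∈ R ∧ a * a = 1}
        one_mem' := ⟨one_mem _, one_mul 1⟩
        mul_mem' := fun {a b} ha hb => ⟨R.mul_mem ha.1 hb.1, by
          rw [(hcm b hb.1 hb.2 a ha.1 ha.2).mul_mul_mul_comm, ha.2, hb.2, one_mul]⟩
        inv_mem' := fun {a} ha => ⟨R.inv_mem ha.1, by rw [← mul_inv_rev, ha.2, inv_one]⟩ }
    have hL : Cfsg.IsElementaryAbelian 2 L :=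
      ⟨⟨⟨fun a b => Subtype.ext (hcm a a.2.1 a.2.2 b b.2.1 b.2.2).eq⟩⟩,
        fun a ha => by rw [pow_two]; exact ha.2⟩
    have h4 := hsmall L (fun a ha => ha.1) hL fun l hl => ⟨hyR hl.1, by
      rw [show y * l * y⁻¹ * (y * l * y⁻¹) = y * (l * l) * y⁻¹ by group, hl.2]; group⟩
    have h8 : Nat.card F8 ≤ Nat.card L := card_le_of_le fun e he =>
      ⟨hF8R he, by rw [← pow_two]; exact hF8.2 e he⟩
    omega
  -- `v` is conjugate to `z`
  have hconj : ∃ g : G, g * z * g⁻¹ = v := (p.dich v p.v_mem p.v2).resolve_right fun hs =>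
    hab₀ (hs.1 a₀ (hmemR.1 ha₀).1 b₀ (hmemR.1 hb₀).1 ha₀2 hb₀2 (hmemR.1 ha₀).2.symm
      (hmemR.1 hb₀).2.symm)
  obtain ⟨m, -, hmv, hmS⟩ := p.exists_fuse h p.v_mem p.v2 hconj
  -- an element fixing `v` and moving `z`
  set w := m * z * m⁻¹ with hw
  have hwS : w ∈ S := hmS z p.z_mem hzv
  have hw2 : orderOf w = 2 := by rw [hw, Involution.orderOf_conj]; exact p.z2
  have hwz : w ≠ z := fun e => p.vz (mul_left_cancel (mul_right_cancel (hmv.trans e.symm)))
  obtain ⟨s, hs, hsw⟩ : ∃ s ∈ S, ¬ Commute s w := by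
    by_contra hcon
    push Not at hcon
    exact hwz (central_eq hy hrank p.z_mem p.z2 p.z_comm hwS hw2 hcon)
  set R' : Subgroup G := R.map (MulAut.conj m).toMonoidHom with hR'
  have hR'S : R' ≤ (S : Subgroup G) := by
    rintro _ ⟨r, hr, rfl⟩
    exact hmS r (hmemR.1 hr).1 (hmemR.1 hr).2
  have hR'n : ∀ r ∈ R', s * r * s⁻¹ ∈ R' := by
    have hcardR : 2 * Nat.card R = Nat.card (S : Subgroup G) := by
      have h2 : (R.subgroupOf (S : Subgroup G)).index = 2 := by
        rw [index_eq_two_iff]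
        refine ⟨⟨y, hy.1⟩, fun t => ?_⟩
        by_cases ht : Commute (t : G) v
        · refine Or.inr ⟨mem_subgroupOf.2 (hmemR.2 ⟨t.2, ht⟩), fun hm => hyv ?_⟩
          have := ht.inv_left.mul_left (hmemR.1 (mem_subgroupOf.1 hm)).2
          simpa using this
        · refine Or.inl ⟨mem_subgroupOf.2 ?_, fun hm => ht (hmemR.1 (mem_subgroupOf.1 hm)).2⟩
          exact hmemR.2 ⟨S.mul_mem t.2 hy.1,
            commute_mul p.z_mem p.z2 p.z_comm p.v_mem p.v2 p.vz p.mark t.2 hy.1 ht hyv⟩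
      rw [← (R.subgroupOf (S : Subgroup G)).index_mul_card, h2,
        Cores.card_subgroupOf (inf_le_left : R ≤ _)]
    have hidx : (R'.subgroupOf (S : Subgroup G)).index = 2 := by
      have := (R'.subgroupOf (S : Subgroup G)).index_mul_card
      rw [Cores.card_subgroupOf hR'S, hR', card_map_of_injective (MulAut.conj m).injective,
        ← hcardR] at this
      exact Nat.eq_of_mul_eq_mul_right Nat.card_pos this
    haveI := normal_of_index_eq_two hidx
    intro r hr
    exact mem_subgroupOf.1 ((‹(R'.subgroupOf (S : Subgroup G)).Normal›).conj_mem ⟨r, hR'S hr⟩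
      (mem_subgroupOf.2 hr) ⟨s, hs⟩)
  set s' := m⁻¹ * s * m with hs'
  have hs'v : s' * v * s'⁻¹ = v := by
    have hv' : v = m⁻¹ * z * m := by rw [← hmv]; group
    rw [hs', hv', show m⁻¹ * s * m * (m⁻¹ * z * m) * (m⁻¹ * s * m)⁻¹ = m⁻¹ * (s * z * s⁻¹) * m by
      group, (p.z_comm s hs).eq, mul_inv_cancel_right]
  have hs'R : ∀ r ∈ R, s' * r * s'⁻¹ ∈ R := by
    intro r hr
    obtain ⟨r', hr', he⟩ := hR'n _ ⟨r, hr, rfl⟩
    have e : m * r' * m⁻¹ = s * (m * r * m⁻¹) * s⁻¹ := he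
    rw [hs', show m⁻¹ * s * m * r * (m⁻¹ * s * m)⁻¹ = m⁻¹ * (s * (m * r * m⁻¹) * s⁻¹) * m by group,
      ← e, show m⁻¹ * (m * r' * m⁻¹) * m = r' by group]
    exact hr'
  have hcenR : ∀ {i : G}, i ∈ R → i * i = 1 → (∀ r ∈ R, Commute r i) →
      i = 1 ∨ i = z ∨ i = v ∨ i = z * v := by
    intro i hi hi2 hic
    by_contra hcon
    push Not at hcon
    let L : Subgroup G :=
      { carrier := {a | a ∈ R ∧ a * a = 1 ∧ ∀ r ∈ R, Commute r a}
        one_mem' := ⟨one_mem _, one_mul 1, fun r _ => Commute.one_right r⟩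
        mul_mem' := fun {a b} ha hb => ⟨R.mul_mem ha.1 hb.1, by
          rw [(ha.2.2 b hb.1).mul_mul_mul_comm, ha.2.1, hb.2.1, one_mul],
          fun r hr => (ha.2.2 r hr).mul_right (hb.2.2 r hr)⟩
        inv_mem' := fun {a} ha => ⟨R.inv_mem ha.1, by rw [← mul_inv_rev, ha.2.1, inv_one],
          fun r hr => (ha.2.2 r hr).inv_right⟩ }
    have hL : Cfsg.IsElementaryAbelian 2 L :=
      ⟨⟨⟨fun a b => Subtype.ext (b.2.2.2 a a.2.1).eq⟩⟩,
        fun a ha => by rw [pow_two]; exact ha.2.1⟩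
    have h4 := hsmall L (fun a ha => ha.1) hL fun l hl => ⟨hyR hl.1, by
      rw [show y * l * y⁻¹ * (y * l * y⁻¹) = y * (l * l) * y⁻¹ by group, hl.2.1]; group,
      fun r hr => by
        have := (hl.2.2 _ (hyR hr)).map (MulAut.conj y).toMonoidHom
        simp only [MulEquiv.coe_toMonoidHom, MulAut.conj_apply] at this
        rw [hyi] at this ⊢
        rwa [show y * (y * r * y) * y = (y * y) * r * (y * y) by group,
          Involution.mul_self hy.2.1, one_mul, mul_one] at this⟩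
    have hzL : z ∈ L := ⟨hzR, hzz, fun r hr => p.z_comm r (hmemR.1 hr).1⟩
    have hvL : v ∈ L := ⟨hvR, hvv, fun r hr => (hmemR.1 hr).2⟩
    obtain ⟨n1, n2, n3, n4⟩ := hcon
    have a1 : z * v ≠ 1 := fun e => p.vz (by
      rw [mul_eq_one_iff_eq_inv, Involution.inv_eq p.v2] at e; exact e.symm)
    have a2 : z * v ≠ z := fun e => hv1 (mul_eq_left.1 e)
    have a3 : z * v ≠ v := fun e => hz1 (mul_eq_right.1 e)
    have h5 : ({1, z, v, z * v, i} : Finset G).card = 5 := by
      rw [Finset.card_insert_of_notMem (by simp [Ne.symm hz1, Ne.symm hv1, Ne.symm a1, Ne.symm n1]),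
        Finset.card_insert_of_notMem (by simp [Ne.symm p.vz, Ne.symm a2, Ne.symm n2]),
        Finset.card_insert_of_notMem (by simp [Ne.symm a3, Ne.symm n3]),
        Finset.card_insert_of_notMem (by simp [Ne.symm n4]), Finset.card_singleton]
    have hsub : ∀ t ∈ ({1, z, v, z * v, i} : Finset G), t ∈ L := by
      intro t ht
      simp only [Finset.mem_insert, Finset.mem_singleton] at ht
      rcases ht with rfl | rfl | rfl | rfl | rfl
      · exact one_mem _
      · exact hzL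
      · exact hvL
      · exact L.mul_mem hzL hvL
      · exact ⟨hi, hi2, hic⟩
    have hle : 5 ≤ Nat.card L := by
      rw [← h5, ← Nat.card_eq_finsetCard]
      exact Nat.card_le_card_of_injective (fun t => ⟨t.1, hsub _ t.2⟩) fun a b e =>
        Subtype.ext (congrArg (fun t : L => (t : G)) e)
    omega
  have hnormR : ∀ {g : G}, (∀ r ∈ R, g * r * g⁻¹ ∈ R) → g ∈ normalizer (R : Set G) :=
    fun {g} hg => Signalizer.mem_normalizer_of_conj_mem hg
  have hyN : y ∈ normalizer (R : Set G) := hnormR fun r hr => hyR hr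
  have hs'N : s' ∈ normalizer (R : Set G) := hnormR hs'R
  have hs'z : s' * z * s'⁻¹ = z * v := by
    have hcomm : ∀ r ∈ R, Commute r (s' * z * s'⁻¹) := by
      intro r hr
      have hr' : s'⁻¹ * r * s' ∈ R := by
        have := (mem_normalizer_iff.1 (inv_mem hs'N) r).1 hr
        rwa [inv_inv] at this
      have := (p.z_comm _ (hmemR.1 hr').1).map (MulAut.conj s').toMonoidHom
      simp only [MulEquiv.coe_toMonoidHom, MulAut.conj_apply] at this
      rwa [show s' * (s'⁻¹ * r * s') * s'⁻¹ = r by group] at this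
    rcases hcenR (hs'R z hzR) (by
      rw [show s' * z * s'⁻¹ * (s' * z * s'⁻¹) = s' * (z * z) * s'⁻¹ by group, hzz]; group)
      hcomm with e | e | e | e
    · exact absurd (conj_eq_one_iff.1 e) hz1
    · exfalso
      refine hsw ?_
      have h1 : Commute s' z := mul_inv_eq_iff_eq_mul.1 e
      have := h1.map (MulAut.conj m).toMonoidHom
      simp only [MulEquiv.coe_toMonoidHom, MulAut.conj_apply] at this
      rwa [hs', show m * (m⁻¹ * s * m) * m⁻¹ = s by group] at this
    · exact absurd (mul_left_cancel (mul_right_cancel (e.trans hs'v.symm))).symm p.vz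
    · exact e
  -- an element of order three on `⟨z, v⟩`
  have hs'zv : s' * (z * v) * s'⁻¹ = z := by
    rw [show s' * (z * v) * s'⁻¹ = (s' * z * s'⁻¹) * (s' * v * s'⁻¹) by group, hs'z, hs'v,
      mul_assoc, hvv, mul_one]
  have hyzv : y * (z * v) * y⁻¹ = v := by
    rw [show y * (z * v) * y⁻¹ = (y * z * y⁻¹) * (y * v * y⁻¹) by group, hmoves hy.1 hyv,
      (p.z_comm y hy.1).eq, mul_inv_cancel_right, ← mul_assoc, hzz, one_mul]
  set y1 := s' * y * s'⁻¹ with hy1
  have hy1z : y1 * z * y1⁻¹ = v := by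
    have e : s'⁻¹ * z * s' = z * v := by
      conv_lhs => rw [← hs'zv]
      group
    rw [hy1, show s' * y * s'⁻¹ * z * (s' * y * s'⁻¹)⁻¹ = s' * (y * (s'⁻¹ * z * s') * y⁻¹) * s'⁻¹ by
      group, e, hyzv, hs'v]
  have hy1v : y1 * v * y1⁻¹ = z := by
    have e : s'⁻¹ * v * s' = v := by
      conv_lhs => rw [← hs'v]
      group
    rw [hy1, show s' * y * s'⁻¹ * v * (s' * y * s'⁻¹)⁻¹ = s' * (y * (s'⁻¹ * v * s') * y⁻¹) * s'⁻¹ by
      group, e, hmoves hy.1 hyv, hs'zv]
  set q := y * y1 with hq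
  have hqz : q * z * q⁻¹ = z * v := by
    rw [hq, show y * y1 * z * (y * y1)⁻¹ = y * (y1 * z * y1⁻¹) * y⁻¹ by group, hy1z,
      hmoves hy.1 hyv]
  have hqv : q * v * q⁻¹ = z := by
    rw [hq, show y * y1 * v * (y * y1)⁻¹ = y * (y1 * v * y1⁻¹) * y⁻¹ by group, hy1v,
      (p.z_comm y hy.1).eq, mul_inv_cancel_right]
  have hqzv : q * (z * v) * q⁻¹ = v := by
    rw [show q * (z * v) * q⁻¹ = (q * z * q⁻¹) * (q * v * q⁻¹) by group, hqz, hqv, mul_assoc,
      ← hzv.eq, ← mul_assoc, hzz, one_mul]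
  have hqy : y * q * y⁻¹ = q⁻¹ := by
    have hy1i : y1⁻¹ = y1 := by simp only [hy1, mul_inv_rev, inv_inv, hyi, mul_assoc]
    rw [hq, mul_inv_rev, hy1i, hyi, ← mul_assoc, Involution.mul_self hy.2.1, one_mul]
  have hqN : q ∈ normalizer (R : Set G) := mul_mem hyN (mul_mem (mul_mem hs'N hyN) (inv_mem hs'N))
  have hq3 : ∀ k : ℕ, ¬ 3 ∣ k → q ^ k * z * (q ^ k)⁻¹ ≠ z := by
    have h3 : q ^ 3 * z * (q ^ 3)⁻¹ = z := by
      rw [show q ^ 3 * z * (q ^ 3)⁻¹ = q * (q * (q * z * q⁻¹) * q⁻¹) * q⁻¹ by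
        rw [pow_three]; group, hqz, hqzv, hqv]
    intro k hk
    have hdec : q ^ k * z * (q ^ k)⁻¹ = q ^ (k % 3) * z * (q ^ (k % 3))⁻¹ := by
      conv_lhs => rw [← Nat.mod_add_div k 3, pow_add, pow_mul]
      rw [show q ^ (k % 3) * (q ^ 3) ^ (k / 3) * z * (q ^ (k % 3) * (q ^ 3) ^ (k / 3))⁻¹ =
        q ^ (k % 3) * ((q ^ 3) ^ (k / 3) * z * ((q ^ 3) ^ (k / 3))⁻¹) * (q ^ (k % 3))⁻¹ by group,
        ((show Commute (q ^ 3) z from mul_inv_eq_iff_eq_mul.1 h3).pow_left (k / 3)).eq,
        mul_inv_cancel_right]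
    rw [hdec]
    rcases (show k % 3 = 1 ∨ k % 3 = 2 by omega) with e | e <;> rw [e]
    · rw [pow_one, hqz]
      exact fun e' => hv1 (mul_eq_left.1 e')
    · rw [show q ^ 2 * z * (q ^ 2)⁻¹ = q * (q * z * q⁻¹) * q⁻¹ by
        rw [pow_two]; group, hqz, hqzv]
      exact p.vz
  obtain ⟨a2, b, hb, hab⟩ := Nat.exists_eq_pow_mul_and_not_dvd (orderOf_pos q).ne' 2 (by norm_num)
  set β := q ^ 2 ^ a2 with hβ
  have hβb : β ^ b = 1 := by rw [hβ, ← pow_mul, ← hab, pow_orderOf_eq_one]
  have hβN : β ∈ normalizer (R : Set G) := pow_mem hqN _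
  have hβy : y * β * y⁻¹ = β⁻¹ := by rw [hβ, ← conj_pow, hqy, inv_pow]
  have h3dvd : ¬ 3 ∣ 2 ^ a2 := fun hd =>
    absurd (Nat.Prime.dvd_of_dvd_pow Nat.prime_three hd) (by norm_num)
  have hmapR : ∀ {g : G}, g ∈ normalizer (R : Set G) →
      R.map (MulAut.conj g).toMonoidHom = R := fun {g} hg =>
    (Solvable.conj_eq_map g R).symm.trans (Solvable.mem_normalizer_iff_conj.1 hg)
  set φ := FpfThree.restrictEquiv (MulAut.conj β) (hmapR hβN) with hφ
  set ψ := FpfThree.restrictEquiv (MulAut.conj y) (hmapR hyN) with hψ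
  have hφv : ∀ r : R, ((φ r : R) : G) = β * r * β⁻¹ := fun r => rfl
  have hψv : ∀ r : R, ((ψ r : R) : G) = y * r * y⁻¹ := fun r => rfl
  have hfpf : ∀ r ∈ R, β * r * β⁻¹ = r → r = 1 := by
    intro r hr hfix
    by_contra hr1
    set D : Subgroup G := R ⊓ centralizer ({β} : Set G) with hD
    obtain ⟨k, hk⟩ := IsPGroup.iff_card.1 (hRp.to_le (inf_le_left : D ≤ R))
    have hrD : r ∈ D := ⟨hr, mem_centralizer_singleton_iff.2 (mul_inv_eq_iff_eq_mul.1 hfix).symm⟩
    have hk0 : k ≠ 0 := by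
      rintro rfl
      rw [pow_zero] at hk
      exact hr1 ((mem_bot (G := G)).1 (Subgroup.card_eq_one.1 hk ▸ hrD))
    have hcardS : ¬ 2 ∣ Nat.card ((D : Set G) \ {1} : Set G) := by
      rw [Nat.card_coe_set_eq, Set.ncard_sdiff_singleton_of_mem D.one_mem, ← Nat.card_coe_set_eq,
        show Nat.card (D : Set G) = 2 ^ k from hk]
      obtain ⟨j, rfl⟩ : ∃ j, k = j + 1 := ⟨k - 1, by omega⟩
      have h1 : 1 ≤ 2 ^ j := Nat.one_le_two_pow
      rw [pow_succ]
      omega
    have hyA : ∀ a ∈ zpowers y, a = 1 ∨ a = y := by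
      intro a ha
      obtain ⟨i, rfl⟩ := mem_zpowers_iff.1 ha
      rw [← zpow_mod_orderOf, hy.2.1, Nat.cast_ofNat]
      rcases Int.emod_two_eq_zero_or_one i with e | e <;> rw [e]
      · exact Or.inl (zpow_zero y)
      · exact Or.inr (zpow_one y)
    obtain ⟨f, ⟨hfD, hf1⟩, hff⟩ := Signalizer.exists_fixed_mem (p := 2)
      (Signalizer.isPGroup_zpowers_of_pow_eq_one (hy.2.1 ▸ pow_orderOf_eq_one y))
      ((D : Set G) \ {1}) hcardS (by
        intro a ha x hx
        rcases hyA a ha with rfl | rfl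
        · simpa using hx
        · refine ⟨⟨hyR hx.1.1, mem_centralizer_singleton_iff.2 ?_⟩,
            fun e => hx.2 (conj_eq_one_iff.1 e)⟩
          have h1 := (show Commute x β from mem_centralizer_singleton_iff.1 hx.1.2).map
            (MulAut.conj a).toMonoidHom
          simp only [MulEquiv.coe_toMonoidHom, MulAut.conj_apply, hβy] at h1
          have := h1.inv_right
          rw [inv_inv] at this
          exact this.eq)
    have hfy : Commute f y := (mul_inv_eq_iff_eq_mul.1 (hff y (mem_zpowers y))).symm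
    obtain ⟨j, hj⟩ := IsPGroup.iff_orderOf.1 (hRp.to_le (inf_le_left : D ≤ R)) ⟨f, hfD⟩
    rw [Subgroup.orderOf_mk] at hj
    obtain ⟨j, rfl⟩ : ∃ i, j = i + 1 := ⟨j - 1, by
      rcases j with _ | j
      · exact absurd (orderOf_eq_one_iff.1 (by simpa using hj)) hf1
      · omega⟩
    have hi2 : orderOf (f ^ 2 ^ j) = 2 := by
      rw [orderOf_pow' _ (by positivity), hj, Nat.gcd_eq_right (pow_dvd_pow 2 (Nat.le_succ j)),
        pow_succ, Nat.mul_div_cancel_left _ (by positivity)]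
    have hiz := huniq (S.pow_mem (hmemR.1 hfD.1).1 _) hi2 ((hmemR.1 hfD.1).2.pow_left _)
      (hfy.pow_left _)
    have hfβ : Commute f β := mem_centralizer_singleton_iff.1 hfD.2
    refine hq3 (2 ^ a2) h3dvd ?_
    rw [← hβ, ← hiz, (hfβ.pow_left _).symm.eq, mul_inv_cancel_right]
  have hact : Orders5.FpfDihedral.Act φ ψ := by
    refine ⟨fun r hr => Subtype.ext (hfpf r r.2 (congrArg Subtype.val hr)), ?_,
      fun r => Subtype.ext ?_, fun r => Subtype.ext ?_⟩
    · obtain ⟨k, hk⟩ : ∃ k, b = 2 * k + 1 := ⟨b / 2, by omega⟩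
      refine ⟨k, fun r => Subtype.ext ?_⟩
      have hit : ∀ (n : ℕ) (r : R), ((φ^[n] r : R) : G) = β ^ n * r * (β ^ n)⁻¹ := by
        intro n
        induction n with
        | zero => intro r; simp
        | succ n ih =>
          intro r
          rw [Function.iterate_succ_apply, ih, hφv, pow_succ]
          group
      rw [hit, ← hk, hβb]
      group
    · rw [hψv, hψv, hyi, show y * (y * (r : G) * y) * y = (y * y) * r * (y * y) by group,
        Involution.mul_self hy.2.1, one_mul, mul_one]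
    · rw [hφv, hψv, hφv, hψv]
      have e : β * y * β = y := by
        have := hβy
        rw [mul_inv_eq_iff_eq_mul] at this
        rw [mul_assoc, this, mul_inv_cancel_left]
      calc β * (y * (β * r * β⁻¹) * y⁻¹) * β⁻¹ = (β * y * β) * r * (β * y * β)⁻¹ := by group
        _ = y * r * y⁻¹ := by rw [e]
  have hsq2 : ∀ {r : R}, r * r = 1 → r ≠ 1 → orderOf (r : G) = 2 := fun {r} hr hr1 =>
    hord (congrArg Subtype.val hr) fun e => hr1 (Subtype.ext e)
  have H : WeakStruct.Hyp φ ψ ⟨z, hzR⟩ := by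
    refine ⟨hact, hRp, Subtype.ext hzz, fun e => hz1 (congrArg Subtype.val e), Subtype.ext ?_,
      ?_, ?_, ⟨⟨a₀, ha₀⟩, ⟨b₀, hb₀⟩, Subtype.ext (Involution.mul_self ha₀2),
        Subtype.ext (Involution.mul_self hb₀2), fun e => hab₀ (congrArg Subtype.val e.eq)⟩⟩
    · rw [hψv, (p.z_comm y hy.1).eq, mul_inv_cancel_right]
    · intro r hr hr2
      by_cases hr1 : r = 1
      · exact Or.inl hr1
      · refine Or.inr (Subtype.ext (huniq (hmemR.1 r.2).1 (hsq2 hr2 hr1) (hmemR.1 r.2).2 ?_))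
        exact (mul_inv_eq_iff_eq_mul.1 (congrArg Subtype.val hr)).symm
    · intro e
      have e' := congrArg Subtype.val e
      simp only [hφv] at e'
      refine hq3 (2 ^ a2 * 5) (fun hd => ?_) ?_
      · rcases (Nat.Prime.dvd_mul Nat.prime_three).1 hd with h' | h'
        · exact h3dvd h'
        · norm_num at h'
      · rw [pow_mul, ← hβ]
        refine Eq.trans ?_ e'
        simp only [pow_succ, pow_zero, one_mul]
        group
  obtain ⟨A, B, P⟩ := H.exists_pair
  -- the centre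
  have hcz : ∀ {g : G} (hg : g ∈ R), (⟨g, hg⟩ : R) ∈ center R ↔ ∀ r ∈ R, Commute r g := by
    intro g hg
    rw [mem_center_iff]
    exact ⟨fun hc r hr => congrArg Subtype.val (hc ⟨r, hr⟩), fun hc r => Subtype.ext (hc r r.2).eq⟩
  have hvc : (⟨v, hvR⟩ : R) ∈ center R := (hcz hvR).2 fun r hr => (hmemR.1 hr).2
  have hcsq : ∀ {e : R}, e ∈ center R → e * e = 1 := fun he => P.sqA _ (P.centerA he)
  -- outside `R` the two groups are swapped
  have hswap : ∀ {t : G}, t ∈ S → ¬ Commute t v → ∀ {r r' : R}, (r' : G) = t * r * t⁻¹ →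
      (r ∈ A → r' ∈ B) ∧ (r ∈ B → r' ∈ A) := by
    intro t ht htv r r' he
    set r0 : R := ⟨y * t, hout ht htv⟩
    have e2 : r' = ψ (r0 * r * r0⁻¹) := Subtype.ext (by
      rw [hψv, he]
      simp only [Subgroup.coe_mul, Subgroup.coe_inv, r0]
      rw [hyi, mul_inv_rev, hyi,
        show y * (y * t * r * (t⁻¹ * y)) * y = (y * y) * (t * r * t⁻¹) * (y * y) by group,
        Involution.mul_self hy.2.1, one_mul, mul_one])
    exact ⟨fun hr => e2 ▸ P.swapA _ (P.conjA r0 hr), fun hr => e2 ▸ P.swapB _ (P.conjB r0 hr)⟩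
  have hiso : ∀ {t : G}, t ∈ S → ¬ Commute t v → ∀ {r : R}, r * r = 1 → Commute t (r : G) →
      r = 1 ∨ r = ⟨z, hzR⟩ := by
    intro t ht htv r hr2 hc
    have e : (r : G) = t * r * t⁻¹ := by rw [hc.eq, mul_inv_cancel_right]
    have hrc : r ∈ center R := by
      rcases P.cases hr2 with h' | h'
      · exact P.meet r h' ((hswap ht htv e).1 h')
      · exact P.meet r ((hswap ht htv e).2 h') h'
    have htz : Commute t z := p.z_comm t ht
    rcases hcenR r.2 (congrArg Subtype.val hr2) ((hcz r.2).1 hrc) with e' | e' | e' | e'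
    · exact Or.inl (Subtype.ext e')
    · exact Or.inr (Subtype.ext e')
    · exact absurd (e' ▸ hc) htv
    · refine absurd ?_ htv
      have := htz.mul_right (e' ▸ hc : Commute t (z * v))
      rwa [← mul_assoc, hzz, one_mul] at this
  obtain ⟨a', b', ha', hb', hab'⟩ :=
    H.exists_commutator hvc fun e => hv1 (congrArg Subtype.val e)
  have hcab : (a' : G) * b' * (a' : G)⁻¹ * (b' : G)⁻¹ = v := congrArg Subtype.val hab'
  have ha'c : a' ∉ center R := fun hc => hv1 (by
    rw [← hcab, ((hcz a'.2).1 hc b' b'.2).symm.eq, mul_inv_cancel_right, mul_inv_cancel])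
  have hb'1 : b' ≠ 1 := fun e => hv1 (by rw [← hcab, e]; simp)
  refine ⟨⟨⟨a', (hmemR.1 a'.2).1, b', (hmemR.1 b'.2).1,
    hsq2 ha' (fun e => ha'c (e ▸ one_mem _)), hsq2 hb' hb'1, hcab⟩, ?_, ?_⟩, ?_⟩
  · intro x hxS hxv hxx
    set xR : R := ⟨x, hmemR.2 ⟨hxS, hxv⟩⟩
    obtain ⟨t, ht2, htc, htx⟩ := P.exists_inverter (x := xR) (fun e => hz1 (by
      rw [← hxx]; exact congrArg Subtype.val e))
    refine ⟨t, (hmemR.1 t.2).1, hsq2 ht2 (fun e => htc (e ▸ one_mem _)), fun e => htc ?_,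
      (hmemR.1 t.2).2, congrArg Subtype.val htx⟩
    exact (hcz t.2).2 fun r hr => e ▸ p.z_comm r (hmemR.1 hr).1
  · intro x hxS a haS b hbS c hcS c' hc'S hxx ha hb hc hc' hab hxa hxb hca hc'b hcx hc'x
    have hzx : Commute z x := (p.z_comm x hxS).symm
    -- `a` and `b` centralise `v`
    have hin : ∀ {a c : G}, a ∈ S → c ∈ S → orderOf a = 2 → orderOf c = 2 → Commute c a →
        Commute x a → ¬ Commute c x → Commute a v := by
      intro a c haS hcS ha hc hca hxa hcx
      by_contra hav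
      by_cases hcv : Commute c v
      · rcases hiso haS hav (r := ⟨c, hmemR.2 ⟨hcS, hcv⟩⟩) (Subtype.ext (Involution.mul_self hc))
          hca.symm with e | e
        · exact Involution.ne_one hc (congrArg Subtype.val e)
        · have ec : c = z := congrArg Subtype.val e
          exact hcx (ec ▸ hzx)
      · have hR1 := commute_mul p.z_mem p.z2 p.z_comm p.v_mem p.v2 p.vz p.mark hcS haS hcv hav
        have hc0 : ∀ {g : G}, c = g → Commute g x → False := fun e hg => hcx (e ▸ hg)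
        rcases hiso haS hav (r := ⟨c * a, hmemR.2 ⟨S.mul_mem hcS haS, hR1⟩⟩)
          (Subtype.ext (by
            show c * a * (c * a) = 1
            rw [hca.symm.mul_mul_mul_comm, Involution.mul_self hc, Involution.mul_self ha, one_mul]))
          (hca.symm.mul_right (Commute.refl a)) with e | e
        · refine hc0 (g := a⁻¹) ?_ hxa.symm.inv_left
          exact eq_inv_of_mul_eq_one_left (congrArg Subtype.val e)
        · refine hc0 (g := z * a⁻¹) ?_ (hzx.mul_left hxa.symm.inv_left)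
          rw [← show c * a = z from congrArg Subtype.val e, mul_inv_cancel_right]
    have hav := hin haS hcS ha hc hca hxa hcx
    have hbv := hin hbS hc'S hb hc' hc'b hxb hc'x
    set aR : R := ⟨a, hmemR.2 ⟨haS, hav⟩⟩
    set bR : R := ⟨b, hmemR.2 ⟨hbS, hbv⟩⟩
    have haR2 : aR * aR = 1 := Subtype.ext (Involution.mul_self ha)
    have hnc : ¬ Commute aR bR := fun e => hz1 (by
      rw [← hab, show a * b = b * a from congrArg Subtype.val e.eq, mul_inv_cancel_right,
        mul_inv_cancel])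
    by_cases hxv : Commute x v
    · refine hz1 (hxx ▸ ?_)
      exact congrArg Subtype.val (P.sq_eq_one_of_commute (x := (⟨x, hmemR.2 ⟨hxS, hxv⟩⟩ : R)) haR2
        (show bR * bR = 1 from Subtype.ext (Involution.mul_self hb)) hnc (Subtype.ext hxa.eq)
        (Subtype.ext hxb.eq))
    · have e : (aR : G) = x * aR * x⁻¹ := by
        show a = x * a * x⁻¹
        rw [hxa.eq, mul_inv_cancel_right]
      have hac : aR ∈ center R := by
        rcases P.cases haR2 with h' | h'
        · exact P.meet aR h' ((hswap hxS hxv e).1 h')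
        · exact P.meet aR ((hswap hxS hxv e).2 h') h'
      exact hnc (mem_center_iff.1 hac bR).symm
  · intro u hu huu
    by_cases huv : Commute u v
    · exact ⟨v, p.v_mem, p.v2, p.vz, huv.symm⟩
    set y' := v * u with hy'
    have hy'S : y' ∈ S := S.mul_mem p.v_mem hu
    have hy'v : ¬ Commute y' v := fun e => huv (by
      have := (Commute.refl v).inv_left.mul_left e
      rwa [hy', inv_mul_cancel_left] at this)
    have hy'2 : y' * y' = 1 := by
      rw [hy', show v * u * (v * u) = v * (u * v * u⁻¹) * (u * u) by group, hmoves hu huv, huu,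
        ← mul_assoc v z, ← hzv.eq, mul_assoc z v v, hvv, mul_one, hzz]
    have hy'i : y'⁻¹ = y' := inv_eq_of_mul_eq_one_right hy'2
    have hy'R : y' * (a' : G) * y'⁻¹ ∈ R := by
      obtain ⟨r0, hr0, e⟩ : ∃ r0 ∈ R, y' = y * r0 :=
        ⟨y * y', hout hy'S hy'v, by rw [← mul_assoc, Involution.mul_self hy.2.1, one_mul]⟩
      rw [e, show y * r0 * (a' : G) * (y * r0)⁻¹ = y * (r0 * a' * r0⁻¹) * y⁻¹ by group]
      exact hyR (R.mul_mem (R.mul_mem hr0 a'.2) (R.inv_mem hr0))
    set a'' : R := ⟨_, hy'R⟩ with ha''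
    have ha''2 : a'' * a'' = 1 := Subtype.ext (by
      show y' * (a' : G) * y'⁻¹ * (y' * (a' : G) * y'⁻¹) = 1
      rw [show y' * (a' : G) * y'⁻¹ * (y' * (a' : G) * y'⁻¹) = y' * ((a' : G) * a') * y'⁻¹ by group,
        show (a' : G) * a' = 1 from congrArg Subtype.val ha']
      group)
    set k : R := a' * a'' with hk
    have hkk : k * k = ⁅a', a''⁆ := by
      rw [commutatorElement_def, inv_eq_of_mul_eq_one_right ha', inv_eq_of_mul_eq_one_right ha''2,
        hk, ← mul_assoc]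
    have hkc : k * k ∈ center R := hkk ▸ P.comm _ _
    have hkne : k * k ≠ 1 := by
      intro e
      rw [hkk, commutatorElement_eq_one_iff_commute] at e
      have he : (a'' : G) = y' * a' * y'⁻¹ := rfl
      have hca'' : a'' ∈ center R → a' ∈ center R := by
        intro hc
        refine (hcz a'.2).2 fun r hr => ?_
        have h1 := ((hcz a''.2).1 hc (y' * r * y'⁻¹) (by
          obtain ⟨r0, hr0, e⟩ : ∃ r0 ∈ R, y' = y * r0 :=
            ⟨y * y', hout hy'S hy'v, by rw [← mul_assoc, Involution.mul_self hy.2.1, one_mul]⟩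
          rw [e, show y * r0 * r * (y * r0)⁻¹ = y * (r0 * r * r0⁻¹) * y⁻¹ by group]
          exact hyR (R.mul_mem (R.mul_mem hr0 hr) (R.inv_mem hr0)))).map
            (MulAut.conj y'⁻¹).toMonoidHom
        simpa [ha'', mul_assoc] using h1
      rcases P.cases ha' with h' | h'
      · rcases P.nc a' h' a'' ((hswap hy'S hy'v he).1 h') e with hc | hc
        · exact ha'c hc
        · exact ha'c (hca'' hc)
      · rcases P.nc a'' ((hswap hy'S hy'v he).2 h') a' h' e.symm with hc | hc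
        · exact ha'c (hca'' hc)
        · exact ha'c hc
    have hflip : y' * (k : G) * y'⁻¹ = (k : G)⁻¹ := by
      simp only [hk, ha'', Subgroup.coe_mul, mul_inv_rev]
      rw [inv_inv, hy'i, inv_eq_of_mul_eq_one_right
        (show (a' : G) * a' = 1 from congrArg Subtype.val ha')]
      calc y' * ((a' : G) * (y' * a' * y')) * y' = y' * a' * y' * a' * (y' * y') := by group
        _ = y' * (a' * y') * a' := by rw [hy'2]; group
    have hkz : (k : G) * k = z := by
      have hc2 : Commute y' ((k * k : R) : G) := by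
        refine mul_inv_eq_iff_eq_mul.1 ?_
        show y' * ((k : G) * k) * y'⁻¹ = (k : G) * k
        rw [show y' * ((k : G) * k) * y'⁻¹ = (y' * k * y'⁻¹) * (y' * k * y'⁻¹) by group, hflip,
          ← mul_inv_rev]
        refine inv_eq_of_mul_eq_one_right ?_
        exact congrArg Subtype.val (hcsq hkc)
      rcases hiso hy'S hy'v (hcsq hkc) hc2 with e | e
      · exact absurd e hkne
      · exact congrArg Subtype.val e
    set r : G := (k : G) * v with hr
    have hrR : r ∈ R := R.mul_mem k.2 hvR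
    have hkv : Commute (k : G) v := (hmemR.1 k.2).2
    have hrr : r * r = z := by rw [hr, hkv.symm.mul_mul_mul_comm, hkz, hvv, mul_one]
    have hry' : Commute y' r := by
      refine mul_inv_eq_iff_eq_mul.1 ?_
      have hki : (k : G)⁻¹ = k * z := inv_eq_of_mul_eq_one_right (by
        rw [← mul_assoc, hkz, hzz])
      rw [hr, show y' * ((k : G) * v) * y'⁻¹ = (y' * k * y'⁻¹) * (y' * v * y'⁻¹) by group, hflip,
        hmoves hy'S hy'v, hki, mul_assoc, ← mul_assoc z z v, hzz, one_mul]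
    have hru : Commute u r := by
      have h1 : Commute v r := ((hmemR.1 hrR).2).symm
      have := h1.inv_left.mul_left hry'
      rwa [hy', inv_mul_cancel_left] at this
    refine ⟨u * r, S.mul_mem hu (hmemR.1 hrR).1, hord ?_ (fun e => huv ?_), fun e => huv ?_,
      (Commute.refl u).mul_left hru.symm⟩
    · rw [hru.symm.mul_mul_mul_comm, huu, hrr, hzz]
    · rw [eq_inv_of_mul_eq_one_left e]
      exact (hmemR.1 hrR).2.inv_left
    · rw [show u = z * r⁻¹ by rw [← e, mul_inv_cancel_right]]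
      exact hzv.mul_left (hmemR.1 hrR).2.inv_left

end fill

end Cfsg.Agent.CoreKilling
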