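import Cfsg.Agent.Lib.CoreKilling.WeakInduct
import Cfsg.Agent.Lib.CoreKilling.CoreWrap
import Cfsg.Agent.Lib.TwoTimesPSL.Transfer
import Cfsg.Agent.Lib.PGroup.MaximalClass
import Cfsg.Agent.S0221

/-!
# Core killing, rank three: weak completions in a group without subgroup of index two
(owner: helper90; notes/core_killing_weak_e8.md (A))

* `card_le_four_of_centralizer` : a 2-group with a centraliser of order 4 has rank two
* `exists_e8_sylow`, `exists_mark_of_e8` : an `E₈` and a normal four-group in `S`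
* `false_of_isolated_sylow` : transfer against an isolated involution with extremal centraliser
* `Setting.genW` : a `Setting` is a weak completion
-/

set_option autoImplicit false
set_option linter.unusedSectionVars false
set_option linter.style.haveILetI false

namespace Cfsg.Agent.CoreKilling

open Subgroup
open scoped commutatorElement

universe u

/-- A 2-group with a centraliser of order at most 4 has no `E₈`. -/
theorem card_le_four_of_centralizer {X : Type u} [Group X] [Finite X] (hX : IsPGroup 2 X) {x : X}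
    (hx : Nat.card (centralizer ({x} : Set X)) ≤ 4) {E : Subgroup X}
    (hE : Cfsg.IsElementaryAbelian 2 E) : Nat.card E ≤ 4 := by
  haveI : Fact (Nat.Prime 2) := ⟨Nat.prime_two⟩
  by_cases h4 : Nat.card X ≤ 4
  · exact (card_le_card_group E).trans h4
  set C := centralizer ({x} : Set X) with hC
  set D := _root_.commutator X with hD
  have hle : C.index ≤ Nat.card D := by
    rw [index_eq_card]
    refine Nat.card_le_card_of_injective
      (fun q : X ⧸ C => (⟨⁅q.out, x⁆, commutator_mem_commutator (mem_top _) (mem_top _)⟩ : D))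
      fun a b hab => ?_
    have h1 : a.out * x * a.out⁻¹ = b.out * x * b.out⁻¹ := by
      have := congrArg Subtype.val hab
      simp only [commutatorElement_def] at this
      exact mul_right_cancel this
    rw [← QuotientGroup.out_eq' a, ← QuotientGroup.out_eq' b, QuotientGroup.eq,
      mem_centralizer_singleton_iff]
    calc a.out⁻¹ * b.out * x = a.out⁻¹ * (b.out * x * b.out⁻¹) * b.out := by group
      _ = x * (a.out⁻¹ * b.out) := by rw [← h1]; group
  have hidx : D.index ≤ 4 := by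
    refine Nat.le_of_mul_le_mul_left (?_ : Nat.card D * D.index ≤ Nat.card D * 4) Nat.card_pos
    rw [D.card_mul_index, ← C.card_mul_index, mul_comm (Nat.card D)]
    exact Nat.mul_le_mul hx hle
  have hne : D ≠ ⊥ := fun e => h4 (by rwa [e, index_bot] at hidx)
  have h4' : D.index = 4 := le_antisymm hidx (PGroup.index_commutator_ge hX hne)
  obtain ⟨n, hn⟩ := IsPGroup.iff_card.1 hX
  have hn3 : 3 ≤ n := by
    by_contra hlt
    exact h4 (hn ▸ (Nat.pow_le_pow_right two_pos (show n ≤ 2 by omega) : 2 ^ n ≤ 2 ^ 2))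
  obtain ⟨a, ha⟩ := PGroup.cyclic_index_two_of_card_ab n X hn3 hn h4'
  haveI : (zpowers a).Normal := normal_of_index_eq_two ha
  set B := zpowers a ⊓ E with hB
  haveI : IsCyclic B := isCyclic_of_injective (Subgroup.inclusion (inf_le_left : B ≤ zpowers a))
    (Subgroup.inclusion_injective _)
  have hB2 : Nat.card B ≤ 2 := by
    rw [← IsCyclic.exponent_eq_card]
    exact Nat.le_of_dvd two_pos
      (Monoid.exponent_dvd_of_forall_pow_eq_one fun b => Subtype.ext (hE.2 _ b.2.2))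
  have hr : (zpowers a).relIndex E ≤ 2 :=
    Nat.le_of_dvd two_pos (ha ▸ relIndex_dvd_index_of_normal (zpowers a) E)
  have hcard : Nat.card E = Nat.card B * (zpowers a).relIndex E := by
    rw [relIndex, ← ((zpowers a).subgroupOf E).card_mul_index, ← inf_subgroupOf_right,
      Cores.card_subgroupOf (inf_le_right : B ≤ E)]
  rw [hcard]
  exact Nat.mul_le_mul hB2 hr

variable {G : Type u} [Group G] [Finite G] {S : Sylow 2 G} {W : Subgroup G}

/-- An `E₈` in every Sylow 2-subgroup. -/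
theorem exists_e8_sylow (h3 : ¬ Cfsg.PRankLE 2 2 G) (S : Sylow 2 G) :
    ∃ F : Subgroup G, F ≤ (S : Subgroup G) ∧ Cfsg.IsElementaryAbelian 2 F ∧
      2 ^ 3 ≤ Nat.card F := by
  haveI : Fact (Nat.Prime 2) := ⟨Nat.prime_two⟩
  have h3' : ¬ Cfsg.PRankLE 2 2 ↥(⊤ : Subgroup G) := fun h => h3 fun A hA hA2 => by
    have := h (A.subgroupOf ⊤) ⟨⟨fun a b => Subtype.ext (Subtype.ext
      (Signalizer.commute_of_isMulCommutative hA a.2 b.2))⟩⟩
      (fun a ha => Subtype.ext (hA2 a ha))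
    rwa [Cores.card_subgroupOf le_top] at this
  obtain ⟨F, -, hF, hF3⟩ := Signalizer.exists_rank_three_le h3'
  obtain ⟨Q, hQ⟩ := (Signalizer.isPGroup_of_elemAb hF).exists_le_sylow
  obtain ⟨g, hg⟩ := MulAction.exists_smul_eq G Q S
  refine ⟨F.map (MulAut.conj g).toMonoidHom, ?_, elemAb_map hF _,
    by rwa [card_map_of_injective (MulAut.conj g).injective]⟩
  rintro _ ⟨e, he, rfl⟩
  rw [← hg]
  exact ⟨e, hQ he, rfl⟩

/-- An involution of `S` spanning a normal four-group with a central one. -/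
theorem exists_mark_of_e8 {z : G} (hz : orderOf z = 2) (hzS : z ∈ S)
    (hzc : ∀ s ∈ S, Commute s z) {F : Subgroup G} (hFS : F ≤ (S : Subgroup G))
    (hF : Cfsg.IsElementaryAbelian 2 F) (hF3 : 2 ^ 3 ≤ Nat.card F) :
    ∃ v, v ∈ S ∧ orderOf v = 2 ∧ v ≠ z ∧
      ∀ s ∈ S, s * v * s⁻¹ * v⁻¹ = 1 ∨ s * v * s⁻¹ * v⁻¹ = z := by
  obtain ⟨b, hb, hbc, hbm⟩ := exists_marked (P := ↥(S : Subgroup G)) S.isPGroup'
    (c := ⟨z, hzS⟩) (by rw [Subgroup.orderOf_mk]; exact hz)
    (mem_center_iff.2 fun s => Subtype.ext (hzc _ s.2).eq)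
    (F := F.subgroupOf (S : Subgroup G))
    (fun a ha c hc => Subtype.ext (Signalizer.commute_of_isMulCommutative hF.1
      (mem_subgroupOf.1 ha) (mem_subgroupOf.1 hc)))
    (fun a ha => Subtype.ext ((pow_two (a : G)).symm.trans (hF.2 _ (mem_subgroupOf.1 ha))))
    (by rw [Cores.card_subgroupOf hFS]; exact hF3)
  refine ⟨b, b.2, by rw [Subgroup.orderOf_coe]; exact hb, fun e => hbc (Subtype.ext e),
    fun s hs => (hbm ⟨s, hs⟩).imp (fun e => ?_) fun e => ?_⟩
  · have e' : s * b * s⁻¹ = (b : G) := congrArg Subtype.val e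
    rw [e', mul_inv_cancel]
  · have e' : s * b * s⁻¹ = (b : G) * z := congrArg Subtype.val e
    rw [e', (hzc _ b.2).eq, mul_inv_cancel_right]

/-- No isolated involution has an extremal centraliser in `C(z)`. -/
theorem false_of_isolated_sylow (hno : TwoTimesPSL.NoIndexTwo G) {F : Subgroup G}
    (hFS : F ≤ (S : Subgroup G)) (hF : Cfsg.IsElementaryAbelian 2 F) (hF3 : 2 ^ 3 ≤ Nat.card F)
    {x z : G} (hy : Isolated (S : Subgroup G) x) (hzS : z ∈ S) (hz : orderOf z = 2)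
    (hzc : ∀ s ∈ S, Commute s z)
    (hmax : ∀ T : Subgroup G, IsPGroup 2 T →
      T ≤ centralizer ({x} : Set G) ⊓ centralizer ({z} : Set G) →
      (S : Subgroup G) ⊓ centralizer ({x} : Set G) ≤ T → T ≤ (S : Subgroup G)) : False := by
  haveI : Fact (Nat.Prime 2) := ⟨Nat.prime_two⟩
  set P : Subgroup G := (S : Subgroup G) ⊓ centralizer ({x} : Set G) with hP
  have hPp : IsPGroup 2 P := S.isPGroup'.to_le inf_le_left
  have hxc : ∀ {a : G}, a ∈ P → Commute a x := fun ha => mem_centralizer_singleton_iff.1 ha.2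
  have hsmall : ∀ E : Subgroup G, Cfsg.IsElementaryAbelian 2 E → E ≤ P → Nat.card E ≤ 4 := by
    intro E hE hEP
    have hsup : Cfsg.IsElementaryAbelian 2 (E ⊔ zpowers x : Subgroup G) :=
      Signalizer.elemAb_sup hE (isElementaryAbelian_zpowers (hy.2.1 ▸ pow_orderOf_eq_one x))
        fun a ha b hb => by
          obtain ⟨i, rfl⟩ := mem_zpowers_iff.1 hb
          exact ((hxc (hEP ha)).zpow_right i).eq
    obtain ⟨k, hk⟩ := IsPGroup.iff_card.1 (Signalizer.isPGroup_of_elemAb hE)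
    rw [hk]
    refine (Nat.pow_le_pow_right two_pos ?_ : 2 ^ k ≤ 2 ^ 2)
    by_contra hlt
    exact hy.2.2 _ (sup_le (hEP.trans inf_le_left) (zpowers_le.2 hy.1)) hsup
      (((Nat.pow_le_pow_right two_pos (show 3 ≤ k by omega)).trans hk.ge).trans
        (card_le_of_le le_sup_left)) (mem_sup_right (mem_zpowers x))
  obtain ⟨v, hvS, hv, hvz, hmark⟩ := exists_mark_of_e8 hz hzS hzc hFS hF hF3
  by_cases hexp : ∀ a ∈ P, a * a = 1
  · -- `C_S(x)` of order four
    have hPe : Cfsg.IsElementaryAbelian 2 P := by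
      refine ⟨⟨⟨fun a b => ?_⟩⟩, fun a ha => by rw [pow_two]; exact hexp a ha⟩
      exact (Commute.of_orderOf_dvd_two (fun g : P => orderOf_dvd_of_pow_eq_one
        (Subtype.ext (by rw [Subgroup.coe_pow, pow_two]; exact hexp g g.2))) a b).eq
    have hc : centralizer ({(⟨x, hy.1⟩ : ↥(S : Subgroup G))} : Set ↥(S : Subgroup G)) =
        P.subgroupOf (S : Subgroup G) := by
      ext a
      rw [mem_subgroupOf, mem_centralizer_singleton_iff]
      exact ⟨fun e => ⟨a.2, mem_centralizer_singleton_iff.2 (congrArg Subtype.val e)⟩,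
        fun e => Subtype.ext (hxc e).eq⟩
    have h1 := card_le_four_of_centralizer S.isPGroup' (x := (⟨x, hy.1⟩ : ↥(S : Subgroup G)))
      (by rw [hc, Cores.card_subgroupOf inf_le_left]; exact hsmall P hPe le_rfl)
      (elemAb_subgroupOf hF (S : Subgroup G))
    rw [Cores.card_subgroupOf hFS] at h1
    omega
  push Not at hexp
  obtain ⟨s, hsP, hs⟩ := hexp
  obtain ⟨t, htP, ht⟩ : ∃ t ∈ P, orderOf (t * t) = 2 := by
    obtain ⟨k, hk⟩ := IsPGroup.iff_orderOf.1 hPp ⟨s, hsP⟩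
    rw [Subgroup.orderOf_mk] at hk
    obtain ⟨j, rfl⟩ : ∃ j, k = j + 2 := by
      refine ⟨k - 2, ?_⟩
      by_contra hlt
      refine hs ?_
      rw [← pow_two]
      exact orderOf_dvd_iff_pow_eq_one.1
        (hk ▸ (pow_dvd_pow 2 (show k ≤ 1 by omega) : 2 ^ k ∣ 2 ^ 1))
    refine ⟨s ^ 2 ^ j, pow_mem hsP _, ?_⟩
    rw [← pow_add, ← two_mul, ← pow_succ', orderOf_pow' _ (by positivity), hk,
      Nat.gcd_eq_right (pow_dvd_pow 2 (Nat.le_succ (j + 1))), pow_succ 2 (j + 1),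
      Nat.mul_div_cancel_left _ (by positivity)]
  -- the only involution that is a square
  have hsq : ∀ a ∈ P, orderOf (a * a) = 2 → a * a = z := fun a ha ha2 =>
    eq_z_of_commute hzS hz hzc hvS hv hvz hmark hy ⟨F, hFS, hF, hF3⟩ (S.mul_mem ha.1 ha.1) ha2
      (by
        by_cases hav : Commute a v
        · exact hav.mul_left hav
        · exact commute_mul hzS hz hzc hvS hv hvz hmark ha.1 ha.1 hav hav)
      ((hxc ha).mul_left (hxc ha))
  have hSyl : ∀ T : Subgroup G, IsPGroup 2 T → T ≤ centralizer ({x} : Set G) → P ≤ T → T ≤ P := by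
    intro T hT hTC hPT
    by_contra hnot
    have hne : P.subgroupOf T ≠ ⊤ := fun e => hnot (subgroupOf_eq_top.1 e)
    obtain ⟨g, hg, hgP⟩ := PGroup.exists_mem_normalizer_not_mem hT hne
    have hgt : (g : G) * t * (g : G)⁻¹ ∈ P :=
      mem_subgroupOf.1 ((mem_normalizer_iff.1 hg ⟨t, hPT htP⟩).1 (mem_subgroupOf.2 htP))
    have h1 : (g : G) * t * (g : G)⁻¹ * ((g : G) * t * (g : G)⁻¹) = g * z * (g : G)⁻¹ := by
      rw [← hsq t htP ht]; group
    have h2 := hsq _ hgt (by rw [h1, Involution.orderOf_conj, hz])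
    rw [h1, mul_inv_eq_iff_eq_mul] at h2
    have hle := hmax (T ⊓ centralizer ({z} : Set G)) (hT.to_le inf_le_left)
      (le_inf (inf_le_left.trans hTC) inf_le_right)
      (le_inf hPT fun a ha => mem_centralizer_singleton_iff.2 (hzc a ha.1))
    exact hgP (mem_subgroupOf.2
      ⟨hle ⟨g.2, mem_centralizer_singleton_iff.2 h2⟩, hTC g.2⟩)
  -- transfer
  obtain ⟨F₈, hF₈, hF₈c, hF₈2⟩ : ∃ E : Subgroup G, E ≤ F ∧ Nat.card E = 8 ∧ ∀ e ∈ E, e ^ 2 = 1 := by
    obtain ⟨k, hk⟩ := IsPGroup.iff_card.1 (Signalizer.isPGroup_of_elemAb hF)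
    have hk3 : 3 ≤ k := by
      by_contra hlt
      have := hF3.trans (hk.le.trans (Nat.pow_le_pow_right two_pos (show k ≤ 2 by omega)))
      norm_num at this
    obtain ⟨E, hE⟩ := Sylow.exists_subgroup_card_pow_prime (G := F) 2
      (n := 3) (hk ▸ pow_dvd_pow 2 hk3)
    exact ⟨E.map F.subtype, map_subtype_le E, by rw [Cores.card_map_subtype, hE]; norm_num,
      fun e he => hF.2 e (map_subtype_le E he)⟩
  obtain ⟨E, hEC, hEc, hE2⟩ := S0221.result hno ⟨F₈, hF₈c, hF₈2⟩ x hy.2.1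
  have hEe : Cfsg.IsElementaryAbelian 2 E :=
    ⟨⟨⟨fun a b => (Commute.of_orderOf_dvd_two (fun g : E => orderOf_dvd_of_pow_eq_one
      (Subtype.ext (hE2 g g.2))) a b).eq⟩⟩, hE2⟩
  set C := centralizer ({x} : Set G) with hC
  obtain ⟨Q, hQ⟩ := (hPp.comap_of_injective C.subtype C.subtype_injective).exists_le_sylow
  obtain ⟨R, hR⟩ :=
    ((Signalizer.isPGroup_of_elemAb hEe).comap_of_injective C.subtype C.subtype_injective).exists_le_sylow
  obtain ⟨g, hg⟩ := MulAction.exists_smul_eq C R Q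
  have hQP : (Q : Subgroup C).map C.subtype ≤ P :=
    hSyl _ (Q.isPGroup'.map C.subtype) (map_subtype_le _)
      fun a ha => ⟨⟨a, ha.2⟩, hQ (show (⟨a, ha.2⟩ : C) ∈ P.comap C.subtype from ha), rfl⟩
  have hle : E.map (MulAut.conj (g : G)).toMonoidHom ≤ P := by
    rintro _ ⟨e, he, rfl⟩
    refine hQP ⟨g * ⟨e, hEC he⟩ * g⁻¹, ?_, rfl⟩
    rw [← hg]
    exact ⟨⟨e, hEC he⟩, hR (show (⟨e, hEC he⟩ : C) ∈ E.comap C.subtype from he), rfl⟩
  have h1 := hsmall _ (elemAb_map hEe _) hle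
  rw [card_map_of_injective (MulAut.conj (g : G)).injective, hEc] at h1
  omega

/-- **Part (A).** A `Setting` in a group of rank at least three without subgroup of index two is a
weak completion. -/
theorem Setting.genW (h : Setting S W) (hno : TwoTimesPSL.NoIndexTwo G)
    (h3 : ¬ Cfsg.PRankLE 2 2 G) : GenW (fun a => Cfsg.centralizerPPrimeCore 2 a) S W := by
  haveI : Fact (Nat.Prime 2) := ⟨Nat.prime_two⟩
  refine ⟨⟨fun g a => (Signalizer.map_conj_centralizerPPrimeCore a g).symm,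
    fun a _ => Signalizer.core_le_centralizer a, fun a _ => Signalizer.not_dvd_card_core a,
    h.odd, h.norm, h.fix⟩, fun _ _ _ => exists_e8_sylow h3 S, fun x hx hx2 z hzS hz hzc => ?_⟩
  obtain ⟨F₀, hF₀S, hF₀, hF₀3⟩ := exists_e8_sylow h3 S
  have hsup : ∀ {F : Subgroup G}, F ≤ (S : Subgroup G) → Cfsg.IsElementaryAbelian 2 F →
      2 ^ 3 ≤ Nat.card F → ∀ {a : G}, a ∈ F → ∃ D : Subgroup G, D ≤ (S : Subgroup G) ∧
        Cfsg.IsElementaryAbelian 2 D ∧ 2 ^ 3 ≤ Nat.card D ∧ a ∈ D ∧ z ∈ D :=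
    fun {F} hFS hF hF3 {a} ha => by
      obtain ⟨h1, h2⟩ := exists_sup_central hzS hz hzc hFS hF
      exact ⟨_, h1, h2, hF3.trans (card_le_of_le le_sup_left), mem_sup_left ha,
        mem_sup_right (mem_zpowers z)⟩
  by_cases hiso : Isolated (S : Subgroup G) x
  swap
  · obtain ⟨F, hFS, hF, hF3, hxF⟩ : ∃ F : Subgroup G, F ≤ (S : Subgroup G) ∧
        Cfsg.IsElementaryAbelian 2 F ∧ 2 ^ 3 ≤ Nat.card F ∧ x ∈ F := by
      by_contra hcon
      exact hiso ⟨hx, hx2, fun F hFS hF hF3 hxF => hcon ⟨F, hFS, hF, hF3, hxF⟩⟩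
    obtain ⟨D, hDS, hD⟩ := hsup hFS hF hF3 hxF
    exact ⟨D, hDS.trans h.norm, hD⟩
  have hzx : z ≠ x := fun e => by
    obtain ⟨D, hDS, hD, hD3, -, hzD⟩ := hsup hF₀S hF₀ hF₀3 F₀.one_mem
    exact hiso.2.2 D hDS hD hD3 (e ▸ hzD)
  set Γ : Subgroup G := centralizer ({x} : Set G) ⊓ centralizer ({z} : Set G) with hΓ
  have hxΓ : x ∈ Γ := ⟨mem_centralizer_singleton_iff.2 rfl,
    mem_centralizer_singleton_iff.2 (hzc x hx).eq⟩
  obtain ⟨Q, hQ⟩ := ((IsPGroup.of_card (G := zpowers x) (p := 2) (n := 1)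
    (by rw [Nat.card_zpowers, hx2, pow_one])).comap_of_injective Γ.subtype
      Γ.subtype_injective).exists_le_sylow
  obtain ⟨c, hc, hcS⟩ := TwoCore.exists_conj_sylow_mem S (Γ := centralizer ({z} : Set G))
    (fun s hs => mem_centralizer_singleton_iff.2 (hzc s hs)) (Q.isPGroup'.map Γ.subtype)
    ((map_subtype_le _).trans inf_le_right)
  have hcz : c * z * c⁻¹ = z := by
    rw [mem_centralizer_singleton_iff.1 hc, mul_inv_cancel_right]
  have hxQ : (⟨x, hxΓ⟩ : Γ) ∈ (Q : Subgroup Γ) :=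
    hQ (show (⟨x, hxΓ⟩ : Γ) ∈ (zpowers x).comap Γ.subtype from mem_zpowers x)
  have hx'S : c * x * c⁻¹ ∈ S := hcS x ⟨⟨x, hxΓ⟩, hxQ, rfl⟩
  by_cases hiso' : Isolated (S : Subgroup G) (c * x * c⁻¹)
  · refine (false_of_isolated_sylow hno hF₀S hF₀ hF₀3 hiso' hzS hz hzc
      fun T hT hTle hST t ht => ?_).elim
    set U := (T.comap (MulAut.conj c).toMonoidHom).subgroupOf Γ with hU
    have hUp : IsPGroup 2 U :=
      (hT.comap_of_injective _ (MulAut.conj c).injective).comap_of_injective Γ.subtype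
        Γ.subtype_injective
    have hQU : (Q : Subgroup Γ) ≤ U := fun q hq => mem_subgroupOf.2 <| hST
      ⟨hcS q ⟨q, hq, rfl⟩, mem_centralizer_singleton_iff.2
        ((show Commute (q : G) x from mem_centralizer_singleton_iff.1 q.2.1).map
          (MulAut.conj c).toMonoidHom).eq⟩
    have hUQ := Q.is_maximal' hUp hQU
    have htΓ : c⁻¹ * t * c ∈ Γ := by
      refine ⟨?_, ?_⟩
      · have h1 := conj_mem_centralizer (g := c⁻¹) (hTle ht).1
        rwa [inv_inv, show c⁻¹ * (c * x * c⁻¹) * c = x by group] at h1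
      · exact Subgroup.mul_mem _ (Subgroup.mul_mem _ (Subgroup.inv_mem _ hc) (hTle ht).2) hc
    have htQ : (⟨_, htΓ⟩ : Γ) ∈ (Q : Subgroup Γ) := by
      rw [← hUQ, hU, mem_subgroupOf]
      show c * (c⁻¹ * t * c) * c⁻¹ ∈ T
      rwa [show c * (c⁻¹ * t * c) * c⁻¹ = t by group]
    have h1 : c * (c⁻¹ * t * c) * c⁻¹ ∈ S := hcS _ ⟨⟨_, htΓ⟩, htQ, rfl⟩
    rwa [show c * (c⁻¹ * t * c) * c⁻¹ = t by group] at h1
  · obtain ⟨F, hFS, hF, hF3, hxF⟩ : ∃ F : Subgroup G, F ≤ (S : Subgroup G) ∧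
        Cfsg.IsElementaryAbelian 2 F ∧ 2 ^ 3 ≤ Nat.card F ∧ c * x * c⁻¹ ∈ F := by
      by_contra hcon
      exact hiso' ⟨hx'S, by rw [Involution.orderOf_conj]; exact hx2,
        fun F hFS hF hF3 hxF => hcon ⟨F, hFS, hF, hF3, hxF⟩⟩
    obtain ⟨D, hDS, hD, hD3, hxD, hzD⟩ := hsup hFS hF hF3 hxF
    set D' := D.comap (MulAut.conj c).toMonoidHom with hD'
    have heq : D.map (MulAut.conj c).symm.toMonoidHom = D' := D.map_equiv_eq_comap_symm' _
    have hxD' : x ∈ D' := hxD
    have hzD' : z ∈ D' := show c * z * c⁻¹ ∈ D by rw [hcz]; exact hzD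
    have hD'e : Cfsg.IsElementaryAbelian 2 D' := heq ▸ elemAb_map hD _
    refine ⟨D', ?_, hD'e, ?_, hxD', hzD'⟩
    · exact h.sylow_le (TwoCore.isFour_pair hx2 hz hzx (hzc x hx))
        (sup_le (zpowers_le.2 hx) (zpowers_le.2 hzS)) (Signalizer.isPGroup_of_elemAb hD'e)
        (sup_le (zpowers_le.2 hxD') (zpowers_le.2 hzD'))
    · rw [← heq, card_map_of_injective (MulAut.conj c).symm.injective]; exact hD3

end Cfsg.Agent.CoreKilling
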